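import Mathlib

/-!
# Weight spaces of a finite abelian group of semisimple operators (support for BG Theorem 3.6)

Generic theory over an algebraically closed field: simultaneous eigenspaces of a finite abelian
subgroup `B`, the action of elements normalising `B` on them, and the "one-dimensional fixed
space" argument.
-/

set_option autoImplicit false
set_option linter.unusedSectionVars false
set_option linter.unusedVariables false

namespace Cfsg.Agent.Helper27.BG36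

open Module

section Family

variable {K : Type*} [Field K] {M : Type*} [AddCommGroup M] [Module K M]

/-- Simultaneous eigenspace of a family of operators. -/
def wtF {ι : Type*} (f : ι → End K M) (χ : ι → K) : Submodule K M :=
  ⨅ i, (f i).eigenspace (χ i)

theorem mem_wtF {ι : Type*} (f : ι → End K M) (χ : ι → K) (v : M) :
    v ∈ wtF f χ ↔ ∀ i, f i v = χ i • v := by
  simp [wtF]

theorem wtF_eq_iInf_maxGen [FiniteDimensional K M] {ι : Type*}
    (f : ι → End K M) (hss : ∀ i, (f i).IsSemisimple) (χ : ι → K) :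
    wtF f χ = ⨅ i, (f i).maxGenEigenspace (χ i) := by
  unfold wtF
  congr 1
  ext i
  rw [(hss i).isFinitelySemisimple.maxGenEigenspace_eq_eigenspace]

theorem iSup_wtF [IsAlgClosed K] [FiniteDimensional K M] {ι : Type*}
    (f : ι → End K M) (hss : ∀ i, (f i).IsSemisimple) (hcomm : ∀ i j, Commute (f i) (f j)) :
    ⨆ χ : ι → K, wtF f χ = ⊤ := by
  simp_rw [wtF_eq_iInf_maxGen f hss]
  apply Module.End.iSup_iInf_maxGenEigenspace_eq_top_of_iSup_maxGenEigenspace_eq_top_of_commute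
  · intro i j _
    exact hcomm i j
  · intro i
    exact Module.End.iSup_maxGenEigenspace_eq_top (f i)

theorem iSupIndep_wtF [FiniteDimensional K M] {ι : Type*}
    (f : ι → End K M) (hss : ∀ i, (f i).IsSemisimple) (hcomm : ∀ i j, Commute (f i) (f j)) :
    iSupIndep (wtF f) := by
  have : wtF f = fun χ : ι → K => ⨅ i, (f i).maxGenEigenspace (χ i) := by
    funext χ
    exact wtF_eq_iInf_maxGen f hss χ
  rw [this]
  apply Module.End.independent_iInf_maxGenEigenspace_of_forall_mapsTo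
  intro i j φ
  exact Module.End.mapsTo_maxGenEigenspace_of_comm (hcomm i j).symm φ

/-- An operator of finite order prime to the characteristic is semisimple. -/
theorem isSemisimple_of_pow_eq_one [FiniteDimensional K M] {n : ℕ} (hn : (n : K) ≠ 0)
    {f : End K M} (hf : f ^ n = 1) : f.IsSemisimple := by
  have hsq : Squarefree (Polynomial.X ^ n - 1 : Polynomial K) :=
    (Polynomial.X_pow_sub_one_separable_iff.mpr hn).squarefree
  apply Module.End.isSemisimple_of_squarefree_aeval_eq_zero hsq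
  simp [hf]

end Family

section Grp

variable {K : Type*} [Field K] {M : Type*} [AddCommGroup M] [Module K M]
  {Γ : Type*} [Group Γ] (ψ : Γ →* End K M)

theorem psi_mul_apply (g h : Γ) (m : M) : ψ (g * h) m = ψ g (ψ h m) := by
  rw [map_mul]; rfl

theorem psi_one_apply (m : M) : ψ 1 m = m := by
  rw [map_one]; rfl

theorem psi_inv_apply (g : Γ) (m : M) : ψ g⁻¹ (ψ g m) = m := by
  rw [← psi_mul_apply, inv_mul_cancel, psi_one_apply]

theorem psi_apply_inv (g : Γ) (m : M) : ψ g (ψ g⁻¹ m) = m := by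
  rw [← psi_mul_apply, mul_inv_cancel, psi_one_apply]

/-- The action of `Γ` on submodules. -/
def act (g : Γ) (W : Submodule K M) : Submodule K M := W.map (ψ g)

theorem apply_mem_act {g : Γ} {W : Submodule K M} {m : M} (hm : m ∈ W) : ψ g m ∈ act ψ g W :=
  Submodule.mem_map_of_mem hm

theorem mem_act {g : Γ} {W : Submodule K M} {m : M} : m ∈ act ψ g W ↔ ψ g⁻¹ m ∈ W := by
  constructor
  · rintro ⟨m', hm', rfl⟩
    rw [psi_inv_apply]
    exact hm'
  · intro h
    exact ⟨ψ g⁻¹ m, h, psi_apply_inv ψ g m⟩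

theorem act_one (W : Submodule K M) : act ψ 1 W = W := by
  ext m
  rw [mem_act, inv_one, psi_one_apply]

theorem act_mul (g h : Γ) (W : Submodule K M) : act ψ (g * h) W = act ψ g (act ψ h W) := by
  ext m
  rw [mem_act, mem_act, mem_act, mul_inv_rev, psi_mul_apply]

theorem act_ne_bot {g : Γ} {W : Submodule K M} (hW : W ≠ ⊥) : act ψ g W ≠ ⊥ := by
  obtain ⟨m, hm, hm0⟩ := Submodule.exists_mem_ne_zero_of_ne_bot hW
  intro hbot
  have h1 : ψ g m ∈ act ψ g W := apply_mem_act ψ hm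
  rw [hbot, Submodule.mem_bot] at h1
  apply hm0
  rw [← psi_inv_apply ψ g m, h1, map_zero]

/-- The setwise stabiliser of a submodule. -/
def stab (W : Submodule K M) : Subgroup Γ where
  carrier := {g | act ψ g W = W}
  mul_mem' := by
    intro g h hg hh
    show act ψ (g * h) W = W
    rw [act_mul, show act ψ h W = W from hh]
    exact hg
  one_mem' := act_one ψ W
  inv_mem' := by
    intro g hg
    show act ψ g⁻¹ W = W
    have hg' : act ψ g W = W := hg
    conv_lhs => rw [← hg']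
    rw [← act_mul, inv_mul_cancel, act_one]

theorem mem_stab {g : Γ} {W : Submodule K M} : g ∈ stab ψ W ↔ act ψ g W = W := Iff.rfl

theorem mem_stab_act {g h : Γ} {W : Submodule K M} :
    g ∈ stab ψ (act ψ h W) ↔ h⁻¹ * g * h ∈ stab ψ W := by
  rw [mem_stab, mem_stab, act_mul, act_mul]
  constructor
  · intro hh
    rw [hh, ← act_mul, inv_mul_cancel, act_one]
  · intro hh
    have := congrArg (act ψ h) hh
    rwa [← act_mul, mul_inv_cancel, act_one] at this

theorem apply_mem_of_mem_stab {g : Γ} {W : Submodule K M} (hg : g ∈ stab ψ W) {m : M}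
    (hm : m ∈ W) : ψ g m ∈ W := by
  have h := apply_mem_act ψ (g := g) hm
  rwa [show act ψ g W = W from hg] at h

/-- The pointwise fixer of a submodule. -/
def fixer (W : Submodule K M) : Subgroup Γ where
  carrier := {g | ∀ m ∈ W, ψ g m = m}
  mul_mem' := by
    intro g h hg hh m hm
    rw [psi_mul_apply, hh m hm, hg m hm]
  one_mem' := fun m _ => psi_one_apply ψ m
  inv_mem' := by
    intro g hg m hm
    conv_lhs => rw [← hg m hm]
    exact psi_inv_apply ψ g m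

theorem mem_fixer {g : Γ} {W : Submodule K M} : g ∈ fixer ψ W ↔ ∀ m ∈ W, ψ g m = m := Iff.rfl

/-- Coprime powers. -/
theorem mem_of_pow_mem {H : Subgroup Γ} {a : Γ} {r k : ℕ} (hr : r.Prime) (har : a ^ r = 1)
    (hk : ¬ r ∣ k) (h : a ^ k ∈ H) : a ∈ H := by
  have hcop : Nat.Coprime k r := ((Nat.Prime.coprime_iff_not_dvd hr).mpr hk).symm
  obtain ⟨m, -, hm⟩ := Nat.exists_mul_mod_eq_one_of_coprime hcop hr.one_lt
  have h1 : a = a ^ (k * m) := by
    rw [pow_eq_pow_mod (k * m) har, hm, pow_one]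
  rw [h1, pow_mul]
  exact H.pow_mem h m

/-- For a finite subgroup, `g B g⁻¹ ⊆ B` already puts `g` in the normaliser. -/
theorem mem_normalizer_of_conj_mem (B : Subgroup Γ) [Finite B] {g : Γ}
    (h : ∀ u ∈ B, g * u * g⁻¹ ∈ B) : g ∈ Subgroup.normalizer (B : Set Γ) := by
  rw [Subgroup.mem_normalizer_iff]
  intro u
  refine ⟨h u, fun hu => ?_⟩
  let f : ↥B → ↥B := fun b => ⟨g * b * g⁻¹, h b b.2⟩
  have hinj : Function.Injective f := by
    intro b b' hbb
    have : g * (b : Γ) * g⁻¹ = g * (b' : Γ) * g⁻¹ := congrArg Subtype.val hbb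
    apply Subtype.ext
    simpa using this
  obtain ⟨b, hb⟩ := Finite.surjective_of_injective hinj ⟨g * u * g⁻¹, hu⟩
  have h2 : g * (b : Γ) * g⁻¹ = g * u * g⁻¹ := congrArg Subtype.val hb
  have h3 : (b : Γ) = u := by simpa using h2
  rw [← h3]
  exact b.2

variable (B : Subgroup Γ)

/-- Weight space of the subgroup `B`. -/
def wt (χ : ↥B → K) : Submodule K M := wtF (fun b : ↥B => ψ (b : Γ)) χ

theorem mem_wt {χ : ↥B → K} {m : M} : m ∈ wt ψ B χ ↔ ∀ b : ↥B, ψ (b : Γ) m = χ b • m :=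
  mem_wtF _ _ _

/-- Nonzero weight spaces. -/
def IsWt (W : Submodule K M) : Prop := W ≠ ⊥ ∧ ∃ χ : ↥B → K, W = wt ψ B χ

/-- The hypotheses on `B`. -/
structure Good : Prop where
  ss : ∀ b ∈ B, (ψ b).IsSemisimple
  comm : ∀ u ∈ B, ∀ w ∈ B, u * w = w * u

variable {B}

theorem Good.commute (hB : Good ψ B) (b b' : ↥B) : Commute (ψ (b : Γ)) (ψ (b' : Γ)) := by
  show ψ (b : Γ) * ψ (b' : Γ) = ψ (b' : Γ) * ψ (b : Γ)
  rw [← map_mul, ← map_mul, hB.comm b b.2 b' b'.2]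

theorem good_of_card [FiniteDimensional K M] [Finite B] (hn : (Nat.card B : K) ≠ 0)
    (hc : ∀ u ∈ B, ∀ w ∈ B, u * w = w * u) : Good ψ B := by
  refine ⟨fun b hb => ?_, hc⟩
  apply isSemisimple_of_pow_eq_one hn
  rw [← map_pow]
  have h1 : (⟨b, hb⟩ : ↥B) ^ Nat.card B = 1 := pow_card_eq_one'
  have h2 : b ^ Nat.card B = 1 := by
    have h3 := congrArg Subtype.val h1
    rwa [Subgroup.coe_pow, Subgroup.coe_one] at h3
  rw [h2, map_one]

theorem sSupIndep_isWt [FiniteDimensional K M] (hB : Good ψ B) :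
    sSupIndep {W | IsWt ψ B W} := by
  have h := (iSupIndep_wtF (fun b : ↥B => ψ (b : Γ)) (fun b => hB.ss b b.2)
    (fun b b' => hB.commute ψ b b')).sSupIndep_range
  refine h.mono ?_
  rintro W ⟨_, χ, rfl⟩
  exact ⟨χ, rfl⟩

theorem indep [FiniteDimensional K M] (hB : Good ψ B) {W : Submodule K M} (hW : IsWt ψ B W)
    {m : M} (hm : m ∈ W) (hm' : m ∈ sSup {W' | IsWt ψ B W' ∧ W' ≠ W}) : m = 0 := by
  have h := (sSupIndep_isWt ψ hB).disjoint_sSup (x := W) (y := {W' | IsWt ψ B W' ∧ W' ≠ W}) hW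
    (fun _ h => h.1) (fun h => h.2 rfl)
  exact (Submodule.disjoint_def.mp h) m hm hm'

theorem mem_others {W W' : Submodule K M} (hW' : IsWt ψ B W') (hne : W' ≠ W) {m : M}
    (hm : m ∈ W') : m ∈ sSup {W'' | IsWt ψ B W'' ∧ W'' ≠ W} :=
  (le_sSup (show W' ∈ {W'' | IsWt ψ B W'' ∧ W'' ≠ W} from ⟨hW', hne⟩)) hm

theorem eq_one_of_wt [IsAlgClosed K] [FiniteDimensional K M] (hB : Good ψ B) (E : End K M)
    (h : ∀ W, IsWt ψ B W → ∀ m ∈ W, E m = m) : E = 1 := by
  have htop := iSup_wtF (fun b : ↥B => ψ (b : Γ)) (fun b => hB.ss b b.2)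
    (fun b b' => hB.commute ψ b b')
  have hle : (⨆ χ : ↥B → K, wtF (fun b : ↥B => ψ (b : Γ)) χ) ≤ LinearMap.eqLocus E 1 := by
    apply iSup_le
    intro χ
    by_cases hχ : wtF (fun b : ↥B => ψ (b : Γ)) χ = ⊥
    · rw [hχ]; exact bot_le
    · intro m hm
      rw [LinearMap.mem_eqLocus]
      exact h _ ⟨hχ, χ, rfl⟩ m hm
  rw [htop] at hle
  apply LinearMap.ext
  intro m
  have := hle (Submodule.mem_top : m ∈ ⊤)
  rwa [LinearMap.mem_eqLocus] at this

/-- Elements normalising `B` permute the weight spaces. -/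
theorem isWt_act {g : Γ} (hg : g ∈ Subgroup.normalizer (B : Set Γ)) {W : Submodule K M} (hW : IsWt ψ B W) :
    IsWt ψ B (act ψ g W) := by
  obtain ⟨hne, χ, rfl⟩ := hW
  have hc1 : ∀ b : ↥B, g⁻¹ * (b : Γ) * g ∈ B := fun b =>
    (Subgroup.mem_normalizer_iff''.mp hg b).mp b.2
  have hc2 : ∀ b : ↥B, g * (b : Γ) * g⁻¹ ∈ B := fun b =>
    (Subgroup.mem_normalizer_iff.mp hg b).mp b.2
  refine ⟨act_ne_bot ψ hne, fun b => χ ⟨g⁻¹ * b * g, hc1 b⟩, ?_⟩
  ext m'
  rw [mem_act, mem_wt, mem_wt]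
  constructor
  · intro hm b
    have h1 := hm ⟨g⁻¹ * b * g, hc1 b⟩
    have h2 : ψ (g⁻¹ * (b : Γ) * g) (ψ g⁻¹ m') = ψ g⁻¹ (ψ (b : Γ) m') := by
      rw [← psi_mul_apply, ← psi_mul_apply]
      congr 2
      group
    have h3 : ψ g⁻¹ (ψ (b : Γ) m') = ψ g⁻¹ (χ ⟨g⁻¹ * b * g, hc1 b⟩ • m') := by
      rw [← h2, map_smul]
      exact h1
    have h4 := congrArg (ψ g) h3
    rwa [psi_apply_inv, psi_apply_inv] at h4
  · intro hm b
    have h1 := hm ⟨g * b * g⁻¹, hc2 b⟩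
    have h2 : (⟨g⁻¹ * (g * (b : Γ) * g⁻¹) * g, hc1 ⟨g * b * g⁻¹, hc2 b⟩⟩ : ↥B) = b := by
      apply Subtype.ext
      show g⁻¹ * (g * (b : Γ) * g⁻¹) * g = b
      group
    have h1' : ψ (g * (b : Γ) * g⁻¹) m' = χ b • m' := by
      rw [h1]
      show χ ⟨g⁻¹ * (g * (b : Γ) * g⁻¹) * g, _⟩ • m' = χ b • m'
      rw [h2]
    have h3 : ψ (b : Γ) (ψ g⁻¹ m') = ψ g⁻¹ (ψ (g * (b : Γ) * g⁻¹) m') := by
      rw [← psi_mul_apply, ← psi_mul_apply]
      congr 2
      group
    rw [h3, h1', map_smul]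

/-- If `g` stabilises a weight space `W` and `u ∈ B`, the commutator `[g, u]` is trivial on `W`. -/
theorem comm_fix {g u : Γ} {W : Submodule K M} (hW : IsWt ψ B W) (hg : g ∈ stab ψ W)
    (hu : u ∈ B) {m : M} (hm : m ∈ W) : ψ (g * u * g⁻¹ * u⁻¹) m = m := by
  obtain ⟨_, χ, rfl⟩ := hW
  have hu' : u⁻¹ ∈ B := B.inv_mem hu
  have h1 : ψ u⁻¹ m ∈ wt ψ B χ := by
    have := (mem_wt ψ B).mp hm ⟨u⁻¹, hu'⟩
    rw [show ψ u⁻¹ m = χ ⟨u⁻¹, hu'⟩ • m from this]
    exact Submodule.smul_mem _ _ hm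
  have h2 : ψ g⁻¹ (ψ u⁻¹ m) ∈ wt ψ B χ :=
    apply_mem_of_mem_stab ψ ((stab ψ _).inv_mem hg) h1
  have h3 : ψ u (ψ g⁻¹ (ψ u⁻¹ m)) = χ ⟨u, hu⟩ • ψ g⁻¹ (ψ u⁻¹ m) :=
    (mem_wt ψ B).mp h2 ⟨u, hu⟩
  have h4 : ψ u (ψ u⁻¹ m) = χ ⟨u, hu⟩ • ψ u⁻¹ m := (mem_wt ψ B).mp h1 ⟨u, hu⟩
  rw [psi_mul_apply, psi_mul_apply, psi_mul_apply, h3, map_smul, psi_apply_inv, ← h4,
    psi_apply_inv]

/-- The norm operator of a cyclic group. -/
def Nop (a : Γ) (r : ℕ) : End K M := ∑ i ∈ Finset.range r, ψ (a ^ i)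

theorem Nop_apply (a : Γ) (r : ℕ) (m : M) :
    Nop ψ a r m = ∑ i ∈ Finset.range r, ψ (a ^ i) m := by
  simp [Nop, LinearMap.sum_apply]

theorem Nop_fixed {a : Γ} {r : ℕ} (har : a ^ r = 1) (m : M) :
    ψ a (Nop ψ a r m) = Nop ψ a r m := by
  rw [Nop_apply, map_sum]
  have h0 : ∀ i, ψ a (ψ (a ^ i) m) = ψ (a ^ (i + 1)) m := by
    intro i
    rw [pow_succ', psi_mul_apply]
  simp_rw [h0]
  have h1 := Finset.sum_range_succ' (fun i => ψ (a ^ i) m) r
  have h2 := Finset.sum_range_succ (fun i => ψ (a ^ i) m) r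
  rw [h1] at h2
  simp only [har, pow_zero] at h2
  exact add_right_cancel h2

theorem Nop_fixed_smul {a : Γ} {r : ℕ} {m : M} (hm : ψ a m = m) :
    Nop ψ a r m = (r : K) • m := by
  rw [Nop_apply]
  have h0 : ∀ i, ψ (a ^ i) m = m := by
    intro i
    induction i with
    | zero => rw [pow_zero, psi_one_apply]
    | succ i ih => rw [pow_succ', psi_mul_apply, ih, hm]
  simp_rw [h0]
  rw [Finset.sum_const, Finset.card_range, Nat.cast_smul_eq_nsmul]

section OC

variable [FiniteDimensional K M] (hB : Good ψ B) {a : Γ} {r : ℕ} (hr : r.Prime)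
  (har : a ^ r = 1) (ha : a ∈ Subgroup.normalizer (B : Set Γ))
include hB hr har ha

theorem tail_mem {W : Submodule K M} (hW : IsWt ψ B W) (haW : a ∉ stab ψ W) {m : M}
    (hm : m ∈ W) :
    ∃ y ∈ sSup {W' | IsWt ψ B W' ∧ W' ≠ W}, Nop ψ a r m = m + y := by
  obtain ⟨k, rfl⟩ : ∃ k, r = k + 1 := ⟨r - 1, by have := hr.pos; omega⟩
  refine ⟨∑ i ∈ Finset.range k, ψ (a ^ (i + 1)) m, ?_, ?_⟩
  · apply Submodule.sum_mem
    intro i hi
    have hi' : i < k := Finset.mem_range.mp hi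
    refine mem_others ψ (isWt_act ψ ((Subgroup.normalizer (B : Set Γ)).pow_mem ha _) hW) ?_ (apply_mem_act ψ hm)
    intro heq
    apply haW
    refine mem_of_pow_mem hr har (k := i + 1) ?_ heq
    exact Nat.not_dvd_of_pos_of_lt (Nat.succ_pos i) (by omega)
  · rw [Nop_apply, Finset.sum_range_succ' (fun i => ψ (a ^ i) m) k, pow_zero, psi_one_apply,
      add_comm]

theorem Nop_eq_zero {W : Submodule K M} (hW : IsWt ψ B W) (haW : a ∉ stab ψ W) {m : M}
    (hm : m ∈ W) (h0 : Nop ψ a r m = 0) : m = 0 := by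
  obtain ⟨y, hy, hN⟩ := tail_mem ψ hB hr har ha hW haW hm
  rw [h0] at hN
  have h1 : m = -y := eq_neg_of_add_eq_zero_left hN.symm
  apply indep ψ hB hW hm
  rw [h1]
  exact Submodule.neg_mem _ hy

/-- (OC i) an `a`-moved weight space is at most one-dimensional. -/
theorem OC_prop (hfix : ∃ m0 : M, ∀ m, ψ a m = m → ∃ c : K, m = c • m0)
    {W : Submodule K M} (hW : IsWt ψ B W) (haW : a ∉ stab ψ W) :
    ∀ m ∈ W, ∀ m' ∈ W, m ≠ 0 → ∃ c : K, m' = c • m := by
  obtain ⟨m0, hm0⟩ := hfix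
  intro m hm m' hm' hne
  obtain ⟨c, hc⟩ := hm0 _ (Nop_fixed ψ har m)
  obtain ⟨c', hc'⟩ := hm0 _ (Nop_fixed ψ har m')
  have hc0 : c ≠ 0 := by
    rintro rfl
    rw [zero_smul] at hc
    exact hne (Nop_eq_zero ψ hB hr har ha hW haW hm hc)
  refine ⟨c' / c, ?_⟩
  have h1 : m' - (c' / c) • m ∈ W := Submodule.sub_mem _ hm' (Submodule.smul_mem _ _ hm)
  have h2 : Nop ψ a r (m' - (c' / c) • m) = 0 := by
    rw [map_sub, map_smul, hc, hc', smul_smul, div_mul_cancel₀ _ hc0, sub_self]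
  exact sub_eq_zero.mp (Nop_eq_zero ψ hB hr har ha hW haW h1 h2)

/-- (OC ii) the `a`-moved weight spaces form a single orbit. -/
theorem OC_orbit (hfix : ∃ m0 : M, ∀ m, ψ a m = m → ∃ c : K, m = c • m0)
    {W W' : Submodule K M} (hW : IsWt ψ B W) (haW : a ∉ stab ψ W) (hW' : IsWt ψ B W')
    (haW' : a ∉ stab ψ W') : ∃ i < r, W' = act ψ (a ^ i) W := by
  obtain ⟨m0, hm0⟩ := hfix
  by_contra hcon
  push Not at hcon
  obtain ⟨m, hm, hmne⟩ := Submodule.exists_mem_ne_zero_of_ne_bot hW.1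
  obtain ⟨m', hm', hmne'⟩ := Submodule.exists_mem_ne_zero_of_ne_bot hW'.1
  obtain ⟨c, hc⟩ := hm0 _ (Nop_fixed ψ har m)
  obtain ⟨c', hc'⟩ := hm0 _ (Nop_fixed ψ har m')
  have hc0 : c ≠ 0 := by
    rintro rfl
    rw [zero_smul] at hc
    exact hmne (Nop_eq_zero ψ hB hr har ha hW haW hm hc)
  obtain ⟨y', hy', hN'⟩ := tail_mem ψ hB hr har ha hW' haW' hm'
  have h1 : Nop ψ a r m ∈ sSup {W'' | IsWt ψ B W'' ∧ W'' ≠ W'} := by
    rw [Nop_apply]
    apply Submodule.sum_mem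
    intro i hi
    have hi' : i < r := Finset.mem_range.mp hi
    exact mem_others ψ (isWt_act ψ ((Subgroup.normalizer (B : Set Γ)).pow_mem ha _) hW) (hcon i hi').symm
      (apply_mem_act ψ hm)
  have h2 : Nop ψ a r m' = (c' / c) • Nop ψ a r m := by
    rw [hc, hc', smul_smul, div_mul_cancel₀ _ hc0]
  have h3 : m' = (c' / c) • Nop ψ a r m - y' := by
    rw [← h2, hN', add_sub_cancel_right]
  apply hmne'
  apply indep ψ hB hW' hm'
  rw [h3]
  exact Submodule.sub_mem _ (Submodule.smul_mem _ _ h1) hy'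

end OC

end Grp

end Cfsg.Agent.Helper27.BG36
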