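import Mathlib
import Cfsg.Agent.Lib.Helper27.BG36Wa

/-!
# The three linear lemmas for BG Theorem 3.6 over an algebraically closed field
-/

set_option autoImplicit false
set_option linter.unusedSectionVars false
set_option linter.unusedVariables false

namespace Cfsg.Agent.Helper27.BG36

open Module

section KLevel

variable {K : Type*} [Field K] [IsAlgClosed K] {M : Type*} [AddCommGroup M] [Module K M]
  [FiniteDimensional K M] {Γ : Type*} [Group Γ] (ψ : Γ →* End K M)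

omit [IsAlgClosed K] [FiniteDimensional K M] in
/-- Operators preserving a "line" commute on it. -/
theorem comm_on {W : Submodule K M} (hprop : ∀ m ∈ W, ∀ m' ∈ W, m ≠ 0 → ∃ c : K, m' = c • m)
    {E₁ E₂ : End K M} (h₁ : ∀ m ∈ W, E₁ m ∈ W) (h₂ : ∀ m ∈ W, E₂ m ∈ W) {m : M} (hm : m ∈ W) :
    E₁ (E₂ m) = E₂ (E₁ m) := by
  by_cases h0 : m = 0
  · rw [h0]; simp
  · obtain ⟨c₁, hc₁⟩ := hprop m hm (E₁ m) (h₁ m hm) h0
    obtain ⟨c₂, hc₂⟩ := hprop m hm (E₂ m) (h₂ m hm) h0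
    rw [hc₁, hc₂, map_smul, map_smul, hc₁, hc₂, smul_comm]

omit [IsAlgClosed K] [FiniteDimensional K M] in
theorem act_injective (g : Γ) : Function.Injective (act ψ g) := by
  intro W W' h
  have h2 := congrArg (act ψ g⁻¹) h
  rwa [← act_mul, ← act_mul, inv_mul_cancel, act_one, act_one] at h2

omit [IsAlgClosed K] [FiniteDimensional K M] in
theorem pow_inj_of_moved {W : Submodule K M} {a : Γ} {r : ℕ} (hr : r.Prime) (har : a ^ r = 1)
    (haW : a ∉ stab ψ W) {i j : ℕ} (hj : j < r) (hij : i ≤ j)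
    (h : act ψ (a ^ i) W = act ψ (a ^ j) W) : i = j := by
  by_contra hne
  apply haW
  have hlt : 0 < j - i := by omega
  refine mem_of_pow_mem hr har (k := j - i) (Nat.not_dvd_of_pos_of_lt hlt (by omega)) ?_
  rw [mem_stab]
  have h1 : act ψ (a ^ j) W = act ψ (a ^ i) (act ψ (a ^ (j - i)) W) := by
    rw [← act_mul, ← pow_add, Nat.add_sub_cancel' hij]
  rw [h1] at h
  exact (act_injective ψ _ h).symm

/-- (W2) over an algebraically closed field. -/
theorem W2K {r : ℕ} (hr : r.Prime) (B D : Subgroup Γ) (hB : Good ψ B) (a : Γ) (har : a ^ r = 1)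
    (ha : a ∈ Subgroup.normalizer (B : Set Γ))
    (hDB : ∀ d ∈ D, ∀ u ∈ B, d * u = u * d)
    (hBD : ∀ u ∈ B, a * u * a⁻¹ * u⁻¹ ∈ ⁅D, D⁆)
    (hfix : ∃ m0 : M, ∀ m, ψ a m = m → ∃ c : K, m = c • m0) :
    ∀ u ∈ B, ψ (a * u * a⁻¹ * u⁻¹) = 1 := by
  intro u hu
  apply eq_one_of_wt ψ hB
  intro W hW m hm
  by_cases haW : a ∈ stab ψ W
  · exact comm_fix ψ hW haW hu hm
  · have hprop := OC_prop ψ hB hr har ha hfix hW haW
    have hDW : ∀ d ∈ D, ∀ m ∈ W, ψ d m ∈ W := by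
      obtain ⟨_, χ, rfl⟩ := hW
      intro d hd m hm
      rw [mem_wt]
      intro b
      rw [← psi_mul_apply, ← hDB d hd b b.2, psi_mul_apply, (mem_wt ψ B).mp hm b, map_smul]
    have hle : ⁅D, D⁆ ≤ fixer ψ W := by
      rw [Subgroup.commutator_le]
      intro d₁ hd₁ d₂ hd₂
      rw [mem_fixer]
      intro m hm
      rw [commutatorElement_def, psi_mul_apply, psi_mul_apply, psi_mul_apply]
      have h1 : ψ d₂⁻¹ m ∈ W := hDW _ (D.inv_mem hd₂) m hm
      rw [comm_on hprop (hDW d₂ hd₂) (hDW _ (D.inv_mem hd₁)) h1, psi_apply_inv, psi_apply_inv]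
    exact hle (hBD u hu) m hm

/-- (W1) over an algebraically closed field. -/
theorem W1K {r n : ℕ} (hr : r.Prime) (T : Subgroup Γ) (hT : Good ψ T)
    (x a : Γ) (hxa : x * a = a * x) (hxn : x ^ n = 1) (hnr : n.Coprime r) (har : a ^ r = 1)
    (hx : x ∈ Subgroup.normalizer (T : Set Γ)) (ha : a ∈ Subgroup.normalizer (T : Set Γ))
    (hfix : ∃ m0 : M, ∀ m, ψ a m = m → ∃ c : K, m = c • m0) :
    ∀ u ∈ T, ψ (a * (x * u * x⁻¹ * u⁻¹) * a⁻¹ * (x * u * x⁻¹ * u⁻¹)⁻¹) = 1 := by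
  -- key: `a`-moved weight spaces are `x`-stable
  have key : ∀ W, IsWt ψ T W → a ∉ stab ψ W → x ∈ stab ψ W := by
    intro W hW haW
    have hW' : IsWt ψ T (act ψ x W) := isWt_act ψ hx hW
    have haW' : a ∉ stab ψ (act ψ x W) := by
      rw [mem_stab_act]
      have h0 : x⁻¹ * a * x = a := by rw [mul_assoc, ← hxa, inv_mul_cancel_left]
      rwa [h0]
    obtain ⟨i, hi, heq⟩ := OC_orbit ψ hT hr har ha hfix hW haW hW' haW'
    have hy : a ^ (r - i) * x ∈ stab ψ W := by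
      rw [mem_stab, act_mul, heq, ← act_mul, ← pow_add, Nat.sub_add_cancel hi.le, har, act_one]
    have hyn : (a ^ (r - i) * x) ^ n ∈ stab ψ W := (stab ψ W).pow_mem hy n
    have hcomm : Commute (a ^ (r - i)) x := Commute.pow_left (show Commute a x from hxa.symm) _
    rw [hcomm.mul_pow, hxn, mul_one, ← pow_mul] at hyn
    have hdvd : r ∣ (r - i) * n := by
      by_contra hnd
      exact haW (mem_of_pow_mem hr har hnd hyn)
    have hdvd' : r ∣ r - i := Nat.Coprime.dvd_of_dvd_mul_right hnr.symm hdvd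
    have hi0 : i = 0 := by
      have := Nat.le_of_dvd (by omega) hdvd'
      omega
    rw [hi0, pow_zero, act_one] at heq
    exact heq
  intro u hu
  have hxu : x * u * x⁻¹ ∈ T := (Subgroup.mem_normalizer_iff.mp hx u).mp hu
  have hc : x * u * x⁻¹ * u⁻¹ ∈ T := T.mul_mem hxu (T.inv_mem hu)
  generalize hcdef : x * u * x⁻¹ * u⁻¹ = c at hc ⊢
  apply eq_one_of_wt ψ hT
  intro W hW m hm
  by_cases haW : a ∈ stab ψ W
  · exact comm_fix ψ hW haW hc hm
  · have hxW := key W hW haW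
    have hcW : ∀ m' ∈ W, ψ c m' = m' := by
      intro m' hm'
      rw [← hcdef]
      exact comm_fix ψ hW hxW hu hm'
    have ha' : a⁻¹ ∈ Subgroup.normalizer (T : Set Γ) := Subgroup.inv_mem _ ha
    have hW2 : IsWt ψ T (act ψ a⁻¹ W) := isWt_act ψ ha' hW
    have haW2 : a ∉ stab ψ (act ψ a⁻¹ W) := by
      rw [mem_stab_act]
      simpa using haW
    have hxW2 := key _ hW2 haW2
    have hcW2 : ∀ m' ∈ act ψ a⁻¹ W, ψ c m' = m' := by
      intro m' hm'
      rw [← hcdef]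
      exact comm_fix ψ hW2 hxW2 hu hm'
    rw [psi_mul_apply, psi_mul_apply, psi_mul_apply]
    have h1 : ψ c⁻¹ m = m := by
      conv_lhs => rw [← hcW m hm]
      exact psi_inv_apply ψ c m
    rw [h1, hcW2 _ (apply_mem_act ψ hm), psi_apply_inv]

section W3

variable {q r : ℕ} (hq : q.Prime) (hr : r.Prime) (hqr : q ≠ r) (hq2 : q ≠ 2) (hr2 : r ≠ 2)
    (S P : Subgroup Γ) (hS : Good ψ S) (hPq : IsPGroup q P) (a : Γ) (har : a ^ r = 1)
    (hPS : P ≤ Subgroup.normalizer (S : Set Γ)) (haS : a ∈ Subgroup.normalizer (S : Set Γ))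
    (haP : a ∈ Subgroup.normalizer (P : Set Γ))
    (hmin : ∀ P₀ : Subgroup Γ, P₀ ≤ P → (∀ x ∈ P₀, a * x * a⁻¹ ∈ P₀) → P₀ ≠ P → ∀ x ∈ P₀, x = 1)
    (hfrob : ∀ x ∈ P, a * x = x * a → x = 1) (hP1 : P ≠ ⊥)
    (hfix : ∃ m0 : M, ∀ m, ψ a m = m → ∃ c : K, m = c • m0)
include hq hr hq2 hr2 hS hPq har hPS haS haP hmin hfrob hP1 hfix

theorem W3K_caseA {W : Submodule K M} (hW : IsWt ψ S W) (haW : a ∈ stab ψ W) :
    P ≤ stab ψ W := by
  by_contra hnot
  have hP0 : ∀ x ∈ P ⊓ stab ψ W, x = 1 := by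
    apply hmin _ inf_le_left
    · intro x hx
      rw [Subgroup.mem_inf] at hx ⊢
      exact ⟨(Subgroup.mem_normalizer_iff.mp haP x).mp hx.1,
        (stab ψ W).mul_mem ((stab ψ W).mul_mem haW hx.2) ((stab ψ W).inv_mem haW)⟩
    · intro heq
      apply hnot
      rw [← heq]
      exact inf_le_right
  have hmoved : ∀ x ∈ P, x ≠ 1 → a ∉ stab ψ (act ψ x W) := by
    intro x hx hx1 hmem
    rw [mem_stab_act] at hmem
    have h1 : x⁻¹ * a * x * a⁻¹ ∈ stab ψ W :=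
      (stab ψ W).mul_mem hmem ((stab ψ W).inv_mem haW)
    have h2 : x⁻¹ * a * x * a⁻¹ ∈ P := by
      have h0 : x⁻¹ * a * x * a⁻¹ = x⁻¹ * (a * x * a⁻¹) := by group
      rw [h0]
      exact P.mul_mem (P.inv_mem hx) ((Subgroup.mem_normalizer_iff.mp haP x).mp hx)
    have h3 := hP0 _ (Subgroup.mem_inf.mpr ⟨h2, h1⟩)
    apply hx1
    apply hfrob x hx
    have h4 : a * x = x * (x⁻¹ * a * x * a⁻¹) * a := by group
    rw [h4, h3, mul_one]
  obtain ⟨x₁, hx₁, hx₁1⟩ : ∃ x ∈ P, x ≠ 1 := by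
    by_contra hcon
    push Not at hcon
    exact hP1 ((Subgroup.eq_bot_iff_forall P).mpr hcon)
  have hx₁' : x₁⁻¹ ∈ P := P.inv_mem hx₁
  have hx₁1' : x₁⁻¹ ≠ 1 := by simpa using hx₁1
  have hW1 := isWt_act ψ (hPS hx₁) hW
  have hW2 := isWt_act ψ (hPS hx₁') hW
  obtain ⟨i, hi, heq⟩ := OC_orbit ψ hS hr har haS hfix hW1 (hmoved x₁ hx₁ hx₁1) hW2
    (hmoved _ hx₁' hx₁1')
  have h1 : x₁ * a ^ i * x₁ ∈ stab ψ W := by
    rw [mem_stab, mul_assoc, act_mul, act_mul, ← heq, ← act_mul, mul_inv_cancel, act_one]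
  have hai : a ^ i ∈ stab ψ W := (stab ψ W).pow_mem haW i
  have h2 : x₁ * a ^ i * x₁ * (a ^ i)⁻¹ ∈ stab ψ W :=
    (stab ψ W).mul_mem h1 ((stab ψ W).inv_mem hai)
  have hai' : a ^ i ∈ Subgroup.normalizer (P : Set Γ) := Subgroup.pow_mem _ haP i
  have h3 : x₁ * a ^ i * x₁ * (a ^ i)⁻¹ ∈ P := by
    have h0 : x₁ * a ^ i * x₁ * (a ^ i)⁻¹ = x₁ * (a ^ i * x₁ * (a ^ i)⁻¹) := by group
    rw [h0]
    exact P.mul_mem hx₁ ((Subgroup.mem_normalizer_iff.mp hai' x₁).mp hx₁)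
  have h4 := hP0 _ (Subgroup.mem_inf.mpr ⟨h3, h2⟩)
  have h5 : a ^ i * x₁ * (a ^ i)⁻¹ = x₁⁻¹ := by
    have h0 : a ^ i * x₁ * (a ^ i)⁻¹ = x₁⁻¹ * (x₁ * a ^ i * x₁ * (a ^ i)⁻¹) := by group
    rw [h0, h4, mul_one]
  have h6 : a ^ (2 * i) ∈ Subgroup.centralizer {x₁} := by
    rw [Subgroup.mem_centralizer_iff]
    intro h hh
    rw [Set.mem_singleton_iff] at hh
    rw [hh, two_mul, pow_add]
    generalize a ^ i = z at h5
    have e1 : z * x₁ = x₁⁻¹ * z := by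
      rw [← h5]; group
    have e2 : z * x₁⁻¹ = x₁ * z := by
      have h5' : (z * x₁ * z⁻¹)⁻¹ = x₁ := by rw [h5, inv_inv]
      have h0 : z * x₁⁻¹ = (z * x₁ * z⁻¹)⁻¹ * z := by group
      rw [h0, h5']
    calc x₁ * (z * z) = (x₁ * z) * z := by group
      _ = (z * x₁⁻¹) * z := by rw [e2]
      _ = z * (x₁⁻¹ * z) := by group
      _ = z * (z * x₁) := by rw [e1]
      _ = z * z * x₁ := by group
  have hdvd : r ∣ 2 * i := by
    by_contra hnd
    have hac := mem_of_pow_mem hr har hnd h6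
    rw [Subgroup.mem_centralizer_iff] at hac
    have h7 := hac x₁ rfl
    exact hx₁1 (hfrob x₁ hx₁ h7.symm)
  have hi0 : i = 0 := by
    rcases (Nat.Prime.dvd_mul hr).mp hdvd with h | h
    · exact absurd ((Nat.prime_dvd_prime_iff_eq hr Nat.prime_two).mp h) hr2
    · exact Nat.eq_zero_of_dvd_of_lt h hi
  rw [hi0, pow_zero, one_mul, inv_one, mul_one] at h5
  have hsq : x₁ ^ 2 = 1 := by
    rw [sq]
    nth_rewrite 2 [h5]
    exact mul_inv_cancel x₁
  obtain ⟨k, hk⟩ := hPq ⟨x₁, hx₁⟩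
  have hk' : x₁ ^ (q ^ k) = 1 := by
    have h8 := congrArg Subtype.val hk
    rwa [Subgroup.coe_pow, Subgroup.coe_one] at h8
  have h9 : x₁ ∈ (⊥ : Subgroup Γ) := by
    refine mem_of_pow_mem Nat.prime_two hsq (k := q ^ k) ?_ (by rw [hk']; exact Subgroup.one_mem _)
    intro h2
    have h10 := Nat.Prime.dvd_of_dvd_pow Nat.prime_two h2
    exact hq2 ((Nat.prime_dvd_prime_iff_eq Nat.prime_two hq).mp h10).symm
  exact hx₁1 (Subgroup.mem_bot.mp h9)

include hqr in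
/-- (W3) over an algebraically closed field. -/
theorem W3K : ∀ x ∈ P, ∀ u ∈ S, ψ (x * u * x⁻¹ * u⁻¹) = 1 := by
  have caseA : ∀ W, IsWt ψ S W → a ∈ stab ψ W → P ≤ stab ψ W := fun W hW haW =>
    W3K_caseA ψ hq hr hq2 hr2 S P hS hPq a har hPS haS haP hmin hfrob hP1 hfix hW haW
  have hstable : ∀ W, IsWt ψ S W → P ≤ stab ψ W := by
    intro W hW
    by_contra hnot
    have haW : a ∉ stab ψ W := fun h => hnot (caseA W hW h)
    have hmv : ∀ x ∈ P, a ∉ stab ψ (act ψ x W) := by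
      intro x hx h
      have hle := caseA _ (isWt_act ψ (hPS hx) hW) h
      apply hnot
      intro g hg
      have h1 : x * g * x⁻¹ ∈ P := P.mul_mem (P.mul_mem hx hg) (P.inv_mem hx)
      have h2 := hle h1
      rw [mem_stab_act] at h2
      have h3 : x⁻¹ * (x * g * x⁻¹) * x = g := by group
      rwa [h3] at h2
    have horb : ∀ x ∈ P, ∃ i < r, act ψ x W = act ψ (a ^ i) W := fun x hx =>
      OC_orbit ψ hS hr har haS hfix hW haW (isWt_act ψ (hPS hx) hW) (hmv x hx)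
    let f : Fin r → Submodule K M := fun i => act ψ (a ^ (i : ℕ)) W
    have hinj : Function.Injective f := by
      intro i j hij
      apply Fin.ext
      rcases Nat.le_total (i : ℕ) (j : ℕ) with h | h
      · exact pow_inj_of_moved ψ hr har haW j.2 h hij
      · exact (pow_inj_of_moved ψ hr har haW i.2 h hij.symm).symm
    have hcard : Nat.card ↥(Set.range f) = r := by
      rw [Nat.card_range_of_injective hinj]
      simp
    have hclosed : ∀ x ∈ P, ∀ W' ∈ Set.range f, act ψ x W' ∈ Set.range f := by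
      rintro x hx W' ⟨i, rfl⟩
      have hai' : a ^ (i : ℕ) ∈ Subgroup.normalizer (P : Set Γ) := Subgroup.pow_mem _ haP _
      have hx' : (a ^ (i : ℕ))⁻¹ * x * a ^ (i : ℕ) ∈ P :=
        (Subgroup.mem_normalizer_iff''.mp hai' x).mp hx
      obtain ⟨j, hj, hxj⟩ := horb _ hx'
      refine ⟨⟨((i : ℕ) + j) % r, Nat.mod_lt _ hr.pos⟩, ?_⟩
      show act ψ (a ^ (((i : ℕ) + j) % r)) W = act ψ x (act ψ (a ^ (i : ℕ)) W)
      rw [← pow_eq_pow_mod _ har, pow_add, act_mul, ← hxj, ← act_mul, ← act_mul]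
      congr 1
      group
    let _ : MulAction ↥P ↥(Set.range f) :=
      { smul := fun x W' => ⟨act ψ (x : Γ) W'.1, hclosed x x.2 W'.1 W'.2⟩
        one_smul := fun W' => Subtype.ext (act_one ψ _)
        mul_smul := fun x y W' => Subtype.ext (act_mul ψ _ _ _) }
    have : Fact q.Prime := ⟨hq⟩
    obtain ⟨⟨W', hW'O⟩, hfixed⟩ := hPq.nonempty_fixed_point_of_prime_not_dvd_card ↥(Set.range f)
      (by rw [hcard]; intro h; exact hqr ((Nat.prime_dvd_prime_iff_eq hq hr).mp h))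
    obtain ⟨i, rfl⟩ := hW'O
    apply hnot
    intro g hg
    have hai' : a ^ (i : ℕ) ∈ Subgroup.normalizer (P : Set Γ) := Subgroup.pow_mem _ haP _
    have hg' : a ^ (i : ℕ) * g * (a ^ (i : ℕ))⁻¹ ∈ P :=
      (Subgroup.mem_normalizer_iff.mp hai' g).mp hg
    have h1 := congrArg Subtype.val (hfixed ⟨_, hg'⟩)
    have h2 : a ^ (i : ℕ) * g * (a ^ (i : ℕ))⁻¹ ∈ stab ψ (act ψ (a ^ (i : ℕ)) W) := h1
    rw [mem_stab_act] at h2
    have h3 : (a ^ (i : ℕ))⁻¹ * (a ^ (i : ℕ) * g * (a ^ (i : ℕ))⁻¹) * a ^ (i : ℕ) = g := by group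
    rwa [h3] at h2
  intro x hx u hu
  apply eq_one_of_wt ψ hS
  intro W hW m hm
  exact comm_fix ψ hW (hstable W hW hx) hu hm

end W3

end KLevel

end Cfsg.Agent.Helper27.BG36
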