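import Mathlib
import Cfsg.Agent.Lib.Helper27.BG36Wb

/-!
# The three linear lemmas (W1), (W2), (W3) for BG Theorem 3.6, over `ZMod p`

Base change to the algebraic closure and application of `W1K`, `W2K`, `W3K`.
-/

set_option autoImplicit false
set_option linter.unusedSectionVars false
set_option linter.unusedVariables false

namespace Cfsg.Agent.Helper27.BG36

open Subgroup TensorProduct

section BaseChange

variable {p : ℕ} [Fact p.Prime] {V : Type*} [AddCommGroup V] [Module (ZMod p) V]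
  {Γ : Type*} [Group Γ] (φ : Γ →* Module.End (ZMod p) V)

/-- The representation base-changed to the algebraic closure. -/
noncomputable def bcRep : Γ →* Module.End (AlgebraicClosure (ZMod p))
    (AlgebraicClosure (ZMod p) ⊗[ZMod p] V) :=
  (MonoidHomClass.toMonoidHom
    (Module.End.baseChangeHom (ZMod p) (AlgebraicClosure (ZMod p)) V)).comp φ

theorem bcRep_eq_one {w : Γ} (h : bcRep φ w = 1) : φ w = 1 := by
  have hinj : Function.Injective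
      (Module.End.baseChangeHom (ZMod p) (AlgebraicClosure (ZMod p)) V) :=
    LinearMap.baseChangeHom_injective (ZMod p) V (AlgebraicClosure (ZMod p))
  apply hinj
  rw [map_one]
  exact h

theorem bcRep_tmul (g : Γ) (k : AlgebraicClosure (ZMod p)) (v : V) :
    bcRep φ g (k ⊗ₜ[ZMod p] v) = k ⊗ₜ[ZMod p] (φ g v) :=
  LinearMap.baseChange_tmul _ _ _

theorem natCast_ne_zero_bc {s : ℕ} (hs : s.Prime) (hps : p ≠ s) :
    ((s : ℕ) : AlgebraicClosure (ZMod p)) ≠ 0 := by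
  have hp : p.Prime := Fact.out
  rw [Ne, CharP.cast_eq_zero_iff (AlgebraicClosure (ZMod p)) p s]
  intro hdvd
  exact hps ((Nat.prime_dvd_prime_iff_eq hp hs).mp hdvd)

theorem good_bc [Finite V] (B : Subgroup Γ) [Finite B] {s : ℕ} (hs : s.Prime) (hps : p ≠ s)
    (hBs : IsPGroup s B) (hBc : ∀ u ∈ B, ∀ w ∈ B, u * w = w * u) : Good (bcRep φ) B := by
  have : Fact s.Prime := ⟨hs⟩
  apply good_of_card
  · obtain ⟨k, hk⟩ := (IsPGroup.iff_card).mp hBs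
    rw [hk, Nat.cast_pow]
    exact pow_ne_zero _ (natCast_ne_zero_bc hs hps)
  · exact hBc

theorem Nop_bc_tmul (a : Γ) (r : ℕ) (k : AlgebraicClosure (ZMod p)) (v : V) :
    Nop (bcRep φ) a r (k ⊗ₜ[ZMod p] v) = k ⊗ₜ[ZMod p] (Nop φ a r v) := by
  rw [Nop_apply, Nop_apply, TensorProduct.tmul_sum]
  apply Finset.sum_congr rfl
  intro i _
  exact bcRep_tmul φ _ k v

theorem hfix_bc {a : Γ} {r : ℕ} (hr : r.Prime) (hpr : p ≠ r) (har : a ^ r = 1)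
    (hfix : ∃ v₀ : V, ∀ v : V, φ a v = v → ∃ c : ZMod p, v = c • v₀) :
    ∃ m0 : AlgebraicClosure (ZMod p) ⊗[ZMod p] V, ∀ m, bcRep φ a m = m →
      ∃ c : AlgebraicClosure (ZMod p), m = c • m0 := by
  obtain ⟨v₀, hv₀⟩ := hfix
  refine ⟨(1 : AlgebraicClosure (ZMod p)) ⊗ₜ[ZMod p] v₀, ?_⟩
  have hall : ∀ m : AlgebraicClosure (ZMod p) ⊗[ZMod p] V,
      ∃ c : AlgebraicClosure (ZMod p),
        Nop (bcRep φ) a r m = c • ((1 : AlgebraicClosure (ZMod p)) ⊗ₜ[ZMod p] v₀) := by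
    intro m
    induction m using TensorProduct.induction_on with
    | zero => exact ⟨0, by rw [map_zero, zero_smul]⟩
    | tmul k v =>
      obtain ⟨c, hc⟩ := hv₀ _ (Nop_fixed φ har v)
      refine ⟨c • k, ?_⟩
      rw [Nop_bc_tmul, hc, ← TensorProduct.smul_tmul, TensorProduct.smul_tmul', smul_eq_mul,
        mul_one]
    | add m₁ m₂ h₁ h₂ =>
      obtain ⟨c₁, hc₁⟩ := h₁
      obtain ⟨c₂, hc₂⟩ := h₂
      exact ⟨c₁ + c₂, by rw [map_add, hc₁, hc₂, add_smul]⟩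
  intro m hm
  obtain ⟨c, hc⟩ := hall m
  rw [Nop_fixed_smul (bcRep φ) hm] at hc
  refine ⟨((r : ℕ) : AlgebraicClosure (ZMod p))⁻¹ * c, ?_⟩
  rw [mul_smul, ← hc, smul_smul, inv_mul_cancel₀ (natCast_ne_zero_bc hr hpr), one_smul]

end BaseChange

section Linear

variable {p : ℕ} [Fact p.Prime] {V : Type*} [AddCommGroup V] [Module (ZMod p) V] [Finite V]
  {Γ : Type*} [Group Γ] (φ : Γ →* Module.End (ZMod p) V)

/-- (W1) -/
theorem W1 {s r n : ℕ} (hs : s.Prime) (hr : r.Prime) (hps : p ≠ s) (hpr : p ≠ r)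
    (T : Subgroup Γ) [Finite T] (hTs : IsPGroup s T) (hTc : ∀ u ∈ T, ∀ w ∈ T, u * w = w * u)
    (x a : Γ) (hxa : x * a = a * x) (hxn : x ^ n = 1) (hnr : n.Coprime r) (har : a ^ r = 1)
    (hxT : ∀ u ∈ T, x * u * x⁻¹ ∈ T) (haT : ∀ u ∈ T, a * u * a⁻¹ ∈ T)
    (hfix : ∃ v₀ : V, ∀ v : V, φ a v = v → ∃ c : ZMod p, v = c • v₀) :
    ∀ u ∈ T, φ (a * (x * u * x⁻¹ * u⁻¹) * a⁻¹ * (x * u * x⁻¹ * u⁻¹)⁻¹) = 1 := by
  intro u hu
  apply bcRep_eq_one φ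
  exact W1K (bcRep φ) hr T (good_bc φ T hs hps hTs hTc) x a hxa hxn hnr har
    (mem_normalizer_of_conj_mem T hxT) (mem_normalizer_of_conj_mem T haT)
    (hfix_bc φ hr hpr har hfix) u hu

/-- (W2) -/
theorem W2 {s r : ℕ} (hs : s.Prime) (hr : r.Prime) (hps : p ≠ s) (hpr : p ≠ r)
    (B D : Subgroup Γ) [Finite B] (hBs : IsPGroup s B) (hBc : ∀ u ∈ B, ∀ w ∈ B, u * w = w * u)
    (a : Γ) (har : a ^ r = 1) (haB : ∀ u ∈ B, a * u * a⁻¹ ∈ B)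
    (hDB : ∀ d ∈ D, ∀ u ∈ B, d * u = u * d)
    (hBD : ∀ u ∈ B, a * u * a⁻¹ * u⁻¹ ∈ ⁅D, D⁆)
    (hfix : ∃ v₀ : V, ∀ v : V, φ a v = v → ∃ c : ZMod p, v = c • v₀) :
    ∀ u ∈ B, φ (a * u * a⁻¹ * u⁻¹) = 1 := by
  intro u hu
  apply bcRep_eq_one φ
  exact W2K (bcRep φ) hr B D (good_bc φ B hs hps hBs hBc) a har
    (mem_normalizer_of_conj_mem B haB) hDB hBD (hfix_bc φ hr hpr har hfix) u hu

/-- (W3) -/
theorem W3 {s r : ℕ} (hs : s.Prime) (hr : r.Prime) (hps : p ≠ s) (hpr : p ≠ r) (hr2 : r ≠ 2)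
    (S P : Subgroup Γ) [Finite S] [Finite P] (hSs : IsPGroup s S)
    (hSc : ∀ u ∈ S, ∀ w ∈ S, u * w = w * u) (hPp : IsPGroup p P) (hPodd : p ≠ 2)
    (a : Γ) (har : a ^ r = 1)
    (hPS : ∀ x ∈ P, ∀ u ∈ S, x * u * x⁻¹ ∈ S) (haS : ∀ u ∈ S, a * u * a⁻¹ ∈ S)
    (haP : ∀ x ∈ P, a * x * a⁻¹ ∈ P)
    (hirr : ∀ P₀ : Subgroup Γ, P₀ ≤ P → (∀ x ∈ P₀, a * x * a⁻¹ ∈ P₀) → P₀ ≠ P →
      ∀ x ∈ P₀, a * x = x * a)
    (hfrob : ∀ x ∈ P, a * x = x * a → x = 1) (hP1 : P ≠ ⊥)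
    (hfix : ∃ v₀ : V, ∀ v : V, φ a v = v → ∃ c : ZMod p, v = c • v₀) :
    ∀ x ∈ P, ∀ u ∈ S, φ (x * u * x⁻¹ * u⁻¹) = 1 := by
  intro x hx u hu
  apply bcRep_eq_one φ
  have hp : p.Prime := Fact.out
  have hmin : ∀ P₀ : Subgroup Γ, P₀ ≤ P → (∀ x ∈ P₀, a * x * a⁻¹ ∈ P₀) → P₀ ≠ P →
      ∀ x ∈ P₀, x = 1 := by
    intro P₀ h1 h2 h3 y hy
    exact hfrob y (h1 hy) (hirr P₀ h1 h2 h3 y hy)
  exact W3K (bcRep φ) hp hr hpr hPodd hr2 S P (good_bc φ S hs hps hSs hSc) hPp a har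
    (fun y hy => mem_normalizer_of_conj_mem S (hPS y hy)) (mem_normalizer_of_conj_mem S haS)
    (mem_normalizer_of_conj_mem P haP) hmin hfrob hP1 (hfix_bc φ hr hpr har hfix) x hx u hu

end Linear

end Cfsg.Agent.Helper27.BG36
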