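import Mathlib
import Cfsg.Prelude.Def_SporadicCombinatorics

set_option autoImplicit false

namespace Cfsg.Agent.Helper27

open Cfsg
open scoped Pointwise

/-- Index of a point: `some x ↦ x.val`, `none ↦ 23`. -/
def idx : GolayPt → ℕ
  | none => 23
  | some x => ZMod.val x

/-- The point with index `i` (`none` for `i ≥ 23`). -/
def pt (i : ℕ) : GolayPt := if i < 23 then some ((i : ℕ) : ZMod 23) else none

theorem idx_lt (p : GolayPt) : idx p < 24 := by
  cases p with
  | none => simp [idx]
  | some x => simp only [idx]; have := ZMod.val_lt x; omega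

theorem pt_idx (p : GolayPt) : pt (idx p) = p := by
  cases p with
  | none => simp [idx, pt]
  | some x =>
    have := ZMod.val_lt x
    simp only [idx, pt, this, if_true]
    rw [ZMod.natCast_zmod_val]

theorem idx_pt {i : ℕ} (h : i < 24) : idx (pt i) = i := by
  unfold pt
  split_ifs with h1
  · simp only [idx]; exact ZMod.val_natCast_of_lt h1
  · simp only [idx]; omega

theorem idx_injective : Function.Injective idx := fun a b h => by
  rw [← pt_idx a, ← pt_idx b, h]

/-- The subset of the 24 points encoded by the low 24 bits of `m`. -/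
def toFinset (m : ℕ) : Finset GolayPt := Finset.univ.filter fun p => m.testBit (idx p) = true

@[simp] theorem mem_toFinset {m : ℕ} {p : GolayPt} : p ∈ toFinset m ↔ m.testBit (idx p) = true := by
  simp [toFinset]

/-- The binary word encoded by the low 24 bits of `m`. -/
def ofMask (m : ℕ) : GolayPt → ZMod 2 := fun p => if m.testBit (idx p) then 1 else 0

/-- The mask of a subset. -/
def maskOf (s : Finset GolayPt) : ℕ := Nat.ofBits fun i : Fin 24 => decide (pt i ∈ s)

theorem testBit_maskOf (s : Finset GolayPt) (i : ℕ) :
    (maskOf s).testBit i = (decide (i < 24) && decide (pt i ∈ s)) := by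
  unfold maskOf
  rw [Nat.testBit_ofBits]
  split_ifs with h <;> simp [h]

theorem maskOf_lt (s : Finset GolayPt) : maskOf s < 2 ^ 24 := Nat.ofBits_lt_two_pow _

@[simp] theorem toFinset_maskOf (s : Finset GolayPt) : toFinset (maskOf s) = s := by
  ext p
  simp [testBit_maskOf, idx_lt, pt_idx]

theorem toFinset_eq_iff {a b : ℕ} : toFinset a = toFinset b ↔ a % 2 ^ 24 = b % 2 ^ 24 := by
  constructor
  · intro h
    apply Nat.eq_of_testBit_eq
    intro i
    rw [Nat.testBit_mod_two_pow, Nat.testBit_mod_two_pow]
    by_cases hi : i < 24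
    · have := Finset.ext_iff.mp h (pt i)
      simp only [mem_toFinset, idx_pt hi] at this
      simp only [hi, decide_true, Bool.true_and]
      exact Bool.eq_iff_iff.mpr this
    · simp [hi]
  · intro h
    ext p
    simp only [mem_toFinset]
    have h1 := congrArg (fun x => Nat.testBit x (idx p)) h
    simp only [Nat.testBit_mod_two_pow, idx_lt, decide_true, Bool.true_and] at h1
    rw [h1]

theorem toFinset_inj {a b : ℕ} (ha : a < 2 ^ 24) (hb : b < 2 ^ 24) (h : toFinset a = toFinset b) :
    a = b := by
  have := toFinset_eq_iff.mp h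
  rwa [Nat.mod_eq_of_lt ha, Nat.mod_eq_of_lt hb] at this

theorem maskOf_toFinset {a : ℕ} (ha : a < 2 ^ 24) : maskOf (toFinset a) = a :=
  toFinset_inj (maskOf_lt _) ha (toFinset_maskOf _)

@[simp] theorem toFinset_and (a b : ℕ) : toFinset (a &&& b) = toFinset a ∩ toFinset b := by
  ext p; simp [Nat.testBit_and]

@[simp] theorem toFinset_or (a b : ℕ) : toFinset (a ||| b) = toFinset a ∪ toFinset b := by
  ext p; simp [Nat.testBit_or]

@[simp] theorem toFinset_zero : toFinset 0 = ∅ := by
  ext p; simp

theorem toFinset_xor (a b : ℕ) : toFinset (a ^^^ b) = symmDiff (toFinset a) (toFinset b) := by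
  ext p
  simp only [mem_toFinset, Nat.testBit_xor, Finset.mem_symmDiff]
  cases a.testBit (idx p) <;> cases b.testBit (idx p) <;> simp

theorem toFinset_two_pow {i : ℕ} (hi : i < 24) : toFinset (2 ^ i) = {pt i} := by
  ext p
  simp only [mem_toFinset, Nat.testBit_two_pow, decide_eq_true_eq, Finset.mem_singleton]
  constructor
  · intro h; rw [h, pt_idx]
  · intro h; rw [h, idx_pt hi]

theorem ofMask_xor (a b : ℕ) : ofMask (a ^^^ b) = ofMask a + ofMask b := by
  funext p
  simp only [ofMask, Nat.testBit_xor, Pi.add_apply]
  cases a.testBit (idx p) <;> cases b.testBit (idx p) <;> simp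
  decide

theorem ofMask_zero : ofMask 0 = 0 := by
  funext p; simp [ofMask]

theorem support₂_ofMask (m : ℕ) : support₂ (ofMask m) = toFinset m := by
  ext p
  rw [mem_toFinset]
  unfold support₂ ofMask
  rw [Finset.mem_filter]
  cases h : m.testBit (idx p) <;> simp

/-- Every binary word is `ofMask` of a number below `2 ^ 24`. -/
theorem exists_ofMask (w : GolayPt → ZMod 2) : ∃ m, m < 2 ^ 24 ∧ ofMask m = w := by
  refine ⟨maskOf (support₂ w), maskOf_lt _, ?_⟩
  funext p
  simp only [ofMask, testBit_maskOf, idx_lt, pt_idx, decide_true, Bool.true_and, support₂,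
    Finset.mem_filter, Finset.mem_univ, true_and, decide_eq_true_eq]
  have : w p = 0 ∨ w p = 1 := by
    generalize w p = z
    revert z; decide
  rcases this with h | h <;> simp [h]

/-! ### Population count -/

/-- Number of set bits among the lowest `k` bits (written with `Nat.rec` and raw operations so
that the kernel evaluates it quickly). -/
def popAux (k m : ℕ) : ℕ :=
  Nat.rec (motive := fun _ => ℕ) 0 (fun j ih => Nat.add ih (Nat.land (Nat.shiftRight m j) 1)) k

/-- Number of set bits among the low 24 bits. -/
def pop (m : ℕ) : ℕ := popAux 24 m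

theorem popAux_zero (m : ℕ) : popAux 0 m = 0 := rfl

theorem popAux_succ (k m : ℕ) : popAux (k + 1) m = popAux k m + ((m >>> k) &&& 1) := rfl

theorem popAux_eq (k m : ℕ) : popAux k m = ∑ i ∈ Finset.range k, (m.testBit i).toNat := by
  induction k with
  | zero => simp [popAux_zero]
  | succ k ih =>
    rw [popAux_succ, ih, Finset.sum_range_succ]
    congr 1
    rw [Nat.toNat_testBit, Nat.and_one_is_mod, Nat.shiftRight_eq_div_pow]

theorem card_toFinset (m : ℕ) : (toFinset m).card = pop m := by
  rw [pop, popAux_eq]
  unfold toFinset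
  rw [Finset.card_filter]
  -- reindex along idx
  have : ∑ p : GolayPt, (if m.testBit (idx p) = true then 1 else 0)
      = ∑ i ∈ Finset.range 24, (m.testBit i).toNat := by
    refine Finset.sum_bij (fun p _ => idx p) (fun p _ => Finset.mem_range.mpr (idx_lt p))
      (fun a _ b _ h => idx_injective h)
      (fun i hi => ⟨pt i, Finset.mem_univ _, idx_pt (Finset.mem_range.mp hi)⟩) ?_
    intro p _
    cases m.testBit (idx p) <;> simp
  exact this

/-! ### Permutations from tables -/

/-- Look up entry `i` of a packed table (5 bits per entry). -/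
def lk (T i : ℕ) : ℕ := Nat.land (Nat.shiftRight T (Nat.mul 5 i)) 31

theorem lk_eq (T i : ℕ) : lk T i = (T >>> (5 * i)) &&& 31 := rfl

/-- The self-map of the points described by a packed table. -/
def tblFun (T : ℕ) (p : GolayPt) : GolayPt := pt (lk T (idx p))

/-- `T` and `T'` are tables of mutually inverse permutations of `0..23`. -/
def checkInv (T T' : ℕ) : Bool :=
  (List.range 24).all fun i =>
    decide (lk T i < 24) && decide (lk T' i < 24) && (lk T' (lk T i) == i) && (lk T (lk T' i) == i)

theorem checkInv_spec {T T' : ℕ} (h : checkInv T T' = true) {i : ℕ} (hi : i < 24) :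
    lk T i < 24 ∧ lk T' i < 24 ∧ lk T' (lk T i) = i ∧ lk T (lk T' i) = i := by
  unfold checkInv at h
  rw [List.all_eq_true] at h
  have := h i (List.mem_range.mpr hi)
  simp only [Bool.and_eq_true, decide_eq_true_eq, beq_iff_eq] at this
  tauto

/-- The permutation of the points with table `T` (and inverse table `T'`). -/
def mkPerm (T T' : ℕ) (h : checkInv T T' = true) : Equiv.Perm GolayPt where
  toFun := tblFun T
  invFun := tblFun T'
  left_inv := fun p => by
    have := checkInv_spec h (idx_lt p)
    simp only [tblFun, idx_pt this.1, this.2.2.1, pt_idx]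
  right_inv := fun p => by
    have := checkInv_spec h (idx_lt p)
    simp only [tblFun, idx_pt this.2.1, this.2.2.2, pt_idx]

theorem mkPerm_apply (T T' : ℕ) (h : checkInv T T' = true) (p : GolayPt) :
    mkPerm T T' h p = pt (lk T (idx p)) := rfl

theorem mkPerm_inv_apply (T T' : ℕ) (h : checkInv T T' = true) (p : GolayPt) :
    (mkPerm T T' h)⁻¹ p = pt (lk T' (idx p)) := rfl

theorem idx_mkPerm_apply (T T' : ℕ) (h : checkInv T T' = true) (p : GolayPt) :
    idx (mkPerm T T' h p) = lk T (idx p) := by
  rw [mkPerm_apply, idx_pt (checkInv_spec h (idx_lt p)).1]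

theorem idx_mkPerm_inv_apply (T T' : ℕ) (h : checkInv T T' = true) (p : GolayPt) :
    idx ((mkPerm T T' h)⁻¹ p) = lk T' (idx p) := by
  rw [mkPerm_inv_apply, idx_pt (checkInv_spec h (idx_lt p)).2.1]

/-- Auxiliary for `permMask` (written with `Nat.rec` and raw operations so that the kernel
evaluates it quickly). -/
def pmAux (T m n : ℕ) : ℕ :=
  Nat.rec (motive := fun _ => ℕ) 0
    (fun j ih => Nat.lor ih (Nat.shiftLeft (Nat.land (Nat.shiftRight m (lk T j)) 1) j)) n

theorem pmAux_zero (T m : ℕ) : pmAux T m 0 = 0 := rfl

theorem pmAux_succ (T m j : ℕ) :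
    pmAux T m (j + 1) = pmAux T m j ||| (((m >>> lk T j) &&& 1) <<< j) := rfl

/-- The mask whose bit `j` (for `j < 24`) is bit `lk T' j` of `m`: if `T'` is the table of the
inverse of a permutation `σ`, this is the mask of the image of `m` under `σ`. -/
def permMask (T' m : ℕ) : ℕ := pmAux T' m 24

theorem testBit_pmAux (T m n j : ℕ) :
    (pmAux T m n).testBit j = (decide (j < n) && m.testBit (lk T j)) := by
  induction n with
  | zero => simp [pmAux_zero]
  | succ n ih =>
    rw [pmAux_succ, Nat.testBit_or, ih, Nat.testBit_shiftLeft, Nat.testBit_and,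
      Nat.testBit_shiftRight]
    by_cases h1 : j < n
    · have h2 : ¬ j ≥ n := by omega
      have h3 : j < n + 1 := by omega
      simp [h1, h2, h3]
    · by_cases h2 : j = n
      · subst h2
        simp
      · have h3 : ¬ j < n + 1 := by omega
        have h4 : j - n ≠ 0 := by omega
        have : Nat.testBit 1 (j - n) = false := by
          rw [show (1 : ℕ) = 2 ^ 0 by norm_num, Nat.testBit_two_pow]
          simp; omega
        simp [h1, h3, this]

theorem testBit_permMask (T' m j : ℕ) :
    (permMask T' m).testBit j = (decide (j < 24) && m.testBit (lk T' j)) :=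
  testBit_pmAux T' m 24 j

theorem permMask_lt (T' m : ℕ) : permMask T' m < 2 ^ 24 := by
  apply Nat.lt_pow_two_of_testBit
  intro i hi
  rw [testBit_permMask]
  have : ¬ i < 24 := by omega
  simp [this]

theorem toFinset_permMask (T T' : ℕ) (h : checkInv T T' = true) (m : ℕ) :
    toFinset (permMask T' m) = mkPerm T T' h • toFinset m := by
  ext p
  rw [← Finset.inv_smul_mem_iff]
  simp only [mem_toFinset, testBit_permMask, idx_lt, decide_true, Bool.true_and,
    Equiv.Perm.smul_def, idx_mkPerm_inv_apply]

theorem permMask_xor (T' a b : ℕ) : permMask T' (a ^^^ b) = permMask T' a ^^^ permMask T' b := by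
  apply Nat.eq_of_testBit_eq
  intro i
  simp only [testBit_permMask, Nat.testBit_xor]
  cases decide (i < 24) <;> simp

theorem ofMask_permMask (T T' : ℕ) (h : checkInv T T' = true) (m : ℕ) :
    ofMask (permMask T' m) = fun p => ofMask m ((mkPerm T T' h)⁻¹ p) := by
  funext p
  simp only [ofMask, testBit_permMask, idx_lt, decide_true, Bool.true_and, idx_mkPerm_inv_apply]

end Cfsg.Agent.Helper27
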