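import Mathlib
import Cfsg.Prelude.Def_SporadicCombinatorics
import Cfsg.Agent.Lib.Helper27.Mask

set_option autoImplicit false

namespace Cfsg.Agent.Helper27

open Cfsg
open scoped Pointwise

/-! ### Bounded universal checks evaluated by the kernel -/

/-- `f k` holds for all `k < n`. -/
def allBelow : ℕ → (ℕ → Bool) → Bool
  | 0, _ => true
  | n + 1, f => f n && allBelow n f

theorem allBelow_spec {n : ℕ} {f : ℕ → Bool} : allBelow n f = true ↔ ∀ k < n, f k = true := by
  induction n with
  | zero => simp [allBelow]
  | succ n ih =>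
    rw [allBelow, Bool.and_eq_true, ih]
    constructor
    · rintro ⟨h1, h2⟩ k hk
      rcases Nat.lt_succ_iff_lt_or_eq.mp hk with h | h
      · exact h2 k h
      · rw [h]; exact h1
    · intro h
      exact ⟨h n (Nat.lt_succ_self n), fun k hk => h k (Nat.lt_succ_of_lt hk)⟩

/-! ### XOR-combinations of a list of masks -/

/-- XOR of the members of the list selected by the bits of `k` (bit 0 ↔ head). -/
def xorSel : List ℕ → ℕ → ℕ
  | [], _ => 0
  | b :: bs, k => (if k % 2 = 1 then b else 0) ^^^ xorSel bs (k / 2)

theorem xor_xor_xor_cancel (a x y : ℕ) : (a ^^^ x) ^^^ (a ^^^ y) = x ^^^ y := by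
  apply Nat.eq_of_testBit_eq
  intro i
  simp only [Nat.testBit_xor]
  cases a.testBit i <;> cases x.testBit i <;> cases y.testBit i <;> rfl

theorem xorSel_xor (L : List ℕ) (k k' : ℕ) :
    xorSel L (k ^^^ k') = xorSel L k ^^^ xorSel L k' := by
  induction L generalizing k k' with
  | nil => simp [xorSel]
  | cons b bs ih =>
    simp only [xorSel]
    rw [Nat.xor_div_two, ih, Nat.xor_mod_two_eq]
    rcases Nat.mod_two_eq_zero_or_one k with h | h <;>
      rcases Nat.mod_two_eq_zero_or_one k' with h' | h'
    · have h3 : (k + k') % 2 = 0 := by omega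
      simp [h, h', h3]
    · have h3 : (k + k') % 2 = 1 := by omega
      simp only [h, h', h3, if_true, Nat.zero_xor]
      simp
      rw [Nat.xor_left_comm]
    · have h3 : (k + k') % 2 = 1 := by omega
      simp only [h, h', h3, if_true, Nat.zero_xor]
      simp
      rw [Nat.xor_assoc]
    · have h3 : (k + k') % 2 = 0 := by omega
      simp only [h, h', h3, if_true, Nat.zero_xor]
      simp
      rw [xor_xor_xor_cancel]

theorem xorSel_mod (L : List ℕ) (k : ℕ) : xorSel L (k % 2 ^ L.length) = xorSel L k := by
  induction L generalizing k with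
  | nil => simp [xorSel]
  | cons b bs ih =>
    simp only [xorSel, List.length_cons]
    have h1 : k % 2 ^ (bs.length + 1) % 2 = k % 2 := by
      rw [pow_succ', Nat.mod_mul_right_mod]
    have h2 : k % 2 ^ (bs.length + 1) / 2 = (k / 2) % 2 ^ bs.length := by
      rw [pow_succ', Nat.mod_mul_right_div_self]
    simp only [h1, h2, ih]

theorem xorSel_lt (L : List ℕ) (n : ℕ) (hL : ∀ b ∈ L, b < 2 ^ n) (k : ℕ) : xorSel L k < 2 ^ n := by
  induction L generalizing k with
  | nil => simp [xorSel]
  | cons b bs ih =>
    simp only [xorSel]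
    apply Nat.xor_lt_two_pow
    · split_ifs
      · exact hL b (List.mem_cons_self)
      · exact Nat.two_pow_pos n
    · exact ih (fun b hb => hL b (List.mem_cons_of_mem _ hb)) _

theorem ofMask_xorSel_mem (S : Submodule (ZMod 2) (GolayPt → ZMod 2)) (L : List ℕ)
    (hL : ∀ b ∈ L, ofMask b ∈ S) (k : ℕ) : ofMask (xorSel L k) ∈ S := by
  induction L generalizing k with
  | nil => simp only [xorSel, ofMask_zero]; exact S.zero_mem
  | cons b bs ih =>
    simp only [xorSel]
    rw [ofMask_xor]
    apply S.add_mem
    · split_ifs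
      · exact hL b (List.mem_cons_self)
      · rw [ofMask_zero]; exact S.zero_mem
    · exact ih (fun b hb => hL b (List.mem_cons_of_mem _ hb)) _

/-! ### The generators and a systematic basis of the code -/

/-- Masks of the words `qrWord t`, `t = 0, …, 22`, followed by the all-ones word. -/
def genMasks : List ℕ :=
  [340831, 681662, 1363324, 2726648, 5453296, 2517985, 5035970, 1683333, 3366666, 6733332, 5078057,
   1767507, 3535014, 7070028, 5751449, 3114291, 6228582, 4068557, 8137114, 7885621, 7382635, 6376663,
   4364719, 16777215]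

/-- A basis of the code in systematic form: word `j` has bit `j` set and the other bits below 12
clear. -/
def basisMasks : List ℕ :=
  [13062145, 4845570, 13938692, 7221256, 10170384, 11952160, 15515712, 2019456, 4038912, 8077824,
   11654144, 14919680]

/-- The code word with information bits `k` (the low 12 bits). -/
def enc (k : ℕ) : ℕ := xorSel basisMasks k

/-- Mask-level membership test for the code (on the low 24 bits). -/
def isCode (m : ℕ) : Bool := enc (m % 4096) == m % 16777216

theorem enc_lt (k : ℕ) : enc k < 2 ^ 24 := by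
  apply xorSel_lt
  decide

theorem enc_mod (k : ℕ) : enc (k % 4096) = enc k := xorSel_mod basisMasks k

theorem enc_xor (k k' : ℕ) : enc (k ^^^ k') = enc k ^^^ enc k' := xorSel_xor _ _ _

theorem enc_info : ∀ k < 4096, enc k % 4096 = k := by
  have h : allBelow 4096 (fun k => enc k % 4096 == k) = true := by decide +kernel
  intro k hk
  have := allBelow_spec.mp h k hk
  simpa using this

theorem qrWord_eq_ofMask : ∀ t : ZMod 23, qrWord t = ofMask (genMasks.getD (ZMod.val t) 0) := by
  have h : ∀ t : ZMod 23, ∀ p : GolayPt, qrWord t p = ofMask (genMasks.getD (ZMod.val t) 0) p := by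
    decide +kernel
  intro t
  funext p
  exact h t p

theorem one_eq_ofMask : (1 : GolayPt → ZMod 2) = ofMask 16777215 := by
  have h : ∀ p : GolayPt, (1 : GolayPt → ZMod 2) p = ofMask 16777215 p := by decide +kernel
  funext p
  exact h p

theorem genMasks_mem_golayCode : ∀ b ∈ genMasks, ofMask b ∈ golayCode := by
  intro b hb
  obtain ⟨i, hi, rfl⟩ := List.getElem_of_mem hb
  have hlen : genMasks.length = 24 := rfl
  by_cases h23 : i < 23
  · have : genMasks[i] = genMasks.getD (ZMod.val ((i : ℕ) : ZMod 23)) 0 := by
      rw [ZMod.val_natCast_of_lt h23, List.getD_eq_getElem _ _ hi]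
    rw [this, ← qrWord_eq_ofMask]
    exact Submodule.subset_span (Or.inl ⟨_, rfl⟩)
  · have : i = 23 := by omega
    subst this
    have : genMasks[23] = 16777215 := rfl
    rw [this, ← one_eq_ofMask]
    exact Submodule.subset_span (Or.inr rfl)

/-- Each basis word as an XOR-combination of the generators. -/
def basisCombos : List ℕ :=
  [8390313, 280, 8389785, 1400, 8390330, 8390551, 8390093, 2000, 1347, 101, 8390243, 8390181]

theorem basisMasks_mem_golayCode : ∀ b ∈ basisMasks, ofMask b ∈ golayCode := by
  have key : basisMasks = basisCombos.map (xorSel genMasks) := by decide +kernel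
  intro b hb
  rw [key, List.mem_map] at hb
  obtain ⟨c, _, rfl⟩ := hb
  exact ofMask_xorSel_mem _ _ genMasks_mem_golayCode c

theorem ofMask_enc_mem (k : ℕ) : ofMask (enc k) ∈ golayCode :=
  ofMask_xorSel_mem _ _ basisMasks_mem_golayCode k

theorem genMasks_isCode : ∀ b ∈ genMasks, enc (b % 4096) = b := by decide +kernel

/-- Every code word is `ofMask (enc k)` for some `k < 4096`. -/
theorem exists_enc_of_mem {w : GolayPt → ZMod 2} (hw : w ∈ golayCode) :
    ∃ k < 4096, w = ofMask (enc k) := by
  have h : ∃ k, w = ofMask (enc k) := by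
    unfold golayCode at hw
    induction hw using Submodule.span_induction with
    | mem x hx =>
      rcases hx with ⟨t, rfl⟩ | hx
      · rw [qrWord_eq_ofMask]
        have hlt : ZMod.val t < 23 := ZMod.val_lt t
        have hmem : genMasks.getD (ZMod.val t) 0 ∈ genMasks := by
          rw [List.getD_eq_getElem _ _ (by simp [genMasks]; omega)]
          exact List.getElem_mem _
        exact ⟨_, by rw [genMasks_isCode _ hmem]⟩
      · rw [Set.mem_singleton_iff] at hx
        rw [hx, one_eq_ofMask]
        exact ⟨16777215 % 4096, by rw [genMasks_isCode _ (by decide)]⟩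
    | zero => exact ⟨0, by rw [show enc 0 = 0 by decide, ofMask_zero]⟩
    | add x y _ _ hx hy =>
      obtain ⟨k, rfl⟩ := hx
      obtain ⟨k', rfl⟩ := hy
      exact ⟨k ^^^ k', by rw [enc_xor, ofMask_xor]⟩
    | smul c x _ hx =>
      obtain ⟨k, rfl⟩ := hx
      have hc : c = 0 ∨ c = 1 := by revert c; decide
      rcases hc with rfl | rfl
      · exact ⟨0, by rw [zero_smul, show enc 0 = 0 by decide, ofMask_zero]⟩
      · exact ⟨k, by rw [one_smul]⟩
  obtain ⟨k, rfl⟩ := h
  exact ⟨k % 4096, Nat.mod_lt _ (by norm_num), by rw [enc_mod]⟩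

theorem ofMask_eq_iff {a b : ℕ} : ofMask a = ofMask b ↔ a % 2 ^ 24 = b % 2 ^ 24 := by
  rw [← toFinset_eq_iff, ← support₂_ofMask, ← support₂_ofMask]
  constructor
  · intro h; rw [h]
  · intro h
    funext p
    have := Finset.ext_iff.mp h p
    simp only [support₂, Finset.mem_filter, Finset.mem_univ, true_and] at this
    have ha : ofMask a p = 0 ∨ ofMask a p = 1 := by
      generalize ofMask a p = z; revert z; decide
    have hb : ofMask b p = 0 ∨ ofMask b p = 1 := by
      generalize ofMask b p = z; revert z; decide
    rcases ha with ha | ha <;> rcases hb with hb | hb <;> simp_all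

/-- Mask-level criterion for membership in the code. -/
theorem mem_golayCode_iff (m : ℕ) : ofMask m ∈ golayCode ↔ isCode m = true := by
  unfold isCode
  rw [beq_iff_eq]
  constructor
  · intro h
    obtain ⟨k, hk, hm⟩ := exists_enc_of_mem h
    have h1 := ofMask_eq_iff.mp hm
    rw [Nat.mod_eq_of_lt (enc_lt k)] at h1
    have h2 : m % 4096 = k := by
      have : m % 4096 = m % 2 ^ 24 % 4096 := by
        rw [show (2 : ℕ) ^ 24 = 4096 * 4096 by norm_num, Nat.mod_mul_right_mod]
      rw [this, h1, enc_info k hk]
    rw [h2, show (16777216 : ℕ) = 2 ^ 24 by norm_num, h1]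
  · intro h
    have : ofMask m = ofMask (enc (m % 4096)) := by
      rw [ofMask_eq_iff, h, show (16777216 : ℕ) = 2 ^ 24 by norm_num, Nat.mod_mod]
    rw [this]
    exact ofMask_enc_mem _

end Cfsg.Agent.Helper27
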