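import Mathlib
import Cfsg.Prelude.Def_SporadicCombinatorics
import Cfsg.Agent.Lib.Helper27.Code

set_option autoImplicit false

namespace Cfsg.Agent.Helper27

open Cfsg
open scoped Pointwise

/-! ### Membership of table permutations in `M24` -/

/-- Mask-level check that the permutation whose inverse has table `T'` maps the code into itself. -/
def inM24 (T' : ℕ) : Bool := genMasks.all fun g => isCode (permMask T' g)

theorem smul_support₂ (σ : Equiv.Perm GolayPt) (w : GolayPt → ZMod 2) :
    σ • support₂ w = support₂ (fun p => w (σ⁻¹ p)) := by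
  ext p
  rw [← Finset.inv_smul_mem_iff]
  simp [support₂]

theorem finite_supports : (supports (golayCode : Set (GolayPt → ZMod 2))).Finite :=
  Set.toFinite _

/-- A permutation mapping each code word to a code word (by precomposition with its inverse)
lies in `M24`. -/
theorem mem_M24_of_forall (σ : Equiv.Perm GolayPt)
    (h : ∀ w ∈ golayCode, (fun p => w (σ⁻¹ p)) ∈ golayCode) : σ ∈ M24 := by
  unfold M24 setSystemAut
  rw [MulAction.mem_stabilizer_set' finite_supports]
  rintro b ⟨w, hw, rfl⟩
  rw [smul_support₂]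
  exact ⟨_, h w hw, rfl⟩

theorem mem_M24_of_gens (σ : Equiv.Perm GolayPt)
    (h : ∀ b ∈ genMasks, (fun p => ofMask b (σ⁻¹ p)) ∈ golayCode) : σ ∈ M24 := by
  apply mem_M24_of_forall
  let f : (GolayPt → ZMod 2) →ₗ[ZMod 2] (GolayPt → ZMod 2) :=
    LinearMap.funLeft (ZMod 2) (ZMod 2) (fun p => σ⁻¹ p)
  have hf : ∀ w, f w = fun p => w (σ⁻¹ p) := fun w => rfl
  suffices hle : Submodule.span (ZMod 2) (Set.range qrWord ∪ {1}) ≤ golayCode.comap f by
    intro w hw
    have := hle hw
    rwa [Submodule.mem_comap, hf] at this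
  rw [Submodule.span_le]
  rintro x (⟨t, rfl⟩ | hx)
  · rw [SetLike.mem_coe, Submodule.mem_comap, hf, qrWord_eq_ofMask]
    apply h
    have hlt : ZMod.val t < 23 := ZMod.val_lt t
    rw [List.getD_eq_getElem _ _ (by simp [genMasks]; omega)]
    exact List.getElem_mem _
  · rw [Set.mem_singleton_iff] at hx
    rw [hx, SetLike.mem_coe, Submodule.mem_comap, hf]
    have := h 16777215 (by decide)
    rwa [← one_eq_ofMask] at this

theorem mkPerm_mem_M24 (T T' : ℕ) (h : checkInv T T' = true) (h2 : inM24 T' = true) :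
    mkPerm T T' h ∈ M24 := by
  apply mem_M24_of_gens
  intro b hb
  rw [← ofMask_permMask T T' h, mem_golayCode_iff]
  unfold inM24 at h2
  rw [List.all_eq_true] at h2
  exact h2 b hb

/-- The permutation described by a pair of tables (`1` if the tables are not mutually inverse). -/
def permOf (g : ℕ × ℕ) : Equiv.Perm GolayPt :=
  if h : checkInv g.1 g.2 = true then mkPerm g.1 g.2 h else 1

theorem permOf_eq {g : ℕ × ℕ} (h : checkInv g.1 g.2 = true) : permOf g = mkPerm g.1 g.2 h := by
  unfold permOf; rw [dif_pos h]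

theorem toFinset_permMask' {g : ℕ × ℕ} (h : checkInv g.1 g.2 = true) (m : ℕ) :
    toFinset (permMask g.2 m) = permOf g • toFinset m := by
  rw [permOf_eq h]; exact toFinset_permMask _ _ h m

/-! ### Transport of the code's combinatorics by elements of `M24` -/

theorem smul_mem_supports {g : Equiv.Perm GolayPt} (hg : g ∈ M24) {s : Finset GolayPt} :
    g • s ∈ supports (golayCode : Set (GolayPt → ZMod 2)) ↔
      s ∈ supports (golayCode : Set (GolayPt → ZMod 2)) := by
  have h1 : ∀ {g : Equiv.Perm GolayPt}, g ∈ M24 → ∀ {s : Finset GolayPt},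
      s ∈ supports (golayCode : Set (GolayPt → ZMod 2)) →
      g • s ∈ supports (golayCode : Set (GolayPt → ZMod 2)) := by
    intro g hg s hs
    have := (MulAction.mem_stabilizer_set' finite_supports).mp hg
    exact this hs
  constructor
  · intro h
    have := h1 (M24.inv_mem hg) h
    rwa [inv_smul_smul] at this
  · exact h1 hg

theorem smul_mem_octads {g : Equiv.Perm GolayPt} (hg : g ∈ M24) {s : Finset GolayPt} :
    g • s ∈ octads ↔ s ∈ octads := by
  unfold octads wordsOfWeight
  simp only [Set.mem_ofPred_eq, smul_mem_supports hg, Finset.card_smul_finset]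

theorem smul_mem_dodecads {g : Equiv.Perm GolayPt} (hg : g ∈ M24) {s : Finset GolayPt} :
    g • s ∈ dodecads ↔ s ∈ dodecads := by
  unfold dodecads wordsOfWeight
  simp only [Set.mem_ofPred_eq, smul_mem_supports hg, Finset.card_smul_finset]

theorem card_smul_inter (g : Equiv.Perm GolayPt) (a b : Finset GolayPt) :
    (g • a ∩ g • b).card = (a ∩ b).card := by
  rw [← Finset.smul_finset_inter, Finset.card_smul_finset]

theorem smul_mem_smul_iff (g : Equiv.Perm GolayPt) (p : GolayPt) (s : Finset GolayPt) :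
    g p ∈ g • s ↔ p ∈ s := by
  rw [← Equiv.Perm.smul_def, Finset.smul_mem_smul_finset_iff]

theorem smul_singleton_pt (g : Equiv.Perm GolayPt) (p : GolayPt) :
    g • ({p} : Finset GolayPt) = {g p} := by
  rw [Finset.smul_finset_singleton, Equiv.Perm.smul_def]

/-! ### Enumeration of octads and dodecads -/

theorem mem_supports_iff {s : Finset GolayPt} :
    s ∈ supports (golayCode : Set (GolayPt → ZMod 2)) ↔ ∃ k < 4096, s = toFinset (enc k) := by
  constructor
  · rintro ⟨w, hw, rfl⟩
    obtain ⟨k, hk, rfl⟩ := exists_enc_of_mem hw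
    exact ⟨k, hk, support₂_ofMask _⟩
  · rintro ⟨k, _, rfl⟩
    exact ⟨ofMask (enc k), ofMask_enc_mem k, support₂_ofMask _⟩

theorem mem_octads_iff {s : Finset GolayPt} :
    s ∈ octads ↔ ∃ k < 4096, pop (enc k) = 8 ∧ s = toFinset (enc k) := by
  unfold octads wordsOfWeight
  rw [Set.mem_ofPred_eq, mem_supports_iff]
  constructor
  · rintro ⟨⟨k, hk, rfl⟩, hc⟩
    exact ⟨k, hk, by rw [← card_toFinset, hc], rfl⟩
  · rintro ⟨k, hk, hp, rfl⟩
    exact ⟨⟨k, hk, rfl⟩, by rw [card_toFinset, hp]⟩

theorem mem_dodecads_iff {s : Finset GolayPt} :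
    s ∈ dodecads ↔ ∃ k < 4096, pop (enc k) = 12 ∧ s = toFinset (enc k) := by
  unfold dodecads wordsOfWeight
  rw [Set.mem_ofPred_eq, mem_supports_iff]
  constructor
  · rintro ⟨⟨k, hk, rfl⟩, hc⟩
    exact ⟨k, hk, by rw [← card_toFinset, hc], rfl⟩
  · rintro ⟨k, hk, hp, rfl⟩
    exact ⟨⟨k, hk, rfl⟩, by rw [card_toFinset, hp]⟩

end Cfsg.Agent.Helper27
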