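import Mathlib
import Cfsg.Prelude.Def_SporadicCombinatorics
import Cfsg.Agent.Lib.Helper27.M24

set_option autoImplicit false

namespace Cfsg.Agent.Helper27

open Cfsg
open scoped Pointwise

/-- The subgroup of `M24` fixing (setwise) every subset encoded by a member of `base`. -/
def stabOf (base : List ℕ) : Subgroup (Equiv.Perm GolayPt) where
  carrier := {g | g ∈ M24 ∧ ∀ m ∈ base, g • toFinset m = toFinset m}
  one_mem' := ⟨M24.one_mem, fun m _ => one_smul _ _⟩
  mul_mem' := by
    rintro a b ⟨ha, ha'⟩ ⟨hb, hb'⟩
    exact ⟨M24.mul_mem ha hb, fun m hm => by rw [mul_smul, hb' m hm, ha' m hm]⟩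
  inv_mem' := by
    rintro a ⟨ha, ha'⟩
    exact ⟨M24.inv_mem ha, fun m hm => by rw [inv_smul_eq_iff, ha' m hm]⟩

theorem mem_stabOf {base : List ℕ} {g : Equiv.Perm GolayPt} :
    g ∈ stabOf base ↔ g ∈ M24 ∧ ∀ m ∈ base, g • toFinset m = toFinset m := Iff.rfl

/-- Kernel-checkable validity of a generator: the tables are mutually inverse, the permutation
preserves the code and fixes every member of `base`. -/
def genOK (base : List ℕ) (g : ℕ × ℕ) : Bool :=
  checkInv g.1 g.2 && inM24 g.2 && base.all (fun m => permMask g.2 m == m)

theorem genOK_checkInv {base : List ℕ} {g : ℕ × ℕ} (h : genOK base g = true) :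
    checkInv g.1 g.2 = true := by
  unfold genOK at h
  simp only [Bool.and_eq_true] at h
  exact h.1.1

theorem permOf_mem_stabOf {base : List ℕ} {g : ℕ × ℕ} (h : genOK base g = true) :
    permOf g ∈ stabOf base := by
  have h0 := genOK_checkInv h
  unfold genOK at h
  simp only [Bool.and_eq_true, List.all_eq_true, beq_iff_eq] at h
  obtain ⟨⟨h1, h2⟩, h3⟩ := h
  refine ⟨?_, fun m hm => ?_⟩
  · rw [permOf_eq h1]; exact mkPerm_mem_M24 _ _ h1 h2
  · rw [← toFinset_permMask' h0, h3 m hm]

/-- The action of a generator on a state (a list of masks). -/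
def actState (g : ℕ × ℕ) (x : List ℕ) : List ℕ := x.map (permMask g.2)

/-- Apply a word (list of generator indices, first letter applied first) to a state. -/
def applyWord (gens : List (ℕ × ℕ)) : List ℕ → List ℕ → List ℕ
  | [], x => x
  | i :: w, x =>
    match gens[i]? with
    | none => applyWord gens w x
    | some g => applyWord gens w (actState g x)

/-- The state `x` is the image of the state `x0` under an element of `stabOf base`. -/
def Reach (base x0 x : List ℕ) : Prop :=
  ∃ g ∈ stabOf base, x.map toFinset = x0.map (fun m => g • toFinset m)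

theorem reach_refl (base x0 : List ℕ) : Reach base x0 x0 :=
  ⟨1, (stabOf base).one_mem, by simp⟩

theorem reach_act {base x0 x : List ℕ} {g : ℕ × ℕ} (hg : genOK base g = true)
    (h : Reach base x0 x) : Reach base x0 (actState g x) := by
  obtain ⟨a, ha, hx⟩ := h
  refine ⟨permOf g * a, (stabOf base).mul_mem (permOf_mem_stabOf hg) ha, ?_⟩
  have h0 := genOK_checkInv hg
  unfold actState
  rw [List.map_map]
  have : (toFinset ∘ permMask g.2) = (fun s => permOf g • s) ∘ toFinset := by
    funext m
    simp only [Function.comp, toFinset_permMask' h0]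
  rw [this, ← List.map_map, hx, List.map_map]
  apply List.map_congr_left
  intro m _
  simp only [Function.comp, mul_smul]

theorem reach_word {base : List ℕ} {gens : List (ℕ × ℕ)} (hgens : ∀ g ∈ gens, genOK base g = true)
    (w : List ℕ) {x0 x : List ℕ} (h : Reach base x0 x) : Reach base x0 (applyWord gens w x) := by
  induction w generalizing x with
  | nil => exact h
  | cons i w ih =>
    rw [applyWord]
    cases hi : gens[i]? with
    | none => exact ih h
    | some g =>
      exact ih (reach_act (hgens g (List.mem_of_getElem? hi)) h)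

/-- Certificate check: for each item `a` of the list with its word `w`, the word maps the state
`start a` to the state `tgt a`. -/
def certCheck (gens : List (ℕ × ℕ)) (start tgt : ℕ → List ℕ) : List ℕ → List (List ℕ) → Bool
  | [], [] => true
  | a :: L, w :: W => (applyWord gens w (start a) == tgt a) && certCheck gens start tgt L W
  | _, _ => false

theorem certCheck_spec {base : List ℕ} {gens : List (ℕ × ℕ)}
    (hgens : ∀ g ∈ gens, genOK base g = true) (start tgt : ℕ → List ℕ) :
    ∀ (L : List ℕ) (W : List (List ℕ)), certCheck gens start tgt L W = true →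
      ∀ a ∈ L, Reach base (start a) (tgt a)
  | [], _, _ => by simp
  | a :: L, [], h => by simp [certCheck] at h
  | a :: L, w :: W, h => by
    rw [certCheck, Bool.and_eq_true, beq_iff_eq] at h
    intro b hb
    rcases List.mem_cons.mp hb with rfl | hb
    · rw [← h.1]
      exact reach_word hgens w (reach_refl _ _)
    · exact certCheck_spec hgens start tgt L W h.2 b hb

theorem reach_single {base : List ℕ} {a b : ℕ} (h : Reach base [a] [b]) :
    ∃ g ∈ stabOf base, g • toFinset a = toFinset b := by
  obtain ⟨g, hg, hx⟩ := h
  refine ⟨g, hg, ?_⟩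
  simpa using hx.symm

end Cfsg.Agent.Helper27
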