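import Mathlib
import Cfsg.Prelude.Def_SporadicCombinatorics
import Cfsg.Agent.Lib.Helper27.Orbit
import Cfsg.Agent.Lib.Helper27.Enum

set_option autoImplicit false
set_option maxRecDepth 1000000

namespace Cfsg.Agent.Helper27

open Cfsg
open scoped Pointwise

/-! ### Counting helpers -/

/-- Strictly increasing keys along a list (kernel-checkable, linear time). -/
def incrBy (key : ℕ → ℕ) : List ℕ → Bool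
  | [] => true
  | [_] => true
  | a :: b :: l => decide (key a < key b) && incrBy key (b :: l)

theorem incrBy_pairwise (key : ℕ → ℕ) :
    ∀ L : List ℕ, incrBy key L = true → L.Pairwise (fun a b => key a < key b)
  | [], _ => List.Pairwise.nil
  | [a], _ => List.pairwise_singleton _ _
  | a :: b :: l, h => by
    rw [incrBy, Bool.and_eq_true, decide_eq_true_eq] at h
    have ih := incrBy_pairwise key (b :: l) h.2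
    rw [List.pairwise_cons]
    refine ⟨?_, ih⟩
    intro c hc
    rcases List.mem_cons.mp hc with rfl | hc
    · exact h.1
    · exact lt_trans h.1 ((List.pairwise_cons.mp ih).1 c hc)

theorem nodup_of_incrBy (key : ℕ → ℕ) (L : List ℕ) (h : incrBy key L = true) : L.Nodup := by
  have := incrBy_pairwise key L h
  exact this.imp (fun hab heq => by rw [heq] at hab; exact lt_irrefl _ hab)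

theorem octadList_nodup : octadList.Nodup :=
  nodup_of_incrBy (fun m => m % 4096) _ (by decide +kernel)

theorem dodecadList_nodup : dodecadList.Nodup :=
  nodup_of_incrBy (fun m => m % 4096) _ (by decide +kernel)

/-- The number of subsets encoded by a duplicate-free list of masks below `2 ^ 24`. -/
theorem ncard_of_list (L : List ℕ) (hnd : L.Nodup) (hlt : ∀ m ∈ L, m < 2 ^ 24) :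
    {s : Finset GolayPt | ∃ m ∈ L, s = toFinset m}.ncard = L.length := by
  have h1 : {s : Finset GolayPt | ∃ m ∈ L, s = toFinset m} = toFinset '' (↑L.toFinset : Set ℕ) := by
    ext s
    simp only [Set.mem_ofPred_eq, Set.mem_image, Finset.mem_coe, List.mem_toFinset]
    constructor
    · rintro ⟨m, hm, rfl⟩; exact ⟨m, hm, rfl⟩
    · rintro ⟨m, hm, rfl⟩; exact ⟨m, hm, rfl⟩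
  rw [h1, Set.InjOn.ncard_image, Set.ncard_coe_finset, List.toFinset_card_of_nodup hnd]
  intro a ha b hb hab
  simp only [Finset.mem_coe, List.mem_toFinset] at ha hb
  exact toFinset_inj (hlt a ha) (hlt b hb) hab

/-- Transport of a count along a permutation. -/
theorem ncard_transport (h : Equiv.Perm GolayPt) (A B : Set (Finset GolayPt))
    (hAB : ∀ s, s ∈ A ↔ h • s ∈ B) : B.ncard = A.ncard := by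
  have : B = (fun s => h • s) '' A := by
    ext t
    constructor
    · intro ht
      refine ⟨h⁻¹ • t, ?_, by simp⟩
      rw [hAB]; simpa using ht
    · rintro ⟨s, hs, rfl⟩
      exact (hAB s).mp hs
  rw [this, Set.ncard_image_of_injective _ (MulAction.injective h)]

/-! ### Orbit statements from certificates -/

theorem same_orbit_of_cert {base : List ℕ} {gens : List (ℕ × ℕ)}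
    (hgens : ∀ g ∈ gens, genOK base g = true) (inv rep : ℕ → ℕ) (L : List ℕ) (W : List (List ℕ))
    (h : certCheck gens (fun m => [rep (inv m)]) (fun m => [m]) L W = true) :
    ∀ m1 ∈ L, ∀ m2 ∈ L, inv m1 = inv m2 →
      ∃ g ∈ stabOf base, g • toFinset m1 = toFinset m2 := by
  intro m1 h1 m2 h2 he
  obtain ⟨g1, hg1, e1⟩ := reach_single (certCheck_spec hgens _ _ L W h m1 h1)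
  obtain ⟨g2, hg2, e2⟩ := reach_single (certCheck_spec hgens _ _ L W h m2 h2)
  refine ⟨g2 * g1⁻¹, (stabOf base).mul_mem hg2 ((stabOf base).inv_mem hg1), ?_⟩
  rw [mul_smul, ← e1, inv_smul_smul, he, e2]

/-- Conjugating an element of the stabiliser of a base configuration by `h ∈ M24`. -/
theorem conj_mem_M24 {base : List ℕ} {h g0 : Equiv.Perm GolayPt} (hh : h ∈ M24)
    (hg0 : g0 ∈ stabOf base) : h * g0 * h⁻¹ ∈ M24 :=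
  M24.mul_mem (M24.mul_mem hh hg0.1) (M24.inv_mem hh)

theorem conj_smul (h g0 : Equiv.Perm GolayPt) (s t : Finset GolayPt) (hst : g0 • s = t) :
    (h * g0 * h⁻¹) • (h • s) = h • t := by
  rw [mul_smul, mul_smul, inv_smul_smul, hst]

theorem conj_fix {base : List ℕ} {h g0 : Equiv.Perm GolayPt} (hg0 : g0 ∈ stabOf base)
    {m : ℕ} (hm : m ∈ base) : (h * g0 * h⁻¹) • (h • toFinset m) = h • toFinset m :=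
  conj_smul h g0 _ _ (hg0.2 m hm)

theorem stabOf_fix_pt {base : List ℕ} {g : Equiv.Perm GolayPt} (hg : g ∈ stabOf base) {i : ℕ}
    (hi : i < 24) (hm : 2 ^ i ∈ base) : g (pt i) = pt i := by
  have := hg.2 _ hm
  rw [toFinset_two_pow hi, smul_singleton_pt, Finset.singleton_inj] at this
  exact this

theorem conj_fix_pt {base : List ℕ} {h g0 : Equiv.Perm GolayPt} (hg0 : g0 ∈ stabOf base)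
    {i : ℕ} (hi : i < 24) (hm : 2 ^ i ∈ base) : (h * g0 * h⁻¹) (h (pt i)) = h (pt i) := by
  simp only [Equiv.Perm.coe_mul, Function.comp]
  have : h⁻¹ (h (pt i)) = pt i := Equiv.Perm.inv_eq_iff_eq.mpr rfl
  rw [this, stabOf_fix_pt hg0 hi hm]

theorem stabOf_nil_eq {g : Equiv.Perm GolayPt} : g ∈ stabOf [] ↔ g ∈ M24 := by
  rw [mem_stabOf]; simp

/-! ### Transitivity of `M24` on octads and on dodecads -/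

/-- Generators of `M24`: `t ↦ t + 1`, `t ↦ 2t`, `t ↦ -1/t`, the cube twist, and inverses. -/
def gensM24 : List (ℕ × ℕ) :=
  [(956302485175575353788796878166559809, 983478296959358443554250846857397270), (983478296959358443554250846857397270, 956302485175575353788796878166559809), (983435072843990828779021698901151808, 970567384681219435340729552166356352), (970567384681219435340729552166356352, 983435072843990828779021698901151808), (1795248432537898728475572672376535, 1795248432537898728475572672376535), (974380510768821363662145534143076928, 980275914351787324191492553553580224), (980275914351787324191492553553580224, 974380510768821363662145534143076928)]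

theorem gensM24_ok : ∀ g ∈ gensM24, genOK [] g = true := by decide +kernel

/-- The base octad. -/
def oct0 : ℕ := 13062145

/-- The base dodecad. -/
def dod0 : ℕ := 8245261

def octadWords : List (List ℕ) :=
  [[], [1,3,4,0,3], [0], [1,3,6,0], [0,0,2,2,4], [0,0], [0,0,4,6], [2,0,4,5,1], [4,1,6],
   [0,0,2,2,4,0], [6,6,2], [0,0,0], [1,4,6,6], [1,2,1,2], [2,0,4,5], [6,2,1], [0,5,1,4],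
   [0,6,0,4,6,1], [0,5,5], [1,4,0,3], [0,4,5,1], [0,0,0,0], [5,0,4,5], [1,4,5,0,3], [1,4,6,6,0],
   [1,2,2,1], [3,0,4], [0,2,0,4,6], [1,4,6,0,3], [6,2], [0,5,1,4,0], [1,2,5], [0,6,0,4,6],
   [0,5,5,0], [1,4,0,3,0], [1,4,1,6,1], [0,4,5], [5,0,4,1,6], [4,6,1], [5,0,4,5,0], [2,0,2],
   [1,4,5,0,3,0], [2,4,0,3], [1,1,2,2,4,0], [1,4,5,5,1], [1,2,2], [0,0,4,0,3], [0,2,0,2,5],
   [3,0,4,0], [3,0,4,6,0,6], [0,2,0,4,6,0], [1,6,1,1], [0,0,4,5,1], [4,5,1], [1,2,2,4],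
   [0,5,1,4,0,0], [4,0,0], [2,2,2], [0,6,0,4,1,2], [1,5,2,1], [1,3,4,6], [1,1,4,0,2,5],
   [1,4,0,5,5], [1,4,1,6], [0,4,5,0], [1,4,5,0,4], [2,0,3,4,6,0], [4,6], [0,0,6,6], [3,0,4,0,6],
   [1,2,4], [1,3,4,0,5], [0,4,1], [2,6,1], [3,6,0,4,5], [2,2,1,6], [1,1,4,6,0,6], [1,4,5,5],
   [1,1,4,0,6,0], [0,6,1,6], [0,0,4,0,3,0], [6,1,4], [1,3,5,5], [1,1,2,4,6], [0,6,0], [3,6,0,4],
   [5,5,0,4,1], [5,0,4,1,1], [3,5,0,0], [1,6,0,4,5], [1,6,1], [4,0,0,0,4], [3,4,1], [0,0,4,5],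
   [1,1,4,5,0,3], [4,5], [1,2,2,4,0], [1,6,1,1,4], [4,0,0,0], [1,1,6,6], [3,1,5], [0,6,1,1,4],
   [1,4,6,0,5], [1,5,2], [1,3,5,1,4], [1,3,4,1], [1,4,6,3,0,3], [1,4,6,0,2,2], [1,5,1,1,4],
   [1,4,1,6,0], [0,4,1,6], [6,1,1], [1,5,1,4], [1,4,5,3,0,5], [4,6,0], [1,6,3,1], [3,3,1,4,6],
   [1,1,4,5,1], [1,2,4,0], [0,6,3,0,4,1], [0,0,4,5,0,6], [1,4,0,6], [0,4], [1,1,4,5,0,6], [2,6],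
   [3,6,0,4,5,0], [4,0,2,5], [0,0,0,4,1,5], [1,4,1,1,6], [1,4,5,1], [0,2,0,4,1,1], [2,0,3,4,1],
   [2,1,2], [4,1,1], [1,2,4,1,5], [1,6,0,6], [5,1,3,1,4,1], [2,6,3], [1,1,2,4,6,0], [0,2,0,5],
   [1,4,5,3,1], [6,3,1,4], [5,0,5], [5,5,0,4], [6,1,1,4], [5,0,4,1], [3,3,1,6], [0,2,0], [6,2,1,4],
   [1,4,0,2,6], [1,6], [3,1,4,1], [6,3,0], [0,3,0,4,5], [3,4], [0,0,4,5,0], [2,0,4,5,2], [4,5,0],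
   [1,1,2,4,1,5], [1,2,4,6,0,3], [1,4,5,1,2,2], [0,2,5,1], [1,3,3,4], [4,1,1,5], [1,4,6,2],
   [0,6,0,3], [1,4,5,0,2], [0,6,6], [5,1,3,4,1], [0,6,0,3,4], [1,4,0,0,5], [5,1,4,0,6], [1,1,2,1],
   [1,3,5,1,4,0], [1,3,4], [1,4,0,0,6,2], [1,2,4,1,6,1], [0,3,4], [1,4,0,5,3,6], [1,2,4,6,1],
   [1,4,1,6,0,0], [3,1,1,1], [3,0,4,6,1,2], [6,1], [1,5,1,4,0], [0,0,4,5,3], [3,1,1,1,4,1],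
   [0,6,3], [1,2,4,0,3], [4,6,0,0], [1,6,3], [1,4,6,1,1], [1,1,4,5], [1,2,4,0,0], [3,0,5],
   [0,6,3,0,4], [1,1,4,5,2,1], [1,3,4,5,5,0], [1,4,0,6,0], [0,4,0], [1,1,2,4,1], [1,6,3,1,4],
   [2,0,5], [0,3,0,4], [1,4,5,1,2,5], [5,0,3,3], [3,0,4,6,1], [0,2,0,3], [1,4,1,1,6,0], [1,4,5],
   [0,2,0,4,1], [0,3], [1,2,1,4,0], [2,0,3,4], [2,2,1], [6,6,1,4], [1,1,4,1,6,1], [4,1],
   [1,2,4,1,5,0], [3,3,1], [3,1,3,4], [0,2,0,6,6], [0,6,1,1], [5,1,3,1,4], [2,6,3,0],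
   [1,2,4,5,0,2], [3,6,0,5], [1,2,4,5,3], [1,4,5,3], [6,3,1,4,0], [5,0,5,0], [3,1,1,4], [5,0],
   [1,2,1,3,4], [1,1,4,1,1,2], [6,1,1,4,0], [0,0,5,1], [5,0,4], [5,0,3,4,1], [3,6,6], [0,0,2],
   [1,3,4,6,6], [0,6,0,4,1,6], [1,6,0], [4,5,0,4], [3,1,4], [1,4,6,0,4], [5,2,0,6], [0,3,0,4,5,0],
   [3,4,0], [1,4,0,5], [1,4,0,5,2], [1,4,0,3,6], [5,2,0], [2,0,6], [1,4,0,3,0,5], [1,2,1,4,0,6],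
   [1,4,6,1,5,2], [3,0,6,1,4], [0,2,5], [1,2,4,0,5], [1,4,0,0], [0,2,5,0,4,1], [0,6,1,5],
   [1,4,6,2,0], [0,5,1,1], [1,3,1,4,1,6], [3,1,4,6,0], [0,6,1,4], [5,1,3,4], [6,3,0,4],
   [1,4,6,0,0,6], [2,0,5,3], [1,4,0,0,6], [5,1,4,5], [1,1,2], [0,0,4,5,2,1,5], [2,4], [1,3,4,0],
   [5,1,4,6,1], [0,0,0,4,0], [5,0,3], [1,2,4,1,6], [5,0,6], [1,4,0,3,3], [1,1,4,6,6],
   [1,4,0,6,0,4], [1,2,4,6], [1,2,1,2,4,1], [3,1,1], [0,0,2,0,4,1], [1,6,6,0], [0,0,4,1,1,2], [6],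
   [3,3,0,3], [1,3,1,4,6], [1,3,1,4,1,5], [1,4,0,5,3], [3,1,1,1,4], [0,6,3,0], [1,2,4,0,3,0],
   [1,4,6,3,1], [4,0,0,6], [1,1,6], [0,0,0,4,0,5], [1,1,4,6], [1,4,6,1], [1,1,4,5,0],
   [1,2,4,0,0,0], [3,0,5,0], [1,2,4,5], [0,2,0,6], [1,1,4,5,2], [1,4,0,6,3], [0,0,4,1,1],
   [1,4,0,6,0,0], [0,2,0,2], [1,1,2,4], [3,0,4,5,1], [1,6,3,1,4,0], [1,6,1,3], [0,3,0,4,0],
   [1,1,4,0,6,3], [1,5,1,5], [1,2,2,1,4], [3,0,4,6], [5,1,5], [0,5,5,0,4,1], [1,4,5,0],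
   [0,0,0,4,0,6,1], [1,1], [0,2,0,4], [0,3,0], [0,4,5,0,4,1], [3,6], [0,2,5,1,4,0], [5,0,3,3,4],
   [5,5,0], [5,5,1,4], [1,4,6,1,2,4], [2,2], [6,6,1,4,0], [1,1,4,1,6], [0,0,4,5,5,1], [4],
   [1,4,1,1,2], [1,2,4,0,0,6], [3,3], [3,1,3,4,0], [3,1,3,1], [1,1,4,0,6,1], [0,6,1],
   [0,0,4,1,5,2], [3,5], [1,3,3,3], [1,1,4,0,0], [2,0,2,2,4,1], [1,3,4,5,2,0], [1,1,5,3],
   [1,5,1,4,5], [1,4,5,1,5,2], [1,4,5,3,0], [1,4,1,6,0,5], [0,2,0,3,4,1], [0,0,6,1,2], [3,1,1,4,0],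
   [5,0,0], [2,0], [1,3,4,5], [1,1,4,1,2,1], [1,3,4,1,2], [0,0,5], [1,3,1,4], [4,5,1,4],
   [5,0,0,4,0,3], [0,4,1,2], [5,0,3,4], [1,2,5,2], [0,0,2,0], [2,6,3,0,4], [1,3,4,6,6,0],
   [3,1,4,0,6], [1,3,1], [0,2,0,2,4,5], [5,1,4], [3,1,4,0], [5,1], [1,6,1,4], [1,5,2,6],
   [1,3,4,0,6,6], [1,4,5,0,0,6], [4,0,2], [1,4,0,5,0], [1,4], [0,0,4,1,6], [3,1,4,0,3],
   [0,2,0,4,5,3], [5,0,2], [0,0,6,1], [5,1,3,1], [2,0,4,6,1], [0,0,4,1,5,3], [6,0,5],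
   [1,3,4,0,5,2], [3,3,1,3,4], [3,5,0,4,1], [0,2,5,0], [1,3,4,0,2], [1,2,4,6,1,2], [1,3,4,0,6],
   [1,5,1], [0,2,5,0,4], [5,5,1], [0,0,0,0,4], [1,4,6,0,2], [0,0,4,0,0], [0,5,1], [1,1,4],
   [1,4,0,0,4,1], [2,1], [0,5,1,4,5], [2,0,2,2], [5,1,3,4,0], [0,0,4,1,1,4], [1,4,1,1],
   [0,0,4,6,6,1], [0,0,5,5,0], [3,0,5,5], [1,6,0,4], [5,0,2,4,1], [1,1,4,1,1], [1,2,1],
   [1,3,3,4,1,6], [2,4,0], [1,4,0,2], [5,1,4,6], [0,0,0,4,0,0], [0,0,2,4,0], [1,1,5], [4,1,1,4,5],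
   [1,4,1,3,5,1], [2,1,5], [1,4,0,3,3,0], [1,1,4,1,2,1,4], [0,0,4,5,2,1], [0,0,4,1,6,3],
   [1,2,4,6,0], [0,6,0,4,1,5], [1,2,1,2,4], [3,1], [1,5,5], [0,0,2,0,4], [3,0,5,2], [3,1,4,5],
   [0,0,4,1,2,1], [6,0], [1,3,5,1], [2,6,1,4], [0,6,0,4,1], [1,2,4,6,0,4], [0,0,4,5,0,3],
   [1,2,6,1], [3,3,0,4], [3,0,4,1,3,1], [3,1,5,2], [0,0,4,1,6,2], [1,4,6,3], [0,0,5,1,4],
   [1,2,1,3], [1,2,1,4,1,1], [0,3,3], [0,2,0,4,5,1], [0,0,4,5,2,0], [1,1,4,6,0], [1,4,6], [3,0,6],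
   [5,0,0,4,1], [1,4,6,0,6,1], [0,3,0,5], [3,0,4,5,5], [1,4,0,6,2,0], [1,2,4,5,0], [2,4,6],
   [1,1,4,5,2,0], [1,4,0,6,3,0], [0,0,4,1], [1,1,2,4,1,6], [2,0,2,4,1,1], [2,0,3,6], [1,1,2,4,0],
   [3,0,4,5], [1,1,4,1,5,0,6], [5,1,6], [1,4,0,6,6], [0,2,0,2,4,1], [1,1,4,1,5,1,1], [0,0,4,0,6,1],
   [6,3,6], [1,2,2,1,4,0], [3,0,4,6,0], [0,3,0,4,6], [0,6,0,6], [3,0], [0,5,5,0,4], [1,4,5,0,0],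
   [0,0,0,4,0,6], [1], [1,3,4,1,3], [1,3,6], [2,0,4], [1,1,4,0,3], [0,3,0,0], [5,0,6,3],
   [0,4,5,0,4], [3,6,0], [1,4,1,3], [5,0,4,5,1], [1,4,5,1,3], [3,0,4,1], [1,4,6,1,3], [1,2,5,1],
   [0,0,4,6,2], [1,2,4,0,0,4], [2,2,0], [0,0,6,3], [1,1,2,2,4], [0,0,4,1,3], [1,3,5,0],
   [1,5,2,1,4,0], [2,0,5,2], [0,0,4,5,5], [4,0], [1,3,4,6,1], [5,1,1,4], [2,0,3,4,6], [3,3,0],
   [1,2,4,1], [3,1,4,0,2], [3,1,3], [1,1,4,0,6], [6,6], [1,1,2,4,6,1], [0,6], [2,6,1,3,4], [3,5,0],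
   [1,4,6,1,5], [4,1,2], [1,1,4,0,0,0], [1,2,6,0], [2,0,2,2,4], [1,1,2,4,1,3], [3,3,1,4,0],
   [0,3,0,6], [1,4,5,1,5], [1,6,1,3,4], [1,4,0,6,1], [0,5,1,4,0,0,2], [1,3,4,5,0,5], [0,2,0,3,4],
   [1,5,5,2], [1,4,5,0,4,6], [4,1,1,4,0], [0,5,1,5], [1,6,0,4,6], [0,2], [1,3,4,5,0], [1,1,4,1,2],
   [6,3], [1,4,6,1,6], [1,3,3,4,1], [1,4,6,2,1], [0,0,5,0], [1,3,1,4,0], [3,0,0,4], [1,2,4,6,0,5],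
   [0,3,4,1], [1,4,6,3,0,0], [1,1,4,1,5,0], [5,0,3,4,0], [0,6,3,1], [1,2,4,1,3], [4,0,6],
   [1,3,4,5,5], [1,1,2,4,1,1], [0,3,0,4,1], [2,0,3], [1,3], [1,2,1,4], [4,6,0,0,4], [1,3,3,4,1,3],
   [5,1,4,0], [5,2,0,2], [0,0,5,2], [1,1,4,0,2], [3,1,1,4,1], [5], [1,6,1,4,0], [5,0,0,6],
   [5,0,4,1,2], [4,5,0,4,1], [0,2,0,4,5,0], [1,4,0,5,2,1], [5,2], [3,3,0,3,4], [1,4,0],
   [0,0,4,1,6,0], [3,1,4,6], [1,4,0,0,5,5], [2,6,1,3], [0,0,6], [0,0,0,4], [5,1,3], [2,0,4,6],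
   [1,4,6,0,0], [1,6,6], [3,1,3,1,4], [3,3,1,3], [0,0,4,5,5,1,5], [1,3,6,0,4], [5,0,0,4,0],
   [3,5,0,4], [1,3,5,3], [0,0,4,1,1,1], [1,3,4,0,3,3], [1,2,2,1,4,1], [0,5,1,4,0,6], [1,5],
   [3,6,1], [0,2,5,1,4], [1,1,4,0,5], [5,5], [0,0,0,0,4,0], [0,0,5,5,0,4], [0,0,4,0,0,0],
   [0,0,2,0,4,1,5], [0,5], [1,1,4,0], [1,3,4,5,2], [1,2,4,0,5,5], [1,4,0,0,4], [2], [1,3,1,4,1],
   [0,5,1,4,5,0], [0,0,5,3], [5,1,4,0,2], [0,5,1,4,0,5], [5,1,1], [0,0,4,0,0,0,5], [1,4,1],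
   [0,0,4,6,6], [0,2,0,5,2], [1,3,6,6], [3,1,4,5,3], [1,4,6,1,4], [1,5,1,1], [5,0,2,4], [0,0,4,0],
   [1,1,4,1], [1,2], [0,0,0,4,0,0,4], [0,0,5,5], [0,0,4,1,5], [0,0,2,4], [5,1,4,6,0],
   [1,4,0,3,0,4], [0,0,2,4,0,0], [1,1,5,0], [2,0,2,4], [0,6,0,4,1,1], [1,4,1,3,5], [2,1,5,0],
   [0,0,4,5,0,4], [1,4,5,0,0,4], [0,0,4,5,2], [3,0,6,1], [1,3,4,0,3,6], [1,4,0,6,2], [1,4,0,3,5],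
   [1,4,0,3,6,3], [0,0,4,0,6,1,1], [0,3,0,4,6,1], [3], [0,2,0,4,1,5], [4,1,3], [1,1,4,1,3],
   [1,1,2,2], [6,0,0,4], [0,6,3,1,4], [0,0,4,1,2], [6,0,0], [1,3,5], [1,5,2,1,4], [1,6,0,5],
   [2,6,1,4,0], [0,6,0,4], [6,6,1], [1,2,6,1,4], [1,4,0,5,0,3], [1,2,6], [3,3,1,4], [3,0,4,6,0,3],
   [4,1,1,4], [3,0,4,1,3], [6,3,1], [1,4,5,0,6], [1,4,6,1,2], [1,4,6,3,0], [1,1,4,1,5],
   [0,0,5,1,4,0], [2,1,3], [1,2,1,4,1], [0,0,4,0,6,0], [0,3,3,0], [3,1,6], [1,4,5,0,3,4],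
   [0,2,0,4,5], [0,0,4,5,0,2], [0,0,0,4,1], [1,4,6,0], [1,1,2,6], [5,0,0,4], [1,4,6,0,6],
   [3,6,1,1], [1,1,4,0,5,1], [1,4,0,6,0,2], [1,3,4,5,2,1], [5,0,0,4,6], [1,4,5,1,2], [1,3,1,6],
   [1,1,4,5,0,2], [2,0,2,4,1,3], [1,6,2,0], [0,0,4], [0,0,4,1,5,1], [2,0,2,4,1], [0,0,2,2],
   [0,5,1,1,4], [1,1,2,4,0,0], [3,0,4,5,1,6], [3,0,4,5,0], [1,4,5,3,0,4], [2,6,2], [1,3,3],
   [0,5,1,4,0,2], [0,2,0,2,4], [1,3,3,3,4,0], [1,1,4,1,5,1], [0,0,4,0,6], [3,1,6,1], [5,0,4,1,5],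
   [2,0,4,5,3], [0,3,0,4,6,0], [1,6,2], [0,5,1,1,4,1], [1,2,1,4,0,5], [3,0,0], [1,3,3,3,4],
   [1,4,5,0,0,0], [0,0,4,1,3,3]]

def dodecadWords : List (List ℕ) :=
  [[], [4,1,5,0,2], [1,3,6,6,0,4], [0], [0,4,1,2,6,2], [0,4,0,5,5,2], [2,4,0,0,5], [3,4,1,2,1,2],
   [6,3,0], [0,2,4,0,3,0,5], [4,5,1,1,1], [3,1,4,0,6], [5,0,5], [0,0], [4,1,5,0,0,2], [4,0,2,5],
   [4,0,5,3,5], [6,0,5,2], [4,6,1,5], [4,6,6,3,1], [1,2,2,4], [2,2,4,6,1,1], [0,0,2,0,4,5],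
   [4,1,2,5,3,1], [2,1,5,3,1,4], [1,4,0,3], [4,5,1,6,6], [0,2,4,1,1,6], [2,4,1,3,6], [1,4,5,1,1],
   [4,0,0,6,0,6], [4,5,1,1], [4,1,5,3], [5,0,5,0], [0,4,1,5], [0,5,0,0,0], [1,1,2,4,5], [0,0,0],
   [3,3,0], [0,2,4,5,3,0], [0,5,5,3,1], [0,4,6,6,1,2], [0,4,5,5], [2,2,2,1], [0,0,2,4,5,3],
   [0,5,2,1], [3,4,5,3,0,3], [2,2,5,1,1], [0,0,0,0,4,6,0], [4,1,2,6], [4,6,6,3], [3,1,3,5],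
   [2,2,4,0], [0,2,2,5,1], [1,2,2,4,0], [4,1,1,5,1,4], [5,1,2,5], [2,2,4,6,1], [2,0,4,0,6,6],
   [4,0,3,5,0], [0,6,6,3,0], [4,1,2,5,3], [5,1,5,0,4], [0,3,4,5,1,2,2], [1,2,2,5], [0,4,5,1,3],
   [3,4,5,0,2], [5,2,0,4], [3,1,4,6,0,4], [1,6,0,2,4], [1,6,0,3,4,1], [0,0,0,5,0], [6,1,2,1],
   [0,0,4,6,0,2], [0,0,0,4,1,6], [1,4,5,5,0], [1,1,1,2,4], [1,4,5,1], [2,1,2,2,4,5], [0,6,3,0,6],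
   [0,4,1,3,1], [0,5,0,5,1], [2,2,6,1,5], [0,2,4,5,5], [4,5,1], [0,4,1,6,0,6], [1,6,0,4,6,0],
   [4,1,5,3,0], [0,2,4,5,2], [0,2,5,1,5], [0,4,1,5,0], [0,2,5,0], [2,1,5,0,6], [1,1,4,5,1],
   [5,0,4,5,3], [3,6,0,2,0], [3,5,1,4], [0,0,0,0], [3,4,5,0,5], [1,6,0], [3,4], [0,2,6,3],
   [0,2,4,5,1,1,1], [2,6,3,1,1], [2,4,5,2,1,6], [0,5,5,3], [1,1,1,4,5], [3,6,3,6], [0,4,5,5,0],
   [0,4,6,2], [2,2,2], [2,0,3,3], [4,5,1,5,5,2], [4,5,1,5,0], [0,2,4,0], [0,5,2], [2,4,1,1,5,5],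
   [2,2,5,1], [2,4,0,3,5], [1,2,1,6,6], [6,0,4,5,0], [3,1,6,1,2], [0,4,0,2,6], [0,0,0,4,5],
   [0,3,0,6,0,4], [4,6,0,6,2,6], [2,0,6,2], [3,4,1,5], [6,0,6,2], [2,4,5,1,2], [1,2,4,6,6],
   [2,4,1,6,1,3], [6,6,3,1], [2,4,0,5,3], [0,4,6,3,3], [0,6,3,3,0], [0,4,1,1,1,5], [0,3,3,5,0],
   [0,0,4,1,3], [0,4,5,1,4,0], [0,4,5,0,2,5], [0,2,2,5], [3,3,1,6], [4,1,1,1,5], [3,5,0,2,0],
   [3,4,1,6,2,2], [2,4,6,2,1], [3,3,0,5,2], [2,2,4,6], [2,5,0,0,0], [1,3,5,0,6,3], [2,4,5,0,2,2],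
   [2,4,5,5], [0,0,0,2,2,4], [1,4,0,5,5], [0,2,6,6,1], [5,0,4,6,1], [0,4,0,5,3], [0,4,0,3,6],
   [1,6,1,4,5,3], [5,5,1,6], [2,5,1,4], [3,0,0,4,0], [1,2,4,5,5], [4,5,1,4,6,6], [3,0,4,6,3],
   [1,2,2,5,0], [2,4,1,5], [0,0,2,6,0], [2,4,5,1,1,4], [3,4,6,6,1,3], [2,6,6,1,1], [3,1,6,1,4],
   [6,1,1,1], [1,6,0,2,4,0], [4,6,0,2,2], [1,6,0,3,4], [3,0,3,3], [4,6,6,1], [1,5,5,1,6],
   [4,5,0,3,6], [6,1,2], [0,3,0,4,5], [1,4,1,2,2], [1,3,4], [3,5,5,0,4,1], [2,1], [6,0,6,3,6],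
   [1,4,6,6,2], [1,1,1,2,4,0], [1,4,5], [4,6,0,5,1], [0,0,4,0,5,2], [2,5,2,1,4,5], [4,1,5,1,6],
   [4,1,5,0,4], [0,4,1,3], [0,0,4,5,0,5,5], [0,5,0,5], [6,1,3,1,5], [1,1,1,6,3], [0,0,2,5,0,4],
   [1,1,5,3,6], [3,6,0,0], [3,4,1,5,2], [4,6,1,3], [0,0,0,2,4,0], [4,5], [0,0,0,2,2],
   [0,4,0,5,2,5], [5,1,1,2], [0,5,0,4,6,1], [2,5,0,4,5], [5,5,3], [2,4,5,3,0], [4,1,5,3,0,0],
   [4,5,3,0,6], [0,3,3,1,6], [1,6,3,0,4], [1,6,1,6], [2,0,3,5], [4,1,5,3,6], [0,2,5,0,0],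
   [2,4,1,3,1], [3,1,3,4,5,0], [1,1,2,6,0], [4,0,5,3,0], [1,6,0,6,2], [1,1,4,5], [2,1,5,3],
   [4,5,1,2,2,5], [2,0,3,4,6], [3,5,1,4,0], [0,0,0,0,0], [2,1,4,1,1], [4,5,1,3,1], [2,0,5,1,6,1],
   [0,4,0,2,5,3], [1,3,6,6,0], [0,6,3,0,4,6], [1,6,0,0], [0,6,3,1], [3,4,0], [0,2,6,3,0],
   [2,4,6,3,1], [6,6,0], [0,2,4,5,1,1], [2,6,3,1], [4,5,1,1,6], [2,5,0,2,2], [2,6,0,3],
   [0,5,5,3,0], [2,4,5,0,2], [0,2,4,1,5], [5,1,2,6,0], [3,6,3,6,0], [1,2,2,2], [4,6,0,2,4],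
   [4,0,2,2], [0,5,0,3], [0,3,0,4], [2,2,2,0], [2,0,3,3,0], [4,5,1,3,4], [6,0,6,1], [0,0,4,5,3,1],
   [0,3,0,5,0,4], [3,1,5,1,4], [0,2,4,0,0], [1,1,2,1,2,6], [3,0,4,6], [0,0,6], [0,3,5,1,1],
   [4,5,1,6,2], [4,6,6,2], [2,2,5], [1,5,0,2,4], [6,0,3,3], [3,0,5,0,4], [0,0,0,6,0],
   [2,5,1,4,0,3], [6,1,4,0], [3,4,1,6,3], [0,5,1,1,2], [0,0,2,5,2], [1,1,4,6,1,3], [3,0,6,2,0],
   [2,4,0,6,2], [4,1,1,6,2], [1,6,1,1], [2,4,5,0,6], [4,1,6,0,4], [4,1,3,5,3], [0,2,2,4,1],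
   [6,0,4,5,2], [1,5,2,0,2], [2,0,3,4], [4,1,1,1,4], [0,6,2,1,4], [3,4,1,5,0], [5,1,3,5],
   [2,1,4,5,2,0,6], [3,3,0,6,2], [0,3,3,4], [3,3,5,0], [2,4,5,2,1], [0,0,4,6,6,2], [1,2,4,6,6,0],
   [4,1,1,5,2], [3,3,0,3,6], [0,0,4,6], [4,1,6,0,0], [4,1,6,1], [6,6,3], [2,5,2,1], [3,0,4,0],
   [0,0,5,0,4], [0,4,0,2,6,2], [4,1,3,1], [2,6,0,5,0], [2,4,1,6,3], [0,5,2,6,1], [4,6,0,3,5],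
   [0,6,1,1], [2,4,5,0,3,5], [2,4,1,5,5,2], [0,2,5,2,0,2], [2,5,0,2], [6,0,2,4,0], [0,0,4,0,3],
   [1,1,5,0,4], [1,1,2,4,6,3], [5,1,2,4], [0,4,5,1,1], [2,4,1,1,6,1], [1,5,5,1,2], [4,6],
   [0,2,2,5,0], [3,0,3,4,6,0], [0,3,0,0,6], [4,0,2,2,5], [6,0,2,6], [2,2,1,4,5], [0,4,0,5],
   [5,1,1,6], [4,6,6,3,1,6], [2,4,6,2], [2,0,5,1], [1,5,0,3,4], [5,0,6,2,2], [2,2,4,6,0],
   [6,1,5,1], [4,5,1,5,5,3], [0,2,5,5,1], [2,5,0,3,4], [1,6,0,5,5], [0,3,3,4,5,0], [4,0,3,0],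
   [4,1,5,0,3,6], [2,1,5,1], [2,1,4,0,2], [6,2,2], [3,4,5,5], [4,1,3,6,0,2], [0,5,2,1,6,3],
   [0,4,0,6,3,6], [0,2,6,6], [5,0,4,6], [1,2,5,1,1], [0,4,0,2,5], [0,2,2,1,4], [4,5,1,4,5],
   [5,5,1,2,4,6], [3,5], [0,6,2,1,6], [2,4,0,3,3], [2,1,5,1,4,5], [0,4,5,2,1,4], [0,2,2,2,4],
   [5,5,1,6,0], [5,1], [2,5,1,4,0], [0,3,4,5,1], [0,0,0,4,1,3], [0,3,4,6,6], [3,6,3,1],
   [0,0,2,4,6,3], [5,0,6,6,2], [2,6,1,6,2], [3,0,4,6,3,0], [2,6,1,4], [0,4,1,1,1], [2,4,1,5,0],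
   [5,5,1,2], [5,5,1,5], [2,6,1,6], [2,4,0,6,3,6], [2,4,6,6,0,3], [4,0,6,2,2], [2,2,2,1,4],
   [2,6,6,1], [2,2,1,5,3], [3,1,6,1,4,0], [6,1,1], [2,5,0,2,4,0], [0,6,0], [1,6,2,0,4,1],
   [4,0,3,6,6], [4,1,1,2,2], [2,5,0,3,0], [1,1,6,1,1], [0,0,0,4,1,5], [1,3,5,5,1], [4,6,6],
   [0,4,1,6,1], [2,1,5,1,2], [1,2,6,0,0], [4,1,3,6,1], [6,2,1], [0,4,1,2,2,6], [2,1,4,6,6],
   [6,1,3,5], [0,2,4,1,3], [6,0,2,6,6], [4,0,5,0,2], [0,3,5,1,4], [4,0,3,6,0], [1,3,4,0],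
   [3,5,5,0,4], [2,1,3,5], [5,0,2,5], [2], [5,3,0,0], [0,3,6,0,6], [2,4], [0,2,5,2,0,5],
   [0,0,4,6,2,6], [6,0,5,3], [1,4,5,0], [4,6,0,5], [0,2,4,6,3], [0,5,3,1,6], [0,0,4,6,1,5,2],
   [0,4,5,1,1,5], [0,4,5,5,3], [1,6,2,0,6], [4,1,1,2], [1,3,1,5,2], [3,4,6,2], [3,5,2,1],
   [0,3,0,0,4,0], [0,4,0,3], [0,3,4,5,2,6], [1,6,3,0], [4,0,3,3], [0,5,0,5,0], [5,2,6,1,2],
   [0,2,6,0,5], [0,3,5,2], [3,1,4], [5,0,5,3,1], [0,0,2,4,5,1,4], [0,0,2,0,4], [4,5,1,2,5],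
   [0,0,4,5,0], [3,4,6,1,4], [0,6,3,0,4], [2,2,4,5,1], [6,6,0,2], [4,6,0,3], [0,5,3,0,3,4],
   [4,0,5,0,2,4], [4,6,1,6,0,5], [4,5,0], [0,3,6,3,6], [1,1,2,1,2], [2,4,5,2,1,4], [6,2,1,4],
   [4,6,2,6,1], [0,3,5,0,4], [5,1,2,1], [0,5,0,4,6], [1,5,2,0], [4,0,5,5], [5,3,0,4],
   [0,3,4,5,1,3], [0,2,0,2], [0,4,0,5,5], [0,4,5,0,5,5], [6,1,2,6,0], [1,6,1,5,1], [0,4,0,3,5,3],
   [0,0,4,6,1,3], [2,0,3,5,3], [5,1,1,1,4], [0,0,0,0,2], [2,5,1,4,6], [0,0,5,3,1], [0,2,6,1,6],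
   [4,6,0,2], [5,5,0,6], [2,4,0,5,1], [0,4,5,0], [0,0,6,2,2,1], [2,4,1,3], [0,6,6,0],
   [0,4,1,6,2,2], [6,0,6,0,4], [0,4,1,1,5,1], [4,0,5], [1,4,0,6,3], [2,2,6,0,3], [5,1,5],
   [0,4,0,2,2], [6,3,1,6], [1,1,4,5,0], [1,4,0,5], [2,1,5,3,0], [4,1,1,5,5], [2,4,5,1,5,1],
   [4,5,0,0,4], [2,0,2,2,4], [0,4,0,6,3], [1,2,1,2], [4,6,2,0,5], [1,6,3,1,5,1], [0,4,5,2,1],
   [1,2,1,6], [2,1,4,1], [3,4,1,2,6,2], [5,0,3], [4,1,1,5], [4,0,0,6], [4,5,1,3], [0,3,4,0],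
   [2,0,5,1,6], [1,6,0,4,6,6], [2,1,6], [0,4,5,3], [3,1,5,2,1], [1,5,1,1], [4,5,1,3,3,5],
   [6,6,1,6], [0,4,0,3,3], [3,3,4,5,0], [0,6,3], [4,0,2], [1,5,5,0,6], [0,3,3,1,1], [1,4,5,3],
   [6,0,2,4,6], [2,4,6,3], [0,2,2,2], [1,2,6,3], [5,0,3,3,0], [0,2,4,5,1], [1,5,5,1,3],
   [0,4,1,1,5,3], [2,6,3], [2,0,5,3], [2,4,5,3,1,6], [1,2,4,6,3], [1,5,1,3], [3,4,5,1], [5,1,4,5],
   [0,5,0,4,5,0], [3,5,0,6,6], [6,0,5,1,4], [5,5,0,5,0], [3,4,0,6,6], [0,2,5,0,6,1], [1,4,0],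
   [2,4,1,6], [6,6,2,0,2], [6,0,4,6,0], [0,0,2,2,2], [6,1,4,0,3], [1,2,5,0,2], [2,2,2,4,1],
   [0,2,0,3,5], [0,4,6,0,2], [1,6,6,0], [1,1,6,1,4], [2,5,0,5], [0,2,6,0,3], [0,3,0,4,0],
   [2,2,0,2], [2,4,5,0,5], [0,5,0,0,6], [0,0,4,0,5], [5,2,0], [0,2,2,4,1,6], [6,0,6], [0,0,4,5,3],
   [2,2,0,5,5], [0,4,5,3,1,3], [2,0,4,5,0,4], [6,0,3,6], [3,4,1,2,5], [3,0,3,6,1], [4,6,1,6,0],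
   [3,0,4,6,0], [2,1,2,6], [0,0,6,0], [0,3,5,1], [1,2,1,3,5], [4,5,1,6,2,0], [1,3,5,0,4],
   [1,6,1,2,4], [5,0,5,3,1,4], [2,2,5,0], [1,3,4,6], [3,4,6,1,1], [0,2,0,5,3], [3,0,5,3],
   [0,2,0,5,5], [1,1], [4,1,5,5,2], [1,1,4,1,3], [4,6,0,5,3], [4,5,1,3,3], [0,4,6,3,0,6],
   [1,1,4,6,2], [0,3,0,0], [0,0,4,1,2,5], [2,1,3,6], [0,0,2,4,5,2], [3,1,6,2], [2,2,4,1],
   [1,1,5,0,2], [0,3,4,1,3], [1,1,4,6,0,3], [3,4,5,2], [0,0,0,5,1], [2,4,0,6,2,0], [0,0,5,5,3],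
   [0,3,5,0,3], [0,0,2,4,6,6], [0,2,4,5,1,2], [2,4,5,1,3], [1,5,5,0,4,6], [1,6,1], [0,5,3,1,4],
   [6,1,6], [3,4,0,6], [0,2,2,4,6,1], [1,1,4,0,5,0], [1,3,4,1,3], [0,4,1,5,3], [1,2,5,5],
   [3,4,0,3,6], [0,5,0,4], [0,2,2,4], [2,5,0], [2,1,3,4,1], [0,4,5,1,6], [2,2,1,6], [4,5,0,0,6,1],
   [1,3,5,0,3], [4,6,2,0,2], [0,3,3,3,0], [2,6,0,4], [1,2,1], [3,4,1,5,0,0], [4,5,3,6,0],
   [3,1,6,3], [1,5,5,2,5], [3,0,4,1,3], [0,3,6,0], [4,5,1,2,2,2], [4,0,2,6], [1,1,1,2,6],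
   [1,1,2,6,1], [0,3,3,4,0], [2,4,5,1,6], [1,1,5,1,4], [0,0,4,5,3,6], [2,5,2,0,2], [2,4,5,2],
   [5,5,2,5], [1,2,2,1,2], [0,0,0,4,1,2], [2,0,2,5,3], [3,0,4,0,6,0], [0,2,2,4,0,5], [2,1,5,0,0],
   [4,6,6,1,2], [0,0,0,0,5], [0,2,2,5,1,4], [1,1,5,2,1], [0,0,4,6,0], [2,4,0,6], [1,3,5,0,2],
   [0,3,4,1,2], [3,3,5,1], [0,3,4,6,0,6], [4,1,6], [0,6,1,6], [3,0,4,1], [0,0,6,0,2], [0,3,0,3,4],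
   [2,5,2], [0,4,1,6,6], [5,1,2,2,2], [3,4,0,3], [1,1,2,4,6], [0,0,2,2,5], [1,5,0,4,1,2],
   [0,4,6,1,5,0], [4,1,3], [1,5,5,1,4], [0,3,5,5], [1,3,6,3], [3,3,1,5,3], [1,1,4,1,6],
   [3,0,5,3,6], [2,1,4,6,2], [0,5,2,6], [1,4,0,5,0,4], [3,5,0,5,5], [0,6,1], [0,0,0,4,0],
   [1,6,2,1,5], [4,1,5,5,1,5], [5,5,1,4,5], [1,6,0,3,3], [4,0,5,2], [1,4,0,3,6,1], [1,4,6,6,0],
   [0,6,0,5,2], [4,1,1,1,2], [3,4,6,1,2], [4,6,3,0,3], [5,0,6,6], [0,3,5,1,2], [1,1,4,5,1,4],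
   [2,5,0,0,4,1], [0,4,0,5,0,6], [0,2,6,2,6], [3,4,6,1,6], [1,6,0,0,4], [6,1,3,6], [0,3,0,6,0],
   [2,2,2,4,0,5], [1,2,4,5,2], [0,4,5,1], [2,4,1,1,6], [1,2,5,0], [0,0,5,3,6], [5,3,0,3], [4,6,0],
   [5,0,0,6,3], [1,6,2,0,4,5], [5,1,3,1], [1,5,2,0,4], [4,1,1,4], [0,3,0,4,1,6], [5,2,1,5],
   [1,5,5,0,4,5], [5,0,3,3,1], [0,4,0,5,0], [6,6,1,5,1], [5,1,1,6,0], [0,2,4,5,0,5], [5,5,0,5,1],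
   [2,4,1,6,1,1], [1,2,5,2], [2,4,6,2,0], [2,0,5], [0,2,4,5,1,6], [2,4,6,0,3], [3,1,5,1,5,2],
   [0,2,5,0,0,6], [3,3,3,4,1], [1,1,1,4,6], [6,1,5], [0,0,4,0,6,3], [4,5,1,5,5,1], [1,2,5,0,4],
   [0,2,5,5], [3,3,5,0,5], [4,0,5,0,6], [5,3,0,5], [0,4,6,6,1], [2,0,6,6,2], [0,5,0,4,1,1],
   [4,5,2,6], [1,1,2,1], [3,0,6,1,5], [4,0,3,0,0], [0,4,0,5,1,5], [3,5,0,0,0], [2,4,1,5,3],
   [2,1,5], [4,1,6,6], [0,2,0,4], [0,4,1,2,2], [0,4,6,0,3], [0,0,6,2], [0,0,0,4,6,1], [4,0,0],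
   [5,1,4,6,3], [0,3,4,1,6,3], [1,1,2,6,6], [3,5,0,4,5], [1,4,6,6,1], [3,5,5], [2,5,2,1,4],
   [0,2,6,6,0], [0,3,0,6,1], [5,0,4,6,0], [1,2,5,1], [0,2,4,6,0], [0,2,4,6,6], [0,0,6,3,0],
   [1,2,5,1,2], [0,5,1,6,3,6], [4,6,0,6], [0,0,4,0,6,6], [0,4,1,2,6,1], [0,3,6,3], [3,5,0],
   [0,4,1,3,6], [0,6,1,4,6], [5,0,3,3,4], [1,6,6,3,1], [0,0,2,2,4], [0,2,5,0,3], [2,0,5,5,1,4],
   [2,5,5], [0,0,4,1,5,0], [6,1,1,1,5], [2,2,0,3], [0,2,2,2,4,0], [5,0,5,1,4], [6,1,3,4,1],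
   [4,1,1,2,5], [5], [2,5,1,4,0,0], [2,0,5,5,1], [4,6,0,5,2], [2,2,0,2,6], [0,5,0,5,0,4],
   [0,3,4,5], [0,0,2,5,5], [0,4,0,3,3,5], [5,0,0], [0,0,0,4,0,3], [1,6,6,0,4], [1,3,5,0,4,5],
   [3,6,3], [2,0,5,5,0], [0,2,2,4,5,1], [6,2,1,3,4], [0,5,2,1,6,2], [3,4,5,3,0], [3,4,1,6,1],
   [1,3,1,4], [0,3,3,5,5], [0,4,1,1], [2,0,5,3,5], [0,4,5,1,3,5], [0,6,0,4], [5,5,1,2,5],
   [1,1,1,6,1], [0,5,0,4,1,3], [3,0,5,1,6], [3,4,1,2], [4,6,6,0,6], [1,1,6,1,2], [0,4,5,0,0,6],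
   [0,0,2,5,0], [6,3,1,4], [3,0,4,6,1,6], [4,1,5,2,5], [0,4,0,6], [0,4,5,2,6], [2,0,4,5,2,1],
   [1,1,4,5,3], [2,6,6], [6,3,6,1], [0,0,4,5,2,1], [0,0,2,0,5], [0,3,4,5,1,3,3], [0,4,1,1,2],
   [6,1], [4,1,3,3,5], [3,3,3,1], [2,5,2,0,4,1], [0,5,1,1,4], [0,6,0,0], [1,6,2,0,4], [6,2,1,3,5],
   [4,0,5,0,3], [4,5,1,2,2], [1,5,2,6,1,4], [1,6,0,5,2], [6,1,5,3], [1,1,6,1], [3,5,2,1,4],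
   [3,1,5], [1,3,5,5], [0,0,6,0,4,1], [0,5,5,1,1], [4,6,6,0], [0,3,5,3,6], [0,0,2,2,2,4],
   [0,2,0,5], [0,4,1,6], [2,1,5,2,1], [6,6,0,4], [2,1,4,5,2,1], [0,5,5,0,6], [4,1,3,6],
   [4,0,6,2,1], [6,2], [1,3,1,4,5], [6,0,5], [0,4,6,6,1,5], [3,6,6,1], [0,2,4,0,3], [0,4,6,0,4],
   [3,4,1,6,0], [1,3,4,1,2], [1,1,4], [0,4,0,0,2,5], [5,1,4,6,6], [2,0,6], [6,1,3,4,6],
   [2,1,2,2,5], [0,4], [1,4,0,2], [0,3,4,6,1,1], [1,2,1,5], [3,0,5], [4,5,2,1], [5,0,6], [5,1,2,2],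
   [2,0], [0,0,4,6,1,4,5], [4,6,3,3], [5,3,0,0,0], [5,5,2,0], [2,2,0,4], [0,3,6,6,1], [2,4,0],
   [1,3,6,0,5], [0,5,0,4,6,2], [3,1,5,3], [6,0,2,5,5], [3,1,1,1], [1,1,1,4], [2,4,5,2,1,3],
   [1,1,1,6,0], [1,4,1,5,3], [3,1,4,6,2], [0,2,4,6,3,0], [3,3,1,1], [2,4,5,1,5,2], [3,4,1,6,1,4],
   [4,0,3,5,5], [6,1,1,1,2], [3,0,5,0,3], [0,3,4,1,2,6], [0,2,5,1,1], [0,4,0,2,2,5], [3,0,3,4],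
   [6,0,3,6,6], [3,3,4], [6,0,6,3], [2,5,5,0,5], [3,4,6,2,0], [4,1,3,6,1,5], [1,1,6,2],
   [1,6,1,2,4,5], [3,5,2], [4,5,1,3,5], [0,0,5,1], [0,3,3,4,0,3], [5,0,4], [3,1,3,4], [3,1,5,1,5],
   [4,6,3,0,6], [5,0,2,4,5], [1,6,3,0,0], [2,0,2], [4,0,3,3,0], [1,3,6,0,6], [0,3,4,0,6],
   [0,0,6,3,6], [2,1,2,6,2], [5,3,0,3,6], [5,0,3,4,1], [1,2,1,5,3], [0,3,5,2,0], [0,4,5,1,3,3],
   [3,1,4,0], [1,2,5,3,1], [4,1,5,0,6], [5,0,5,3], [3,3,4,1,5], [0,0,4,1,5,2], [0,4,6], [3,3,5,5],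
   [2,4,1,5,5], [1,4,5,0,6,1], [3,0,4,5], [3,0,6], [4,1,6,2,0], [2,5,3,0,6], [5,1,4,5,3],
   [3,1,4,1,3], [4,1,3,5,1], [2,2,4,5], [1,2,4,6], [2,4,5,0], [1,4,6], [2,4,1,1,1], [1,6,0,2,6],
   [0,0,5,5,1,4], [6,3,6,0], [0,0,4,5,1,1], [5,2,0,6], [3,4,1,2,1,6], [4,5,0,0], [1,6,3,3,1],
   [0,5,5,3,5], [5,0,5,0,2], [3,6,0,6], [4,6,0,5,5], [0,4,1,2], [2,6,1], [1,6,0,4,1,3],
   [0,2,5,2,6], [4,6,2,6], [6,0], [0,2,0,6,3], [0,3,4,5,1,4], [5,1,2], [6,1,2,2,4], [4,0,3,0,3,5],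
   [1,5,0,2], [4,0,5,5,0], [4,6,1,6,6], [3,4,6,0,6], [2,5,1,1], [0,0,6,3,0,4], [0,6,2,2],
   [0,0,2,2,1], [2,4,6,6,1], [1,4,0,0,5], [4,5,1,6,1], [2,0,4,5], [0,2,4,5,1,3], [0,4,6,0,6,1],
   [5,2,5,1], [3,0,4,5,5], [5,1,2,1,3], [4,6,3,6,0], [1,5,1,2,5], [1,6,1,5], [5,0,3,4,5],
   [3,4,5,1,6], [1,5,2,6], [0,3,4,1,5], [2,6,1,1,4], [1,1,6,1,5], [3,1,6], [2,5,0,4,1,3],
   [1,2,2,1,3], [4,0,5,0,5], [0,4,6,0,5], [2,5,3,1,4], [0,0,5,3], [2,1,2,4], [2,5,1,3,6],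
   [4,6,0,2,0], [0,5,5,0,5], [1,2,5,1,3], [2,4,0,5], [0,4,5,0,0], [2,6,2], [0,0,6,2,2],
   [1,6,2,1,3], [2,4,0,3], [0,6,6,0,0], [1,3,5,0,0], [4,5,1,3,5,2], [4,1,3,5,2,1], [1,2,6,6,1],
   [0,4,1,1,5], [0,2,5,2], [2,0,3,6], [4,0,5,0], [3,1,6,0,5], [2,4,5,1,1], [2,1,6,0,5],
   [6,0,5,3,6], [4,5,3,1,3], [5,1,5,0], [3,3,0,4], [0,5,0,6,0], [1,2,5,1,5], [0,0,4,6,1,4],
   [1,1,1,2,4,6], [0,5,5], [2,4,1,6,6], [1,4,0,5,0], [0,6,1,2,1], [0,3,5,3,1], [4,1,1,5,5,0],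
   [0,6,2], [4,0,5,1,6], [6,2,1,5,3], [2,4,5,1,5], [5,1,4,6], [0,4,6,0,5,5], [1,3,4,1,6],
   [0,4,6,3], [1,2,2,1], [1,5,1,4], [0,0,4,6,0,5], [1,6,3,1,5], [0,4,5,2], [0,2,2,5,0,2],
   [0,3,0,4,6], [0,5,3,0,3], [5,3,5], [3,1,4,5], [2,1,4], [1,3,5,0,5], [2,1,4,5,2,0], [0,5,1],
   [2,4,5,0,6,3], [0,3,0,5], [1,6,1,4,6], [5,0,3,0], [2,2,0,5], [4,1,1,5,0], [4,6,0,2,5],
   [4,0,6,2,0], [1,3,4,6,2], [4,0,0,6,0], [4,5,3], [4,5,0,3], [6,0,2], [0,4,0,2], [1,1,5,3,1],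
   [0,4,0,5,2], [5,1,1,6,1,4], [1,6,3,0,5], [2,1,6,0], [0,4,5,3,0], [3,5,3,6], [1,1,4,6],
   [3,1,5,2], [1,5,1], [4,0,0,6,6], [3,6,6,0], [2,4,5,1,5,3], [1,2,5,0,6], [0,2,4,0,5],
   [2,2,5,0,4], [1,3,6,1], [0,3,3,1,4], [0,6,3,0], [0,5,5,0,3], [4,0,2,0], [6,6,0,5], [4,6,0,6,3],
   [0,3,4,5,3], [0,3,3,1], [3,1,3,1], [1,3,3,4], [2,2,1,3,3], [4,1,2,2,5,1], [0,4,0,6,6],
   [2,4,5,3,6], [2,4,6,1], [5,5,1], [5,1,6,2], [0,3,4,5,5,1], [0,2,0,6], [1,5,0,4], [6,0,5,2,5],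
   [0,2,4,5], [0,5,3,1], [4,1,1], [0,6,1,3,1], [1,2,1,5,5,2], [4,6,0,6,2], [1,5,3,1], [1,5,5,0,5],
   [4,1,1,6,3], [6,1,3,1], [1,2,6,0,3], [1,5,0,4,1,5], [1,5,0,3], [3,4,5], [2,1,2], [5,1,4,5,0],
   [3,0,6,1,4], [0,0,4,6,3,3], [2,1,5,1,5], [0,4,0,0], [0,0,5,5,1], [1,3,3,1,4], [2,4,5,0,0,2],
   [5,0,0,2,6], [2,4,0,6,6], [0,3,4,6], [0,2,5,0,6], [3,1,6,6,1], [1,4,0,0], [2,4,1,6,0],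
   [6,0,2,5,3], [4,6,0,4,6,1], [2,0,4,1], [0,0,2,6,6], [3,0,5,0,0], [0,4,1,5,5,1], [3,6,1,2],
   [1,6,1,4], [2,2,2,4], [1,6,2,0,5], [0,5,5,0,2], [1,6,0,4,1], [3,3,0,6,0], [5,2,1,2], [4,0,0,4],
   [1,6,6,0,0], [0,0,2,4,6], [1,3,6,1,5], [1,6,0,6], [6,3,1,5], [0,2,0], [0,0,0,4,0,2],
   [0,3,0,4,5,3], [2,0,2,2,1], [1,1,4,5,2,1], [1,3,1,1], [4,1,3,3], [0,6,0,6,1], [0,0,4,0,5,0],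
   [3,1,4,6,6], [5,0,2], [1,6,0,0,4,5], [4,5,3,0,4], [5,0,0,6,0], [6,0,6,0], [0,2,4,0,6], [5,2,6],
   [5,0,4,5,0], [0,4,5,0,0,4], [4,1,5,0,5], [3,5,0,6,2], [2,0,5,1,4], [5,5,1,2,6], [3,1,4,6,0],
   [0,3,6,6,0], [3,4,1,2,5,0], [4,5,3,5], [3,0,3,6], [4,0,2,5,3], [1,1,5,1], [3,0,4,6,0,0],
   [2,1,2,6,0], [0,0,6,0,0], [6,1,2,4], [0,3,5], [1,1,2,6,2,0], [0,5,1,2,2], [3,0,3,0,6],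
   [4,5,1,5,0,6], [4,5,5,2], [5,1,6,1], [1,3,6,1,4], [3,1], [0,0,0,4,0,5], [0,5,1,3,6], [1,6,1,2],
   [3,4,6,1], [1,5,1,2,4], [1,2,1,3], [1,2,6,2,1], [0,0,5,1,4], [3,3,5,1,5], [1,1,2,4,0], [1],
   [4,1,5,2,0], [4,5,1,5,3], [4,5,1,4,6], [1,1,4,0,3], [4,6,1,3,4], [6,3], [4,1,5,3,5,0],
   [4,1,1,5,0,6], [5,0,5,1], [1,1,2,2,4], [6,0,5,2,1], [3,1,4,5,0,6], [3,5,1,6], [5,1,6,1,4],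
   [2,4,5,0,4,5], [3,1,4,6,0,2], [4,6,0,0,5], [0,0,4,6,2], [2,2,5,5], [0,3,4,5,0,2], [0,4,1,5,1],
   [0,5,0,0], [0,4,1,6,3], [3,3], [0,2,4,5,3], [2,1,3,6,0], [2,2,1,2], [1,1,4,6,0,6], [0,5,1,2],
   [0,0,0,0,4,6], [3,1,3,5,1], [2,2,4], [1,6,0,3,6], [2,1,5,1,1,4], [5,1,2,5,1], [4,0,3,5],
   [0,6,6,3], [0,4,0,3,5], [0,4,5,1,3,1], [3,4,5,2,0], [1,2,2,6,0], [1,1,4,5,0,5], [0,0,0,5],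
   [6,1,1,2], [0,0,4,0,5,3], [1,4,5,5], [1,1,1,2,4,1], [2,5,1,6], [2,1,4,6], [0,3,0,5,2],
   [6,2,1,5,0], [4,1,2,6,2], [3,0,4,0,5,2], [1,6,0,4,6], [0,2,4,5,2,1], [0,2,5], [1,1,4,5,1,1],
   [3,6,0,2], [2,4,5,0,3], [2,4,0,6,2,6], [1,6], [3,4,1], [0,2,5,0,2,4], [3,5,0,6], [6,1,6,0],
   [3,4,0,2], [0,2,6,0], [4,5,1,5], [0,2,4], [0,2,2,4,6], [0,0,0,0,6,6], [6,0,4,5], [1,5,0,3,5],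
   [0,4,0,2,0,5], [0,0,0,4,5,1], [2,1,4,5,1,5], [1,3,4,0,3], [3,0,5,0,2], [4,1,1,5,1,2],
   [5,3,0,3,4], [0,4,1,5,3,0], [4,6,3,0], [0,6,3,3], [3,3,0,4,6,6], [0,3,3,5], [0,4,5,1,4],
   [3,4,0,6,3,3], [0,2,2,4,0], [3,5,0,2], [2,4,1,3,3], [2,5,0,0], [4,1,5,5,3,0], [2,1,3,4],
   [1,5,0,3,6], [3,3,0,4,5], [4,1,6,2,6], [0,0,5,0], [2,4,5,0,4], [3,0,0,4], [1,5,0,2,2],
   [4,5,0,0,6], [0,0,2,6], [4,5,1,4,0], [0,2,5,1,6], [0,2,4,1,1,4], [2,2,1,4], [4,5,1,6,3],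
   [3,1,4,0,2], [1,5,0,3,3], [1,3,4,1], [1,2], [0,6,3,6,1,4], [3,3,3,4,1,5], [0,4,0,2,0,6],
   [4,1,3,1,5,3], [0,3,6,0,0,4], [0,0,6,3,3], [5,2,1,3,5], [3,3,0,4,6,0], [3,6,0], [3,0,4,0,3],
   [0,0,0,2,4], [0,3,6,0,0], [5,0,3,4,0,3], [5,1,1,2,1], [0,2,2], [2,4,5,3], [5,1,5,2,0],
   [4,0,2,6,0], [2,0,3,5,1], [4,6,1,3,3], [3,1,3,4,5], [1,1,2,6], [4,0,5,3], [2,1,5,3,1],
   [0,4,6,0,2,2], [2,4,5,1,6,0], [1,3,6,6,0,2], [1,3,6,6], [2,4,0,5,5], [1,5,5,3], [2,4,6,0,5,5],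
   [6,6], [6,1,6,3,3], [2,6,1,3], [2,4,5,2,0], [5,1,2,6], [1,2,2,2,1], [0,5,1,3], [0,3,0,4,1],
   [5,0,3,4,0], [1,1,1,5,3], [0,0,0,4,5,2], [3,3,1,5,2], [3,0,4,6,1], [2,6,0,6,3], [4,6,6,2,1],
   [2,0,6,3,0], [0,0,0,6], [6,1,4], [4,1,3,1,6], [1,1,5,2], [0,0,4,6,0,0], [3,0,6,2],
   [3,4,5,5,1,6], [5,2,0,2], [2,4,0,6,0], [0,2,2,4,1,1], [0,0,5,5,2], [4,6,2,2], [6,0,2,2],
   [2,4,5,1,2,6], [5,0,6,2,0], [0,3,3,4,1], [3,3,5], [0,0,4,5,5,3], [0,0,5,3,1,3], [0,0,4,6,1],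
   [4,1,6,0], [3,3,0,3,4], [2,5,1,2], [3,0,4], [1,3,1,6], [2,6,0,5], [0,4,0,6,1,5], [2,2,4,0,5],
   [1,5,5,0], [5,0,4,5,5], [2,5,2,0], [6,0,2,4], [2,1,4,0,6], [5,1,6,3], [0,3,4,5,1,5], [5,3,6,0],
   [4,6,1], [3,0,3,4,6], [0,0,5,2], [0,4,0,5,1], [5,1,1,6,1], [2,0,5,1,1], [1,5,0,3,4,1],
   [0,4,6,6,1,4], [1,5,0,0], [2,5,0,3,4,1], [0,3,3,4,5], [4,0,3], [2,1,5,1,1], [6,2,2,1],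
   [3,4,5,5,1], [3,0,4,0,5], [2,1,6,3,3], [0,4,5,0,5], [0,3,5,5,0], [0,2,4,1,5,2], [3,5,1],
   [6,0,2,2,6], [0,5,3,0,4], [5,5,1,4,0], [5,1,1], [3,1,4,6,3], [0,2,5,1,4,5], [1,4,0,5,3],
   [1,2,1,5,2], [0,2,4,1,1,2], [0,5,2,6,0], [5,0,3,5], [4,1,3,5,0], [4,6,1,3,5], [0,0,2,0,5,2],
   [2,5,0,2,4], [0,6], [5,2,5,1,4], [2,5,0,3], [5,0,0,4,6], [0,4,1,6,1,1], [1,2,6,0], [4,1,2,5,2],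
   [6,1,3,5,1], [0,2,4,1,3,1], [0,0,4,5,5], [0,0,5,3,1,6], [4,0,3,6], [1,4,0,3,6], [1,1,5,1,3],
   [5,3,0], [2,4,1], [2,5,0,0,2], [2,5,3,5], [2,4,5,1,4], [3,1,6,0,4], [3,0,4,1,2], [3,4,6,2,1],
   [3,5,1,2], [0,3,0,0,4], [1,6,3], [4,0,3,3,1], [1,5,1,2,6], [0,3,5,2,1], [3,1,4,1],
   [4,5,1,2,5,1], [0,0,4,5], [2,5,0,0,4], [6,6,2,0], [3,3,1,5,0], [0,3,4,1,3,5], [5,1,5,2,5],
   [2,5,3,0,4], [2,1,5,2,6], [0,3,5,0,4,1], [1,5,2], [4,0,5,5,1], [5,2,1,2,2], [4,1,5,5],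
   [6,1,2,6], [3,0,3,5], [1,5,1,6], [2,5,1,4,6,1], [4,6,2,0], [3,1,3,3], [0,4,5], [0,6,6],
   [2,4,1,1,6,0], [2,5,1,2,6], [4,0,5,1], [3,0,5,5], [5,1,5,1], [1,5,5,2], [1,6,1,4,5],
   [5,3,0,3,0], [4,6,0,0], [5,5,1,3], [6,1,1,6,6], [0,4,5,1,2], [1,1,4,0,5,3], [5,1,3],
   [4,1,1,5,1], [2,2,4,0,3], [0,3,4], [6,3,3], [0,4,5,3,1], [2,6,0], [0,4,0,3,3,1], [3,3,4,5],
   [5,0,2,5,3], [0,0,6,6,0], [6,0,2,4,6,1], [0,2,2,2,1], [5,0,3,3], [0,3,6,0,2,4], [0,4,0,5,0,0],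
   [6,6,1,5], [3,5,0,4], [1,6,1,5,2], [0,5,0,4,5], [5,5,0,5], [1,4], [2,4,1,6,1], [6,0,4,6],
   [1,2,5,2,0], [2,1,6,0,4], [0,5,5,2], [1,6,6], [1,1,4,6,0,4], [3,0,3,0], [3,4,0,6,3],
   [0,0,4,0,5,1], [5,2], [6,3,1,6,6], [5,0,5,0,6], [4,6,1,6], [6,1,1,4], [1,1,6,3,3], [3,3,3,4],
   [0,4,1,3,6,3], [6,1,5,0], [1,1,1], [4,1,3,1,5], [2,4,6,0,6], [3,1,4,5,2], [0,3,0], [4,6,0,2,6],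
   [1,5,0,0,2], [4,5,1,5,5], [2,2,4,1,1], [0,3,4,1,3,1], [3,4,5,2,1], [3,5,1,5], [0,3,5,1,3],
   [4,6,1,5,2], [2,4,5,1,3,1], [0,4,1,2,1,5], [3,5,1,3], [0,4,6,6], [1,1,4,0,5], [0,5,1,5,2],
   [0,2,6,2,0,4], [3,0,6,6], [0,5,0,4,1], [2,5], [0,4,1,3,5], [1,1,4,5,3,1,5], [0,3,3,3], [1,1,2],
   [4,5,3,6], [2,0,4,0,6], [0,4,6,0,3,3], [0,3,6], [2,4,6,6,0], [3,0,5,1,5], [2,2,4,1,5,3],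
   [5,0,6,3], [2,4,0,5,0,3], [1,6,0,0,5], [5,5,0,0], [3,0,4,0,6], [2,1,5,0], [4,5,1,6,0],
   [0,0,6,0,0,4,0], [1,1,5,1,2], [2,4,0,6,1], [6,2,0,2], [0,0,4,6,6], [2,5,2,1,2], [0,0,4,1,2],
   [0,0,6,2,0], [0,3,0,3,4,1], [0,0,0,4,6], [0,6,0,5,0], [0,2,5,1,4], [0,4,6,1,5], [4,0,0,0],
   [2,1,6,3], [1,3,6,3,1], [5,2,5,0], [2,1,4,6,2,1], [2,1,5,5,2], [0,0,0,4], [0,3,5,5,0,5],
   [5,2,0,3], [4,0,5,2,1], [1,4,6,6], [4,5,2,5], [3,5,5,0], [0,3,5,1,2,1], [2,5,2,1,4,0],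
   [5,1,5,5,2], [2,4,5,1,3,3], [3,4,6,6,0], [0,3,0,6], [3,1,5,1,4,5], [0,0,6,6,3], [1,2,5],
   [1,4,6,3], [0,5,1,6], [0,2,4,6,0,0], [0,2,4,6,6,0], [1,6,1,5,0,0], [0,2,5,1,3,4], [2,6,3,1,5],
   [1,2,5,2,1], [0,4,6,6,1,6], [1,4,5,1,5], [4,6,0,6,0], [0,0,0,0,4,5], [0,0,0,0,4,0], [2,1,5,0,3],
   [0,4,1,2,6], [0,0,5,2,6], [4,5,2,6,1], [1,1,1,2], [0,5,3,0,0], [3,5,0,0], [2,4,1,5,3,1],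
   [4,1,6,0,3], [0,0,6,2,1], [0,0,4,0,6], [4,0], [0,6,1,4,6,0], [3,3,0,5,3], [1,5,1,5],
   [2,4,5,3,0,4], [1,6,6,3], [0,2,4,6], [0,0,6,3], [0,2,5,0,3,0], [2,1,4,6,1,6], [2,5,5,0],
   [0,4,1,3,6,1], [1,3,5,0,6], [4,0,5,5,2], [0,2,5,1,3], [2,5,5,1], [0,0,4,1,5], [2,2,1,3],
   [4,6,0,3,4], [1,4,5,1,4,5], [1,1,1,6,2], [6,1,3,4], [5,5,1,5,2], [2,2,4,0,6,3], [0,5,3,5],
   [0,4,1,6,2,0], [5,0], [4,1,3,5,5], [2,0,5,5], [3,4,5,3], [1,3,1,4,1], [6,3,6,1,5], [1,3,5,1,5],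
   [0,0,5,0,3], [0,2,4,5,0,3,5], [3,4,1,2,1], [0,3,4,5,0], [0,0,2,5], [4,6,2,0,4], [0,4,0,6,1],
   [2,2,0,6,2], [1,1,4,5,3,1], [0,4,0,0,6], [2,1,5,5], [4,0,2,6,6], [2,2,4,1,6], [3,5,2,5],
   [0,5,0,3,4], [1,2,1,2,6], [4,5,1,2,2,1], [3,6,3,0], [3,1,5,1], [0,2,2,4,5], [0,4,6,0,3,4],
   [0,6,2,1,3], [0,2,4,1,1,5], [1,2,4], [2,1,4,5,1,2], [0,5,5,0,6,1], [5,0,2,4], [6,0,5,1],
   [2,6,0,2], [3,4,1,6], [1,1,4,1], [1,4,1,5], [5,3,0,6], [0,4,1], [3,0,5,1], [4,5,1,2], [2,2,1,5],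
   [4,5,3,1,1,5], [0,0,2,4], [5,5,2], [0,2,6,6,1,2], [3,1,5,3,1], [3,4,6,2,6], [1,1,1,6],
   [1,3,3,5,0], [0,4,5,1,2,4], [5,0,4,6,3,0], [6,0,6,2,6], [3,0,5,1,3], [0,4,1,3,6,6], [0,6,1,1,5],
   [3,3,4,1], [2,6,0,5,3], [0,0,4,6,1,5], [1,1,6,2,1], [4,1,3,5,2,0], [4,5,1,3,5,1], [0,0,5,1,1],
   [5,0,4,1], [3,3,0,5], [2,4,6,0,5,0], [2,2,0], [0,4,5,0,6], [2,4,1,1,4], [5,0,4,1,2],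
   [0,2,5,0,2], [0,2,4,5,1,4], [1,1,1,1,6], [4,0,5,5,0,3], [0,4,5,3,5], [0,4,6,1], [1,5,2,0,6],
   [3,0,6,1], [4,1,6,2], [2,0,4,5,2], [4,1,6,1,6], [2,4,5], [1,4,6,1], [6,3,6], [0,0,4,5,2],
   [1,1,6,3,0], [6,3,6,1,3], [5,2,0,5], [4,6,0,5,5,1], [0,4,1,2,1], [2,6,1,1], [6], [0,6,0,3,6],
   [4,1,3,1,5,5], [2,2,4,1,1,6], [4,1,1,6], [3,3,3], [2,5,2,0,4], [0,0,0,0,2,5], [2,2,0,6],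
   [0,4,5,1,3,4], [0,6,0,0,0], [4,1,6,3,0], [4,6,3,6], [3,3,0,3], [6,1,4,0,5], [1,5,2,6,1],
   [0,3,3,4,5,5], [3,1,6,1], [2,1,5,1,4,0], [0,4,0,3,5,5], [2,1,2,4,1], [2,1,2,2,6], [2,6,2,1],
   [1,2,2,4,6], [1,3,5,0], [0,2,4,1,3,5], [1,1,6], [3,6,1,3], [2,4,5,1,1,1], [3,1,5,0],
   [0,3,4,0,5], [0,5,0,6], [0,0,6,0,4], [0,5,5,1], [0,4,0,2,5,5], [1,2,4,5], [0,6,2,1],
   [4,6,6,0,0], [2,2,0,5,3], [0,2,0,6,1,4], [0,2,0,5,0], [0,3,5,3,0], [0,4,1,6,0], [2,1,5,2],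
   [3,1,4,5,1], [4,6,6,1,4], [2,1,4,5,2], [0,5,1,1], [0,3,0,5,1], [4,1,5,0,0], [0,6,0,2],
   [4,1,3,6,0], [4,0,6,2], [5,1,4,0,0], [4,5,3,1], [6,2,0], [3,4,0,2,6], [6,0,5,0], [0,3,6,0,4],
   [1,1,4,6,1], [1,3,1,4,6], [3,6,6], [5,1,3,3], [0,2,4,0,3,0], [0,6,1,4], [0,4,0,3,5,2],
   [0,3,4,5,3,1], [1,3,3,4,1], [1,2,2,1,4], [1,1,4,0], [2,4,6,1,1], [0,2,5,0,4,5], [0,2,0,6,1],
   [1,5,0,4,1], [0,5,3,1,1], [4,1,1,1], [3,0,6,1,6], [2,0,6,0], [5,1,2,1,4], [1,2,2,0],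
   [0,3,0,3,5], [2,0,4,5,5], [0,4,0], [1,4,0,2,0], [0,3,4,6,1], [0,5,2,1,6], [0,5,1,5], [3,0,5,0],
   [4,5,2], [0,2,2,5,1,3], [6,1,6,0,4], [3,3,0,6], [0,0,5,1,6], [0,0,2,6,1,2], [0,2],
   [1,5,0,3,4,6], [0,2,4,6,2], [0,6,0,6,1,1], [0,4,5,0,2], [3,5,0,2,2], [5,0,0,6], [5,2,6,1],
   [5,0,4,5], [1,5,2,0,3], [3,1,4,6], [0,3,6,6], [2,4,0,0], [1,1,5,1,1], [6,1,2,4,1], [1,1,2,6,2],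
   [3,1,5,3,0], [6,6,1,3], [3,1,1], [0,2,6,2,0], [1,2,4,6,2], [1,1,2,4], [4,1,5,2], [0,4,6,6,3],
   [2,1,4,0,0], [6,3,1], [4,1,5,3,5], [0,4,6,0,2,6], [3,1,5,1,3], [6,0,5,1,2], [2,0,6,0,3],
   [0,5,1,2,2,6], [3,4,5,0,6], [0,0,4,6,2,1], [0,0,6,0,2,4], [0,2,2,4,0,6], [0,5,0], [3,3,1],
   [0,2,4,5,3,1], [0,3,6,0,2], [0,4,6,0,5,3], [2,5,1,6,2], [3,1,1,5], [0,3,0,4,1,5], [0,6,3,6],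
   [6,0,4,6,2], [1,2,2,6], [4,0,3,5,5,0], [1,3,5,1,6], [3,4,1,5,3,0], [2,5,1,6,1], [2,1,4,6,1],
   [6,2,1,5], [0,0,4,6,0,6], [1,6,0,4,6,1], [0,2,5,1], [0,3,4,5,0,6], [2,2,6,0], [4,1,2],
   [2,2,0,2,4], [4,5,5], [0,2,6], [0,2,4,1], [1,3,1,6,2], [4,0,6,0,0], [1,5,0,2,6], [1,1,2,1,4],
   [4,0,6,0,2,0], [3,0,5,0,6], [0,4,6,6,1,2,5], [1,6,1,2,2], [4,6,3], [0,3,3,5,1], [2,4,5,1,2,5],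
   [3,5,2,0], [0,4,1,5,2], [4,1,5,5,3], [5,3,0,6,2], [0,4,1,2,6,6], [4,5,0,5], [0,0,5],
   [3,0,0,4,1], [0,0,2,6,1], [4,5,1,4], [0,4,0,5,5,3], [3,1,3,4,0], [1,4,1,2], [6,0,3,6,3],
   [4,1,6,2,2], [1,1,4,6,1,6], [3,3,0,4,6], [3,6], [0,4,0,0,2], [2,5,1,3,3], [0,2,2,1],
   [2,4,5,3,1], [5,1,5,2], [4,1,2,6,6], [0,0,5,1,1,4], [3,0,6,3], [3,4,6,0,3], [1,6,0,6,6],
   [0,0,5,3,1,4], [2,5,2,6], [6,6,1], [2,6,1,3,1], [0,4,5,0,4], [5,0,3,4], [6,1,1,6], [2,0,6,3],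
   [4,6,0,4], [2,5,1,5], [0,2,5,2,0,4], [2,5,3,0], [1,1,4,0,2], [1,2,5,3], [3,4,0,5,5],
   [6,6,2,0,4], [5,0,6,2], [5,0,5,3,0], [2,1,4,5], [2,6,3,1,4], [1,3,1,5], [3,4,1,6,2], [1,5,5],
   [4,5,1,2,5,2], [0,4,6,0], [4,5,0,0,5], [5,3,6], [0,0,5,2,1], [4,1,2,5], [1,4,5,0,6],
   [0,6,6,0,4], [1,5,0], [0,3,3,4,5,1], [3,0,6,0], [3,1,1,6], [4,1,6,0,2], [0,2,6,1,4],
   [0,4,5,0,5,1], [0,4,0,5,0,3], [1,1,6,1,2,5], [5,5,1,4], [5,1,1,1], [4,6,1,5,5,3], [0,3,5,1,6],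
   [1,6,6,2], [4,1,3,5], [2,2,4,5,0], [2,5,1,3], [1,2,6], [4,1,3,6,3], [3,1,6,0,3], [2,4,5,0,0],
   [5,3], [2,4,1,1], [0,3,0,3], [2,5,0,4], [0,2,5,1,6,6], [1,3,6,0], [0,3,4,1,6], [1,6,3,1],
   [1,1,4,1,2], [0,0,4,5,1], [6,6,2], [3,3,1,5], [5,2,5,0,3], [3,3,3,4,1,6], [1,5,2,1],
   [4,1,5,5,1], [1,6,3,3], [0,0,0,2], [4,6,2], [0,6,6,1], [5,1,5,3], [4,0,5,1,1], [5,1,5,1,1],
   [1,6,1,4,5,1], [1,1,2,2], [0,0,4,6,2,2], [0,4,5,2,0,2], [0,3,4,1], [2,4,0,0,6], [2,6],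
   [3,3,4,5,1], [0,0,6,6], [1,5,3,5], [2,2,0,4,5], [2,4,1,1,5], [1,4,1], [6,0,4,6,1], [0,5,5,2,1],
   [0,5,1,1,2,4], [3,0,3], [5,2,1], [2,1,6,6,0], [4,6,1,6,1], [0,0,5,3,5], [1,1,1,1], [2,1,4,1,6],
   [6,0,2,4,5], [0,3], [4,1,2,2,5,0], [1,5,0,2,0], [2,2,4,1,1,1], [3,4,5,1,2], [4,0,3,3,5],
   [4,6,1,6,6,0], [1,1,4,0,5,1], [6,2,0,3], [0,3,4,6,2], [2,5,1], [4,0,2,6,0,6], [0,3,3,3,1],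
   [2,4,6,0], [0,0,2,2], [2,4,6,6], [2,5,2,1,5], [2,0,5,5,2], [0,3,0,4,0,6], [5,5,0], [4,5,1,6],
   [0,0,6,0,0,4], [2,0,4,5,0], [4,5,0,3,4], [0,3,0,4,1,2], [0,6,0,5], [0,2,4,5,0,3], [0,4,6,0,6],
   [2,1,6,3,1], [5,2,5], [5,0,0,2,0], [0,0,0,4,1], [5,2,1,3], [4,5,2,5,1], [0,5,1,5,5],
   [2,4,6,6,0,2], [3,4,6,6], [0,3,3,1,3], [6,2,6], [0,5,1,6,1], [1,6,1,5,0], [0,2,4,5,0,0],
   [3,1,4,0,2,5], [0,0,0,0,4], [2,1,5,1,3], [1,5,1,5,3], [3,3,3,4,1,2], [0,5,3,0], [0,3,4,1,5,0],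
   [4,1,6,1,3], [0,2,5,3], [4], [0,0,2,5,3], [0,6,0,3], [3,1,6,0], [5,3,0,4,5], [2,4,5,1,2,4],
   [0,0,4,1,5,1], [1,2,2,0,3], [2,4,1,6,2], [3,3,0,6,6], [1,5,3,0], [0,4,1,6,2], [3,4,5,3,1],
   [0,0,0,0,6], [0,0,5,1,3], [4,1,2,2], [0,0,2,5,1], [2,1,2,2,4], [1,3,1,5,3], [0,0,2,4,5],
   [1,3,3,3], [0,5,0,3,4,1], [1,1,5,5,0], [1,2,5,0,3], [2,4,0,5,0], [6,0,3], [0,4,5,0,0,0],
   [6,0,5,1,1], [1,6,0,5], [1,6,3,1,6], [4,0,3,0,5], [1,6,2,0,3], [0,0,2,4,1], [5,1,2,5,5],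
   [3,4,6,2,6,1], [1,3,3,5], [5,0,4,6,3], [0,2,5,1,6,2], [0,4,5,5,0,6], [3,5,0,5,0], [5,1,6,6],
   [4,1,3,5,2], [1,2,6,6], [3,4,5,0,0], [2,4,6,0,5], [2,2], [0,4,6,2,2], [0,2,5,2,0], [0,2,5,0,4],
   [2,0,3,6,0], [2,1,3,4,6], [6,3,6,0,5], [5,2,1,6], [2,4,5,1], [1,1,6,3], [5,0,5,2], [2,6,1,1,1],
   [1,5,3,0,5], [4,5,3,0,3], [4,1,1,6,1], [5,1,5,0,0], [2,2,0,6,1], [4,1,6,3], [3,3,1,3],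
   [3,4,6,0,5], [3,1,6,1,1], [2,1,5,1,4], [2,6,1,2], [1,3,5], [4,1,6,0,2,6], [0,5,5,0],
   [2,1,4,5,5], [4,0,2,2,6], [1,2,4,5,1], [0,6,1,2], [0,3,5,3], [1,6,6,3,1,4], [0,5,1,1,1],
   [4,1,5,0], [0,5,3,6], [5,1,4,0], [4,5,3,1,1], [0,0,5,5,3,5], [5,5,1,4,6], [0,5,1,6,3],
   [4,5,1,5,2], [1,4,5,0,2], [4,0,0,6,3], [0,5,3,0,5], [4,6,1,4,5], [0,4,6,3,0], [6,0,2,5],
   [1,2,2], [1,1,5,2,1,4], [0,5,1,5,1], [3,1,1,5,3], [6,1,6,0,4,1], [2,5,1,3,5], [0,6,1,5,0],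
   [0,4,5,2,0], [2,6,1,4,6], [0,4,6,3,6], [3,1,4,6,1], [2,1,5,0,2], [0,2,6,2], [1,2,1,5,5,0],
   [3,1,4,5,0], [3,1,4,1,6], [2,1,4,0], [2,0,4,0], [6,1,2,4,6], [6,1,2,5], [2,2,5,1,4],
   [0,0,4,6,1,2], [0,3,4,5,2], [0,5], [1,1,4,1,2,6], [2,1,2,2], [2,5,1,6,2,1], [0,3,0,5,0],
   [0,6,3,6,1], [0,0,4,1,3,5], [6,6,1,4], [3,4,1,5,3], [2,2,2,0,4], [0,5,0,6,3], [1,1,2,4,6,6],
   [2,2,6], [0,2,6,1], [0,2,4,1,1], [4,0,6,0], [4,0,6,0,2], [3,0,5,2], [0,0,5,0,3,6], [0,0,4,0],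
   [0,4,1,5,2,1], [4,5,3,0], [0,3,3,5,1,3], [1,1,4,1,5], [2,6,0,3,6], [4,5,0,3,0], [6,0,2,0],
   [2,1,4,1,5], [3,6,1], [0,4,0,2,0], [1,4,6,1,4], [1,1,5,3], [0,4,0,5,2,0], [1,6,3,6],
   [0,0,4,5,1,1,4], [6,6,1,1], [0,5,2,5], [0,4,5,3,6], [2,5,3], [4,6,1,4], [1,1,5,0,0],
   [2,1,4,5,1], [1,1,2,5], [4,5,3,1,6], [1,5,5,1], [1,1,4,6,0], [0,0,5,1,2], [1,5], [3,4,1,2,6],
   [0,2,0,2,5], [4,6,1,5,5], [0,4,0,5,1,3], [1,4,6,1,2], [1,3,1,4,6,3], [2,1,3,5,2], [1,6,6,2,1],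
   [5,0,0,4], [3,5,1,4,6], [3,1,6,1,3], [1,3,3], [2,5,0,4,1], [1,3,6], [1,1,4,5,5], [6,1,6,3],
   [0,6,3,0,0], [1,5,1,2], [0,0,2,0], [3,4,0,5], [0,3,3,3,4,0], [2,5,0,0,5], [1,1,1,4,6,3],
   [2,1,3,4,5], [1,1,4,6,3], [0,3,3], [2,0,6,6], [4,1,5,0,3], [3,1,3], [2,1,6,6], [1,3,3,4,0],
   [0,2,0,4,5], [4,1,2,6,3], [1,3], [4,1,2,2,5], [2,2,6,0,4], [0,2,2,4,0,3], [6,2,1,3],
   [0,3,4,6,2,1], [2,4,6], [0,0,0,5,3], [2,2,4,5,5], [5,5], [0,5,0,0,0,4], [2,5,1,2,2],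
   [0,3,4,5,5], [1,6,0,2], [0,2,0,6,0], [5,0,0,2], [1,4,5,1,4], [1,4,0,6], [3,4,6,6,1], [6,2,6,1],
   [5,1,4,6,2], [0,2,4,5,0], [1,5,0,2,5], [3,4,6,0,0,0], [0,5,3], [0,2,5,3,1], [4,1], [0,6,1,3],
   [4,0,3,6,0,4], [0,4,0,5,0,5], [1,6,1,2,5], [1,5,3], [1,6,2,6], [3,1,1,6,6], [0,0,2,4,5,1],
   [0,5,0,4,1,2], [1,1,5,5], [6,1,3], [6,6,0,2,4], [4,5,1,1,2], [0,4,6,0,6,2], [6,3,0,3],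
   [3,1,4,0,5], [3,5,0,5], [5,1,6,6,1], [3,4,5,0], [2,2,1], [0,4,6,2,2,1], [0,0,4,6,3],
   [2,5,1,6,3], [1,1,6,3,1], [6,0,6,1,6], [4,1,1,6,1,1], [2,0,3,5,2], [0,4,0,0,0], [0,0,5,5],
   [1,3,5,1], [0,3,3,4,0,5], [3,3,1,3,5], [4,1,5], [5,1,4], [1,5,2,0,4,6], [0,0,2,0,3],
   [0,3,4,6,0], [0,0,5,0,6], [1,6,1,5,5], [3,1,6,6], [0,6,1,5], [1,1,4,1,6,2], [1,2,1,5,5],
   [4,6,0,4,6], [2,0,4], [2,4,5,1,6,2], [2,2,5,0,2], [3,0,4,6,2], [0,2,2,6], [6,2,1,3,6],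
   [5,1,5,5], [0,4,1,5,5], [3,5,0,4,6], [2,2,6,1], [3,0,0], [4,0,6], [1,1,1,5], [0,0,4],
   [5,1,4,0,6], [2,2,2,4,0], [1,6,2,0,5,0], [0,0,4,5,0,5], [3,6,1,1], [1,6,0,4], [1,6,3,6,1],
   [5,5,1,2,4], [2,5,3,1], [6,0,4], [1,1,5,0], [1,1,2,5,1], [3,4,5,1,5], [2,2,4,0,6], [6,1,2,2],
   [1,1,6,1,4,5], [0,0,2,6,2], [2,0,5,2], [1,6,0,6,0], [1,3,3,1], [6,6,1,2], [0,0,2], [0,3,3,3,4],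
   [1,1,4,6,3,1], [2,0,2,2], [1,1,4,5,2], [2,1,6,6,1], [6,1,1,1,4], [1,3,1], [4,0,3,0,3],
   [0,6,0,6], [6,6,0,6], [0,4,1,5,1,3], [0,4,5,0,0,2], [1,6,2,0], [1,6,0,3], [2,6,0,6],
   [1,1,4,5,1,6], [5,2,1,4], [3,0,6,1,3], [3,4,6,0,0], [0,5,2,1,2], [5,0,5,5], [1,6,2,6,1],
   [0,2,4,0,6,0], [5,2,6,0], [2,5,1,2,4], [6,3,1,3], [2,4,5,1,4,5], [0,2,5,3,1,3], [2,4,0,6,3],
   [2,1,4,5,3], [0,2,5,0,5], [4,1,5,1], [4,5,0,4], [0,2,0,3], [0,3,0,6,1,3], [2,2,4,1,5,0],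
   [3,5,3,0], [0,3,4,5,1,2], [0,6,2,6], [0,3,3,1,3,4], [3,0], [0,0,5,1,5], [0,0,4,1], [2,6,1,6,3],
   [1,5,5,0,4], [0,6,0,0,4], [1,1,5], [1,5,5,1,4,6], [1,5,1,3,3], [0,4,6,6,1,2,2], [1,3,4,6,6],
   [6,6,1,2,1], [0,5,0,0,2], [2,1,2,4,6], [0,3,5,0], [1,6,2], [2,6,0,6,1], [3,4,6,0],
   [0,0,2,5,0,5], [5,1,3,5,2], [0,4,5,1,6,3], [2,0,2,4], [4,1,6,6,3], [5,1,6], [2,0,3],
   [2,2,4,1,5], [3,5,3], [3], [2,0,2,5], [0,4,5,5,2], [1,1,5,0,2,4], [2,0,5,1,2], [6,6,1,1,2],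
   [1,6,2,1], [3,4,6], [0,5,1,5,3], [2,1,3], [1,2,6,2], [2,0,2,5,1], [3,0,4,6,6], [0,0,5,1,4,0],
   [2,5,3,0,5], [3,6,3,1,4]]

theorem octad_cert :
    certCheck gensM24 (fun _ => [oct0]) (fun m => [m]) octadList octadWords = true := by
  decide +kernel

theorem dodecad_cert :
    certCheck gensM24 (fun _ => [dod0]) (fun m => [m]) dodecadList dodecadWords = true := by
  decide +kernel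

theorem oct0_mem : oct0 ∈ octadList := by decide +kernel

theorem dod0_mem : dod0 ∈ dodecadList := by decide +kernel

/-- `M24` is transitive on octads. -/
theorem octads_transitive {o : Finset GolayPt} (ho : o ∈ octads) :
    ∃ g ∈ M24, g • toFinset oct0 = o := by
  obtain ⟨m, hm, rfl⟩ := mem_octads_iff'.mp ho
  obtain ⟨g, hg, e⟩ := reach_single (certCheck_spec gensM24_ok _ _ _ _ octad_cert m hm)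
  exact ⟨g, stabOf_nil_eq.mp hg, e⟩

/-- `M24` is transitive on dodecads. -/
theorem dodecads_transitive {d : Finset GolayPt} (hd : d ∈ dodecads) :
    ∃ g ∈ M24, g • toFinset dod0 = d := by
  obtain ⟨m, hm, rfl⟩ := mem_dodecads_iff'.mp hd
  obtain ⟨g, hg, e⟩ := reach_single (certCheck_spec gensM24_ok _ _ _ _ dodecad_cert m hm)
  exact ⟨g, stabOf_nil_eq.mp hg, e⟩

end Cfsg.Agent.Helper27
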