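import Cfsg.Agent.Lib.Helper27.HSb
import Cfsg.Prelude.Def_Sporadic

/-!
# The joint stabiliser of two vectors of norm 48 with inner product -32: simplicity

We work with the pair `(5, 1²³)`, `(-1, -5, (-1)²²)`; the stabiliser of the further vector
`(4, 4, 0²²)` is the pointwise stabiliser of two points in `M24`.
-/

set_option autoImplicit false

namespace Cfsg.Agent.Helper27.HS
open Cfsg Cfsg.Agent.Helper7 Cfsg.Agent.Helper91 Cfsg.Agent.Helper92

/-! ### The base configuration -/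

def vAL : List ℤ := [5, 1, 1, 1, 1, 1, 1, 1, 1, 1, 1, 1, 1, 1, 1, 1, 1, 1, 1, 1, 1, 1, 1, 1]
def wAL : List ℤ :=
  [-1, -5, -1, -1, -1, -1, -1, -1, -1, -1, -1, -1, -1, -1, -1, -1, -1, -1, -1, -1, -1, -1, -1, -1]
def xAL : List ℤ := [4, 4, 0, 0, 0, 0, 0, 0, 0, 0, 0, 0, 0, 0, 0, 0, 0, 0, 0, 0, 0, 0, 0, 0]
def yAL (j : ℕ) : List ℤ := (List.range 24).map fun i => if i = j then -3 else 1

theorem vAL_mem : vecOf vAL ∈ leechLattice := vecOf_mem vAL 1 0 (by decide +kernel)
theorem wAL_mem : vecOf wAL ∈ leechLattice := vecOf_mem wAL 1 16777215 (by decide +kernel)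
theorem xAL_mem : vecOf xAL ∈ leechLattice := vecOf_mem xAL 0 0 (by decide +kernel)

theorem yAL_ok : ∀ j : Fin 24, latOK (yAL j.1) 1 0 = true := by decide +kernel

theorem yAL_mem (j : Fin 24) : vecOf (yAL j.1) ∈ leechLattice := vecOf_mem _ 1 0 (yAL_ok j)

def vA : leechLattice := ⟨vecOf vAL, vAL_mem⟩
def wA : leechLattice := ⟨vecOf wAL, wAL_mem⟩
def xA : leechLattice := ⟨vecOf xAL, xAL_mem⟩
def yA (j : Fin 24) : leechLattice := ⟨vecOf (yAL j.1), yAL_mem j⟩

theorem vA_apply : ∀ q : GolayPt, vA.1 q = if q = pt 0 then 5 else 1 := by decide +kernel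
theorem wA_apply : ∀ q : GolayPt, wA.1 q = if q = pt 1 then -5 else -1 := by decide +kernel
theorem xA_apply : ∀ q : GolayPt, xA.1 q = if q = pt 0 then 4 else if q = pt 1 then 4 else 0 := by
  decide +kernel

theorem sqNorm_vA : sqNorm vA.1 = 48 := by decide +kernel
theorem sqNorm_wA : sqNorm wA.1 = 48 := by decide +kernel
theorem dot_vA_wA : dotInt vA.1 wA.1 = -32 := by decide +kernel

theorem xA_mem : xA ∈ X100 vA wA :=
  ⟨by decide +kernel, by decide +kernel, by decide +kernel⟩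

theorem yA_data : ∀ j : Fin 24, 2 ≤ j.1 →
    (sqNorm (yA j).1 = 32 ∧ dotInt vA.1 (yA j).1 = 24 ∧ dotInt wA.1 (yA j).1 = -24) := by
  decide +kernel

theorem yA_mem (j : Fin 24) (hj : 2 ≤ j.1) : yA j ∈ X100 vA wA := yA_data j hj

theorem frame0_data : ∀ q : GolayPt,
    (Pi.single (pt 0) (8 : ℤ) : GolayPt → ℤ) q = xA.1 q + vA.1 q + wA.1 q := by decide +kernel

theorem frame1_data : ∀ q : GolayPt,
    (Pi.single (pt 1) (8 : ℤ) : GolayPt → ℤ) q = xA.1 q - vA.1 q - wA.1 q := by decide +kernel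

theorem frameJ_data : ∀ j : Fin 24, 2 ≤ j.1 → ∀ q : GolayPt,
    (Pi.single (pt j.1) (8 : ℤ) : GolayPt → ℤ) q =
      vA.1 q + vA.1 q - (Pi.single (pt 0) (8 : ℤ) : GolayPt → ℤ) q -
        ((yA j).1 q + (yA j).1 q) := by
  decide +kernel

theorem frame0 : frameVec (pt 0) = xA + vA + wA :=
  Subtype.ext (funext fun q => frame0_data q)

theorem frame1 : frameVec (pt 1) = xA - vA - wA :=
  Subtype.ext (funext fun q => frame1_data q)

theorem frameJ (j : Fin 24) (hj : 2 ≤ j.1) :
    frameVec (pt j.1) = vA + vA - frameVec (pt 0) - (yA j + yA j) :=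
  Subtype.ext (funext fun q => frameJ_data j hj q)

/-! ### Faithfulness -/

/-- the vectors fixed by an automorphism -/
def fixSub (g : Equiv.Perm leechLattice) (hg : g ∈ Co0) : AddSubgroup leechLattice where
  carrier := {u | g u = u}
  zero_mem' := co0_zero g hg
  add_mem' := by
    intro a b ha hb
    show g (a + b) = a + b
    rw [hg.1, show g a = a from ha, show g b = b from hb]
  neg_mem' := by
    intro a ha
    show g (-a) = -a
    rw [co0_neg g hg, show g a = a from ha]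

theorem mem_fixSub (g : Equiv.Perm leechLattice) (hg : g ∈ Co0) (u : leechLattice) :
    u ∈ fixSub g hg ↔ g u = u := Iff.rfl

theorem eq_one_of_fix (g : Equiv.Perm leechLattice) (hg : g ∈ Co0) (hv : g vA = vA)
    (hw : g wA = wA) (hx : g xA = xA) (hy : ∀ j : Fin 24, 2 ≤ j.1 → g (yA j) = yA j) : g = 1 := by
  have hv' : vA ∈ fixSub g hg := hv
  have hw' : wA ∈ fixSub g hg := hw
  have hx' : xA ∈ fixSub g hg := hx
  have h0 : frameVec (pt 0) ∈ fixSub g hg := by
    rw [frame0]
    exact add_mem (add_mem hx' hv') hw'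
  have h1 : frameVec (pt 1) ∈ fixSub g hg := by
    rw [frame1]
    exact sub_mem (sub_mem hx' hv') hw'
  have hf : ∀ i, g (frameVec i) = frameVec i := by
    intro i
    rw [← mem_fixSub g hg, ← pt_idx i]
    have hi := idx_lt i
    by_cases c0 : idx i = 0
    · rw [c0]; exact h0
    by_cases c1 : idx i = 1
    · rw [c1]; exact h1
    have h2 : 2 ≤ (⟨idx i, hi⟩ : Fin 24).1 := by
      show 2 ≤ idx i
      omega
    have hyj : yA ⟨idx i, hi⟩ ∈ fixSub g hg := hy _ h2
    have := frameJ ⟨idx i, hi⟩ h2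
    rw [show frameVec (pt (idx i)) = frameVec (pt (⟨idx i, hi⟩ : Fin 24).1) from rfl, this]
    exact sub_mem (sub_mem (add_mem hv' hv') h0) (add_mem hyj hyj)
  have hid : co0Hom g hg = AddMonoidHom.id _ :=
    addHom_ext_frame _ _ (fun i => by rw [co0Hom_apply, hf i]; rfl)
  apply Equiv.ext
  intro x
  have := DFunLike.congr_fun hid x
  rw [co0Hom_apply] at this
  exact this

/-! ### The permutation automorphisms -/

theorem monoPerm_empty_apply (σ : Equiv.Perm GolayPt) (hσ : σ ∈ M24) (x : leechLattice)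
    (i : GolayPt) :
    ((monoPerm σ ∅ hσ Helper92.empty_mem x : leechLattice) : GolayPt → ℤ) i = x.1 (σ.symm i) := by
  rw [monoPerm_val, signedPerm_apply, if_neg (Finset.notMem_empty i)]

/-- coordinate permutations as lattice automorphisms -/
noncomputable def permHom : ↥M24 →* Equiv.Perm leechLattice where
  toFun σ := monoPerm σ.1 ∅ σ.2 Helper92.empty_mem
  map_one' := by
    apply Equiv.ext
    intro x
    apply Subtype.ext
    funext i
    rw [monoPerm_empty_apply]
    rfl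
  map_mul' σ τ := by
    apply Equiv.ext
    intro x
    apply Subtype.ext
    funext i
    rw [Equiv.Perm.mul_apply]
    simp only [monoPerm_empty_apply]
    rfl

theorem permHom_apply (σ : ↥M24) (x : leechLattice) (i : GolayPt) :
    ((permHom σ x : leechLattice) : GolayPt → ℤ) i = x.1 (σ.1.symm i) :=
  monoPerm_empty_apply σ.1 σ.2 x i

theorem permHom_mem (σ : ↥M24) : permHom σ ∈ Co0 := monoPerm_mem σ.1 ∅ σ.2 Helper92.empty_mem

theorem permHom_frame (σ : ↥M24) (i : GolayPt) : permHom σ (frameVec i) = frameVec (σ.1 i) :=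
  monoPerm_empty_frame σ.1 σ.2 i

theorem permHom_injective : Function.Injective permHom := by
  rw [injective_iff_map_eq_one]
  intro σ h
  apply Subtype.ext
  apply Equiv.ext
  intro i
  show σ.1 i = i
  have h1 := permHom_frame σ i
  rw [h] at h1
  have h2 := congrArg (fun u : leechLattice => (u : GolayPt → ℤ) (σ.1 i)) h1
  simp only [Equiv.Perm.one_apply, frameVec_val, Pi.single_eq_same] at h2
  by_contra hne
  rw [Pi.single_eq_of_ne hne] at h2
  norm_num at h2

/-- the pointwise stabiliser of two points -/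
def m22S : Subgroup ↥M24 := MulAction.stabilizer M24 (pt 0) ⊓ MulAction.stabilizer M24 (pt 1)

theorem pt01 : pt 0 ≠ pt 1 := by decide

theorem permHom_m22_le : m22S.map permHom ≤ stabIn (stabIn (stabIn Co0 vA) wA) xA := by
  rintro _ ⟨σ, hσ, rfl⟩
  rw [SetLike.mem_coe, m22S, Subgroup.mem_inf, MulAction.mem_stabilizer_iff,
    MulAction.mem_stabilizer_iff] at hσ
  obtain ⟨h0, h1⟩ := hσ
  have h0' : σ.1 (pt 0) = pt 0 := h0
  have h1' : σ.1 (pt 1) = pt 1 := h1
  have hs0 : ∀ i, σ.1.symm i = pt 0 ↔ i = pt 0 := by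
    intro i
    rw [Equiv.symm_apply_eq, h0']
  have hs1 : ∀ i, σ.1.symm i = pt 1 ↔ i = pt 1 := by
    intro i
    rw [Equiv.symm_apply_eq, h1']
  simp only [mem_stabIn]
  refine ⟨⟨⟨permHom_mem σ, ?_⟩, ?_⟩, ?_⟩
  · apply Subtype.ext
    funext i
    rw [permHom_apply, vA_apply, vA_apply]
    simp only [hs0]
  · apply Subtype.ext
    funext i
    rw [permHom_apply, wA_apply, wA_apply]
    simp only [hs1]
  · apply Subtype.ext
    funext i
    rw [permHom_apply, xA_apply, xA_apply]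
    simp only [hs0, hs1]

theorem K3_eq : stabIn (stabIn (stabIn Co0 vA) wA) xA = m22S.map permHom := by
  symm
  have hc := card_stab_triple vA wA xA sqNorm_vA sqNorm_wA dot_vA_wA xA_mem
  have : Finite ↥(stabIn (stabIn (stabIn Co0 vA) wA) xA) :=
    Nat.finite_of_card_ne_zero (by rw [hc]; norm_num)
  apply Subgroup.eq_of_le_of_card_ge permHom_m22_le
  rw [hc, Subgroup.card_map_of_injective permHom_injective]
  exact (Cfsg.Agent.S0378.result (pt 0) (pt 1) pt01).ge

theorem K3_simple : IsSimpleGroup ↥(stabIn (stabIn (stabIn Co0 vA) wA) xA) := by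
  rw [K3_eq]
  have : IsSimpleGroup ↥m22S := Cfsg.Agent.S0379.result (pt 0) (pt 1) pt01
  exact (Subgroup.equivMapOfInjective m22S permHom permHom_injective).symm.isSimpleGroup

/-! ### Simplicity for the base pair -/

theorem base_simple : IsSimpleGroup ↥(stabIn (stabIn Co0 vA) wA) := by
  have hv := sqNorm_vA
  have hw := sqNorm_wA
  have hvw := dot_vA_wA
  have hx := xA_mem
  obtain ⟨h22, h77, ht22, ht77⟩ := rank3_100 vA wA xA hv hw hvw hx
  have hcard := card_stab_pair vA wA hv hw hvw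
  have h100 := trans100 vA wA hv hw hvw
  have : Finite ↥(stabIn (stabIn Co0 vA) wA) :=
    Nat.finite_of_card_ne_zero (by rw [hcard]; norm_num)
  have hxx : dotInt xA.1 xA.1 = 32 := by decide +kernel
  refine simple_of_rank3 (stabIn (stabIn Co0 vA) wA) (X100 vA wA) xA hx ?_ ?_ ?_ h100.1
    (A22 vA wA xA) (A77 vA wA xA) ?_ h22 h77 ?_ ?_ ?_ ?_ ?_ hcard K3_simple
  · -- invariance
    intro h hh y hy
    rw [mem_stabIn, mem_stabIn] at hh
    have := X100_map h hh.1.1 vA wA y hy
    rwa [hh.1.2, hh.2] at this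
  · -- transitivity
    intro y hy
    obtain ⟨g, hg, hgv, hgw, hgx⟩ := h100.2 xA hx y hy
    exact ⟨g, mem_stabIn.mpr ⟨mem_stabIn.mpr ⟨hg, hgv⟩, hgw⟩, hgx⟩
  · -- faithfulness
    intro h hh hfix
    rw [mem_stabIn, mem_stabIn] at hh
    exact eq_one_of_fix h hh.1.1 hh.1.2 hh.2 (hfix xA hx) (fun j hj => hfix _ (yA_mem j hj))
  · -- decomposition
    ext y
    simp only [Set.mem_union, Set.mem_singleton_iff, A22, A77, Set.mem_ofPred_eq]
    constructor
    · intro hy
      by_cases e : y = xA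
      · exact Or.inl (Or.inl e)
      by_cases d : dotInt xA.1 y.1 = 8
      · exact Or.inl (Or.inr ⟨hy, d⟩)
      · exact Or.inr ⟨hy, e, d⟩
    · rintro ((rfl | h) | h)
      · exact hx
      · exact h.1
      · exact h.1
  · -- x ∉ Δ
    intro h
    have := h.2
    rw [hxx] at this
    norm_num at this
  · -- x ∉ Γ
    intro h
    exact h.2.1 rfl
  · -- disjoint
    intro y hy hy'
    exact hy'.2.2 hy.2
  · intro y hy y' hy'
    obtain ⟨g, hg, hgv, hgw, hgx, hgy⟩ := ht22 y hy y' hy'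
    exact ⟨g, mem_stabIn.mpr ⟨mem_stabIn.mpr ⟨hg, hgv⟩, hgw⟩, hgx, hgy⟩
  · intro y hy y' hy'
    obtain ⟨g, hg, hgv, hgw, hgx, hgy⟩ := ht77 y hy y' hy'
    exact ⟨g, mem_stabIn.mpr ⟨mem_stabIn.mpr ⟨hg, hgv⟩, hgw⟩, hgx, hgy⟩

/-! ### The general pair -/

theorem pair_simple (v w : leechLattice) (hv : sqNorm v.1 = 48) (hw : sqNorm w.1 = 48)
    (hvw : dotInt v.1 w.1 = -32) : IsSimpleGroup ↥(stabIn (stabIn Co0 v) w) := by
  obtain ⟨g, hg, rfl, rfl⟩ := pair_trans48 vA wA v w sqNorm_vA sqNorm_wA dot_vA_wA hv hw hvw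
  rw [stab_conj g hg]
  have := base_simple
  exact (Subgroup.equivMapOfInjective (stabIn (stabIn Co0 vA) wA) (MulAut.conj g).toMonoidHom
    (MulAut.conj g).injective).symm.isSimpleGroup

theorem isHS_stab (v w : leechLattice) (hv : sqNorm v.1 = 48) (hw : sqNorm w.1 = 48)
    (hvw : dotInt v.1 w.1 = -32) :
    IsHS ↥(MulAction.stabilizer Co0 v ⊓ MulAction.stabilizer Co0 w) := by
  have e := Subgroup.equivMapOfInjective (MulAction.stabilizer Co0 v ⊓ MulAction.stabilizer Co0 w)
    Co0.subtype Co0.subtype_injective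
  rw [stab_map_subtype] at e
  have := pair_simple v w hv hw hvw
  exact ⟨e.isSimpleGroup, by rw [Nat.card_congr e.toEquiv, card_stab_pair v w hv hw hvw]⟩

end Cfsg.Agent.Helper27.HS
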