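import Cfsg.Agent.Lib.Helper7.Co3Simple
import Cfsg.Agent.Lib.Helper27.HSc

/-!
# The stabiliser of a minimal vector of the Leech lattice is simple

We use the self-centralising element of order 23 (helper7's criterion).  The only prime power
dividing the group order that is `1` modulo `23` is `2 ^ 11`; a normal subgroup of that kind
is excluded by the simple subgroup of order `44352000`.
-/

set_option autoImplicit false

namespace Cfsg.Agent.Helper27.Co2
open Cfsg Cfsg.Agent.Helper7 Cfsg.Agent.Helper91 Cfsg.Agent.Helper92
open Subgroup

/-! ### A generic lemma on normal subgroups of order prime to `p` -/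

section Generic

variable {G : Type*} [Group G] [Finite G] {p : ℕ} [Fact p.Prime]

/-- If a Sylow `p`-subgroup of order `p` is self-centralising and `N` is a normal subgroup of order
prime to `p`, every Sylow subgroup of `N` has order `1` modulo `p`. -/
theorem sylow_pow_mod_one (P : Sylow p G) (hP : Nat.card P = p)
    (hC : centralizer ((P : Subgroup G) : Set G) ≤ P)
    (N : Subgroup G) [N.Normal] (hN : ¬ p ∣ Nat.card N) (r : ℕ) (hr : r.Prime)
    (hrN : r ∣ Nat.card N) : r ^ (Nat.card N).factorization r % p = 1 := by
  have hp : p.Prime := Fact.out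
  have : Fact r.Prime := ⟨hr⟩
  have hrp : r ≠ p := fun h => hN (h ▸ hrN)
  let R : Sylow r N := default
  set Q : Subgroup G := (R : Subgroup N).map N.subtype with hQ
  have hfrat : normalizer (Q : Set G) ⊔ N = ⊤ := Sylow.normalizer_sup_eq_top R
  have hQcard : Nat.card Q = r ^ (Nat.card N).factorization r := by
    rw [← Sylow.card_eq_multiplicity R]
    exact (Nat.card_congr
      ((R : Subgroup N).equivMapOfInjective N.subtype N.subtype_injective).toEquiv).symm
  set k := (Nat.card N).factorization r with hk
  -- `p` divides the order of the normaliser of `Q`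
  have hpG : p ∣ Nat.card G := hP ▸ Subgroup.card_subgroup_dvd_card (P : Subgroup G)
  have hpidx : p ∣ N.index := by
    have := Subgroup.card_mul_index N
    rw [← this] at hpG
    exact ((Nat.Prime.dvd_mul hp).mp hpG).resolve_left hN
  have hidx : N.index = N.relIndex (normalizer (Q : Set G)) := by
    rw [← relIndex_top_right, ← hfrat, relIndex_sup_right]
  have hpNQ : p ∣ Nat.card (normalizer (Q : Set G)) := by
    rw [hidx] at hpidx
    exact hpidx.trans (relIndex_dvd_card _ _)
  obtain ⟨y', hy'⟩ := exists_prime_orderOf_dvd_card' p hpNQ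
  have hy : orderOf (y' : G) = p := by rw [Subgroup.orderOf_coe]; exact hy'
  have hynorm : (y' : G) ∈ normalizer (Q : Set G) := y'.2
  have hzn : ∀ z ∈ zpowers (y' : G), ∀ q ∈ Q, z * q * z⁻¹ ∈ Q := by
    intro z hz q hq
    have : z ∈ normalizer (Q : Set G) := (zpowers_le.mpr hynorm) hz
    exact (mem_normalizer_iff.mp this q).mp hq
  let act : MulAction (zpowers (y' : G)) Q :=
    { smul := fun z q => ⟨z.1 * q.1 * z.1⁻¹, hzn z.1 z.2 q.1 q.2⟩
      one_smul := fun q => Subtype.ext (by
        show (1 : G) * q.1 * (1 : G)⁻¹ = q.1
        simp)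
      mul_smul := fun a b q => Subtype.ext (by
        show (a.1 * b.1) * q.1 * (a.1 * b.1)⁻¹ = a.1 * (b.1 * q.1 * b.1⁻¹) * a.1⁻¹
        group) }
  have hpg : IsPGroup p (zpowers (y' : G)) :=
    IsPGroup.of_card (n := 1) (by rw [Nat.card_zpowers, hy, pow_one])
  have hmod := hpg.card_modEq_card_fixedPoints Q
  have hfix : Nat.card (MulAction.fixedPoints (zpowers (y' : G)) Q) = 1 := by
    rw [Nat.card_eq_one_iff_unique]
    constructor
    · constructor
      have hone : ∀ q : MulAction.fixedPoints (zpowers (y' : G)) Q, (q.1 : G) = 1 := by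
        intro q
        have hq := q.2 ⟨(y' : G), mem_zpowers _⟩
        have hq' : (y' : G) * q.1.1 * (y' : G)⁻¹ = q.1.1 := congrArg Subtype.val hq
        have hcomm : q.1.1 * (y' : G) = (y' : G) * q.1.1 := by
          calc q.1.1 * (y' : G) = ((y' : G) * q.1.1 * (y' : G)⁻¹) * (y' : G) := by rw [hq']
            _ = (y' : G) * q.1.1 := by group
        have hmem := mem_zpowers_of_commute P hP hC (y' : G) hy q.1.1 hcomm
        have ho1 : orderOf (q.1.1 : G) ∣ p := by
          have h := orderOf_dvd_natCard (⟨q.1.1, hmem⟩ : zpowers (y' : G))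
          rw [Nat.card_zpowers, hy] at h
          rwa [← Subgroup.orderOf_coe] at h
        have ho2 : orderOf (q.1.1 : G) ∣ r ^ k := by
          have h := orderOf_dvd_natCard (q.1 : Q)
          rw [hQcard] at h
          rwa [← Subgroup.orderOf_coe] at h
        have hco : Nat.Coprime p (r ^ k) :=
          Nat.Coprime.pow_right k ((Nat.coprime_primes hp hr).mpr (Ne.symm hrp))
        have : orderOf (q.1.1 : G) = 1 := Nat.eq_one_of_dvd_coprimes hco ho1 ho2
        exact orderOf_eq_one_iff.mp this
      intro a b
      apply Subtype.ext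
      apply Subtype.ext
      rw [hone a, hone b]
    · refine ⟨⟨1, ?_⟩⟩
      intro z
      apply Subtype.ext
      show z.1 * (1 : G) * z.1⁻¹ = 1
      simp
  rw [hfix, hQcard] at hmod
  unfold Nat.ModEq at hmod
  rw [hmod, Nat.mod_eq_of_lt hp.one_lt]

end Generic

/-! ### The base vector and the element of order 23 -/

theorem b32c_none : b32c.1 none = -3 := rfl

theorem b32c_some (t : ZMod 23) : b32c.1 (some t) = 1 := by
  show oddVec (some t) = 1
  unfold oddVec
  rw [if_neg (Option.some_ne_none t)]

theorem sqNorm_b32c : sqNorm b32c.1 = 32 := by decide +kernel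

theorem g23_fix_b32c : g23 b32c = b32c := by
  apply Subtype.ext
  funext i
  unfold g23
  rw [permL_val]
  cases i with
  | none => rw [gShift_symm_none]
  | some t => rw [gShift_symm_some, b32c_some, b32c_some]

/-- The centraliser of the translation in the stabiliser of the base vector. -/
theorem cent23_b32c (h : Equiv.Perm leechLattice) (hh : h ∈ Co0) (hu : h b32c = b32c)
    (hcomm : h * g23 = g23 * h) : ∃ k : ℕ, h = g23 ^ k := by
  have hgf : g23 (frameVec none) = frameVec none := by
    unfold g23
    rw [permL_frame]
    rfl
  have hy : g23 (h (frameVec none)) = h (frameVec none) := by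
    have := congrArg (fun g : Equiv.Perm leechLattice => g (frameVec none)) hcomm
    simp only [Equiv.Perm.mul_apply, hgf] at this
    exact this.symm
  have hconst := const_of_g23_fix _ hy
  have hnorm : sqNorm (h (frameVec none)).1 = 64 := by rw [hh.2, sqNorm_frameVec]
  rw [sqNorm_const _ hconst] at hnorm
  obtain ⟨hb, ha⟩ := arith64 _ _ hnorm
  have hf : h (frameVec none) = frameVec none ∨ h (frameVec none) = -frameVec none := by
    rcases ha with ha | ha
    · left
      apply Subtype.ext
      funext i
      rw [frameVec_val]
      cases i with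
      | none => rw [ha, Pi.single_eq_same]
      | some t => rw [hconst t, hb, Pi.single_eq_of_ne (by simp)]
    · right
      apply Subtype.ext
      funext i
      rw [AddSubgroup.coe_neg, Pi.neg_apply, frameVec_val]
      cases i with
      | none => rw [ha, Pi.single_eq_same]
      | some t => rw [hconst t, hb, Pi.single_eq_of_ne (by simp)]; simp
  obtain ⟨σ, hσ, ε, hε, hform⟩ := mono_form h hh hf
  have hu' : ∀ i, ε i * b32c.1 (σ.symm i) = b32c.1 i := by
    intro i
    rw [← hform, hu]
  have hσnone : σ.symm none = none := by
    by_contra hne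
    obtain ⟨t, ht⟩ := Option.ne_none_iff_exists'.mp hne
    have := hu' none
    rw [ht, b32c_some, b32c_none] at this
    rcases hε none with h1 | h1 <;> rw [h1] at this <;> norm_num at this
  have hε1 : ∀ i, ε i = 1 := by
    intro i
    cases i with
    | none =>
      have := hu' none
      rw [hσnone, b32c_none] at this
      rcases hε none with h1 | h1
      · exact h1
      · rw [h1] at this
        norm_num at this
    | some t =>
      have hne : σ.symm (some t) ≠ none := by
        intro h0
        have := σ.symm.injective (h0.trans hσnone.symm)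
        exact Option.some_ne_none t this
      obtain ⟨t', ht'⟩ := Option.ne_none_iff_exists'.mp hne
      have := hu' (some t)
      rw [ht', b32c_some, b32c_some] at this
      rcases hε (some t) with h1 | h1
      · exact h1
      · rw [h1] at this
        norm_num at this
  have hperm : h = permL σ hσ := by
    apply Equiv.ext
    intro x
    apply Subtype.ext
    funext i
    rw [hform, hε1, one_mul, permL_val]
  have hcomm' : σ * gShift = gShift * σ := by
    apply permL_injective _ _ (M24.mul_mem hσ shift_mem) (M24.mul_mem shift_mem hσ)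
    rw [permL_mul _ _ hσ shift_mem, permL_mul _ _ shift_mem hσ, ← hperm]
    exact hcomm
  have hσn : σ none = none := by
    have := σ.apply_symm_apply none
    rwa [hσnone] at this
  obtain ⟨k0, hk0⟩ : ∃ k0 : ZMod 23, σ (some 0) = some k0 := by
    apply Option.ne_none_iff_exists'.mp
    intro h0
    have := σ.injective (h0.trans hσn.symm)
    exact Option.some_ne_none _ this
  have hcommk : ∀ n : ℕ, σ * gShift ^ n = gShift ^ n * σ := by
    intro n
    exact (Commute.pow_right (show Commute σ gShift from hcomm') n).eq
  have hσeq : σ = gShift ^ k0.val := by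
    apply Equiv.ext
    intro i
    cases i with
    | none => rw [hσn, gShift_pow_none]
    | some t =>
      have h1 : (some t : GolayPt) = (gShift ^ t.val) (some 0) := by
        rw [gShift_pow_some, zero_add, ZMod.natCast_zmod_val]
      rw [h1]
      have h2 := congrArg (fun g : Equiv.Perm GolayPt => g (some 0)) (hcommk t.val)
      simp only [Equiv.Perm.mul_apply] at h2
      rw [h2, hk0, gShift_pow_some, gShift_pow_some, gShift_pow_some, ZMod.natCast_zmod_val,
        ZMod.natCast_zmod_val]
      congr 1
      ring
  refine ⟨k0.val, ?_⟩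
  rw [hperm]
  unfold g23
  rw [← permL_pow]
  exact permL_congr hσeq _ _

/-- the element of order 23 in the stabiliser of the base vector -/
def g23C : ↥(MulAction.stabilizer ↥Co0 b32c) :=
  ⟨⟨g23, g23_mem⟩, by rw [MulAction.mem_stabilizer_iff]; exact g23_fix_b32c⟩

theorem orderOf_g23C : orderOf g23C = 23 := by
  have : Fact (Nat.Prime 23) := ⟨by norm_num⟩
  apply orderOf_eq_prime
  · apply Subtype.ext
    apply Subtype.ext
    show ((g23C ^ 23 : ↥(MulAction.stabilizer ↥Co0 b32c)) : ↥Co0).1 = 1
    rw [SubgroupClass.coe_pow, SubgroupClass.coe_pow]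
    exact g23_pow23
  · intro h
    apply g23_ne_one
    exact congrArg (fun x : ↥(MulAction.stabilizer ↥Co0 b32c) => x.1.1) h

end Cfsg.Agent.Helper27.Co2
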