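import Cfsg.Agent.Lib.Helper27.Co2a

/-!
# The stabiliser of a minimal vector of the Leech lattice is simple (continued)
-/

set_option autoImplicit false

namespace Cfsg.Agent.Helper27.Co2
open Cfsg Cfsg.Agent.Helper7 Cfsg.Agent.Helper91 Cfsg.Agent.Helper92
open Subgroup

/-! ### Arithmetic -/

theorem prime_cases_co2 (r : ℕ) (hr : r.Prime)
    (h : r ∣ 2 ^ 18 * 3 ^ 6 * 5 ^ 3 * 7 * 11 * 23) :
    r = 2 ∨ r = 3 ∨ r = 5 ∨ r = 7 ∨ r = 11 ∨ r = 23 := by
  rcases (Nat.Prime.dvd_mul hr).mp h with h | h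
  · rcases (Nat.Prime.dvd_mul hr).mp h with h | h
    · rcases (Nat.Prime.dvd_mul hr).mp h with h | h
      · rcases (Nat.Prime.dvd_mul hr).mp h with h | h
        · rcases (Nat.Prime.dvd_mul hr).mp h with h | h
          · left
            exact (Nat.prime_dvd_prime_iff_eq hr Nat.prime_two).mp (hr.dvd_of_dvd_pow h)
          · right; left
            exact (Nat.prime_dvd_prime_iff_eq hr Nat.prime_three).mp (hr.dvd_of_dvd_pow h)
        · right; right; left
          exact (Nat.prime_dvd_prime_iff_eq hr Nat.prime_five).mp (hr.dvd_of_dvd_pow h)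
      · right; right; right; left
        exact (Nat.prime_dvd_prime_iff_eq hr (by norm_num)).mp h
    · right; right; right; right; left
      exact (Nat.prime_dvd_prime_iff_eq hr (by norm_num)).mp h
  · right; right; right; right; right
    exact (Nat.prime_dvd_prime_iff_eq hr (by norm_num)).mp h

theorem arith_co2 : ∀ r a : ℕ, r.Prime → 0 < a → r ^ a ∣ 42305421312000 → r ^ a % 23 = 1 →
    r = 2 ∧ a = 11 := by
  intro r a hr ha hdvd hmod
  have hfac : (42305421312000 : ℕ) = 2 ^ 18 * 3 ^ 6 * 5 ^ 3 * 7 * 11 * 23 := by norm_num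
  have hr_dvd : r ∣ 2 ^ 18 * 3 ^ 6 * 5 ^ 3 * 7 * 11 * 23 :=
    hfac ▸ (dvd_pow_self r ha.ne').trans hdvd
  rcases prime_cases_co2 r hr hr_dvd with rfl | rfl | rfl | rfl | rfl | rfl
  · have ha' : a ≤ 18 := by
      by_contra hlt
      rw [not_le] at hlt
      have : 2 ^ 19 ∣ 42305421312000 := (pow_dvd_pow 2 hlt).trans hdvd
      norm_num at this
    interval_cases a <;> first | exact ⟨rfl, rfl⟩ | norm_num at hmod
  · have ha' : a ≤ 6 := by
      by_contra hlt
      rw [not_le] at hlt
      have : 3 ^ 7 ∣ 42305421312000 := (pow_dvd_pow 3 hlt).trans hdvd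
      norm_num at this
    interval_cases a <;> norm_num at hmod
  · have ha' : a ≤ 3 := by
      by_contra hlt
      rw [not_le] at hlt
      have : 5 ^ 4 ∣ 42305421312000 := (pow_dvd_pow 5 hlt).trans hdvd
      norm_num at this
    interval_cases a <;> norm_num at hmod
  · have ha' : a ≤ 1 := by
      by_contra hlt
      rw [not_le] at hlt
      have : 7 ^ 2 ∣ 42305421312000 := (pow_dvd_pow 7 hlt).trans hdvd
      norm_num at this
    interval_cases a <;> norm_num at hmod
  · have ha' : a ≤ 1 := by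
      by_contra hlt
      rw [not_le] at hlt
      have : 11 ^ 2 ∣ 42305421312000 := (pow_dvd_pow 11 hlt).trans hdvd
      norm_num at this
    interval_cases a <;> norm_num at hmod
  · have ha' : a ≤ 1 := by
      by_contra hlt
      rw [not_le] at hlt
      have : 23 ^ 2 ∣ 42305421312000 := (pow_dvd_pow 23 hlt).trans hdvd
      norm_num at this
    interval_cases a <;> norm_num at hmod

theorem arith_co2b : ∀ e k : ℕ, e ∣ 23 - 1 → 42305421312000 = 23 * e * (23 * k + 1) → e = 11 := by
  intro e k he h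
  have hle : e ≤ 22 := Nat.le_of_dvd (by norm_num) he
  interval_cases e <;> omega

/-! ### The simple subgroup of order 44352000 -/

def wL2 : List ℤ :=
  [-1, -3, -1, -1, -3, -3, 1, 1, 1, 1, 1, 1, -1, 1, -1, -1, -1, 1, -1, -1, -1, -1, -1, 1]

theorem wL2_mem : vecOf wL2 ∈ leechLattice := vecOf_mem wL2 1 8245261 (by decide +kernel)

def wA2 : leechLattice := ⟨vecOf wL2, wL2_mem⟩

def wB2 : leechLattice := -(b32c + wA2)

theorem sqNorm_wA2 : sqNorm wA2.1 = 48 := by decide +kernel

theorem dot_b32c_wA2 : dotInt b32c.1 wA2.1 = -16 := by decide +kernel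

theorem sqNorm_wB2 : sqNorm wB2.1 = 48 := by
  show sqNorm (-(b32c.1 + wA2.1)) = 48
  rw [Helper7.sqNorm_neg, sqNorm_add, sqNorm_b32c, sqNorm_wA2, dot_b32c_wA2]
  norm_num

theorem dot_wA2_wB2 : dotInt wA2.1 wB2.1 = -32 := by
  show dotInt wA2.1 (-(b32c.1 + wA2.1)) = -32
  rw [dotInt_neg_right, dotInt_add_right, dotInt_self, sqNorm_wA2, dotInt_comm, dot_b32c_wA2]
  norm_num

/-- the joint stabiliser of the two vectors of norm 48 -/
def hsK : Subgroup ↥Co0 := MulAction.stabilizer ↥Co0 wA2 ⊓ MulAction.stabilizer ↥Co0 wB2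

theorem hsK_le : hsK ≤ MulAction.stabilizer ↥Co0 b32c := by
  intro g hg
  rw [hsK, Subgroup.mem_inf, MulAction.mem_stabilizer_iff, MulAction.mem_stabilizer_iff] at hg
  rw [MulAction.mem_stabilizer_iff]
  have h1 : g.1 wA2 = wA2 := hg.1
  have h2 : g.1 wB2 = wB2 := hg.2
  have hb : b32c = -(wA2 + wB2) := by
    unfold wB2
    abel
  show g.1 b32c = b32c
  have h3 : g.1 (-(wA2 + wB2)) = -(wA2 + wB2) := by
    rw [co0_neg g.1 g.2, g.2.1, h1, h2]
  rw [← hb] at h3
  exact h3

/-! ### Simplicity -/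

/-- The stabiliser of the base vector `(1, ..., 1, -3)` is simple. -/
theorem co2_simple_base : IsSimpleGroup ↥(MulAction.stabilizer ↥Co0 b32c) := by
  have : Fact (Nat.Prime 23) := ⟨by norm_num⟩
  have hcard := card_stab32 b32c sqNorm_b32c
  have : Finite ↥(MulAction.stabilizer ↥Co0 b32c) :=
    Nat.finite_of_card_ne_zero (by rw [hcard]; norm_num)
  have hnd : ¬ 23 ^ 2 ∣ Nat.card ↥(MulAction.stabilizer ↥Co0 b32c) := by
    rw [hcard]
    norm_num
  obtain ⟨P, hPcard, hPeq'⟩ := exists_sylow_zpowers g23C orderOf_g23C hnd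
  have hPeq : Subgroup.zpowers g23C = (P : Subgroup _) := hPeq'.symm
  have hC : Subgroup.centralizer ((P : Subgroup ↥(MulAction.stabilizer ↥Co0 b32c)) : Set _) ≤
      (P : Subgroup ↥(MulAction.stabilizer ↥Co0 b32c)) := by
    intro x hx
    rw [← hPeq]
    have hxg : g23C * x = x * g23C := by
      rw [Subgroup.mem_centralizer_iff] at hx
      exact hx g23C (hPeq ▸ Subgroup.mem_zpowers g23C)
    obtain ⟨k, hk⟩ := cent23_b32c x.1.1 x.1.2 (MulAction.mem_stabilizer_iff.mp x.2) (by
      have := congrArg (fun y : ↥(MulAction.stabilizer ↥Co0 b32c) => y.1.1) hxg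
      exact this.symm)
    rw [Subgroup.mem_zpowers_iff]
    refine ⟨k, ?_⟩
    apply Subtype.ext
    apply Subtype.ext
    rw [zpow_natCast]
    show ((g23C ^ k : ↥(MulAction.stabilizer ↥Co0 b32c)) : ↥Co0).1 = x.1.1
    rw [SubgroupClass.coe_pow, SubgroupClass.coe_pow]
    exact hk.symm
  apply simple_of_sylow_prime P hPcard hC _ 11 (by norm_num) _ _
  · -- every nontrivial normal subgroup has order divisible by 23
    intro N hNn hbot
    by_contra h23
    have hcardN : Nat.card N ≠ 1 := fun h => hbot (Subgroup.card_eq_one.mp h)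
    obtain ⟨r, hr, hrN⟩ := Nat.exists_prime_and_dvd hcardN
    have key : ∀ r : ℕ, r.Prime → r ∣ Nat.card N →
        r = 2 ∧ (Nat.card N).factorization r = 11 := by
      intro r hr hrN
      have h1 := sylow_pow_mod_one P hPcard hC N h23 r hr hrN
      have hk0 : 0 < (Nat.card N).factorization r :=
        Nat.Prime.factorization_pos_of_dvd hr Nat.card_pos.ne' hrN
      have hdvd : r ^ (Nat.card N).factorization r ∣ 42305421312000 := by
        rw [← hcard]
        exact (Nat.ordProj_dvd _ _).trans (Subgroup.card_subgroup_dvd_card N)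
      exact arith_co2 r _ hr hk0 hdvd h1
    obtain ⟨rfl, h11⟩ := key r hr hrN
    have h2048 : 2 ^ 11 ∣ Nat.card N := by
      rw [← h11]
      exact Nat.ordProj_dvd _ _
    -- the simple subgroup
    obtain ⟨hKs, hKc⟩ := HS.isHS_stab wA2 wB2 sqNorm_wA2 sqNorm_wB2 dot_wA2_wB2
    have hKs' : IsSimpleGroup ↥hsK := hKs
    let e := Subgroup.subgroupOfEquivOfLe hsK_le
    have hKcard : Nat.card ↥(hsK.subgroupOf (MulAction.stabilizer ↥Co0 b32c)) = 44352000 := by
      rw [Nat.card_congr e.toEquiv]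
      exact hKc
    have hKsimple : IsSimpleGroup ↥(hsK.subgroupOf (MulAction.stabilizer ↥Co0 b32c)) :=
      e.isSimpleGroup
    have hnorm : (N.subgroupOf (hsK.subgroupOf (MulAction.stabilizer ↥Co0 b32c))).Normal :=
      inferInstance
    rcases hnorm.eq_bot_or_eq_top with hb | ht
    · -- the subgroup meets `N` trivially
      rw [Subgroup.subgroupOf_eq_bot] at hb
      have hinj : Function.Injective ((QuotientGroup.mk' N).comp
          (hsK.subgroupOf (MulAction.stabilizer ↥Co0 b32c)).subtype) := by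
        rw [injective_iff_map_eq_one]
        intro x hx
        have hxN : (x : ↥(MulAction.stabilizer ↥Co0 b32c)) ∈ N :=
          (QuotientGroup.eq_one_iff (x : ↥(MulAction.stabilizer ↥Co0 b32c))).mp hx
        have h1 : (x : ↥(MulAction.stabilizer ↥Co0 b32c)) ∈ (⊥ : Subgroup _) :=
          hb.le_bot ⟨hxN, x.2⟩
        exact Subtype.ext (Subgroup.mem_bot.mp h1)
      have hdvd := Subgroup.card_dvd_of_injective _ hinj
      have hq := Subgroup.card_eq_card_quotient_mul_card_subgroup N
      rw [hKcard] at hdvd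
      obtain ⟨a, ha⟩ := hdvd
      obtain ⟨b, hb'⟩ := h2048
      rw [hcard, ha, hb'] at hq
      have hdiv : 44352000 * 2 ^ 11 ∣ 42305421312000 := ⟨a * b, by rw [hq]; ring⟩
      norm_num at hdiv
    · rw [Subgroup.subgroupOf_eq_top] at ht
      have h5 : 5 ∣ Nat.card N := by
        have := Subgroup.card_dvd_of_le ht
        rw [hKcard] at this
        exact (by norm_num : 5 ∣ 44352000).trans this
      have := (key 5 (by norm_num) h5).1
      norm_num at this
  · rw [hcard]
    exact arith_co2b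
  · rw [hcard]
    norm_num

/-- The stabiliser of a vector of norm 32 is simple. -/
theorem co2_simple (v : leechLattice) (hv : sqNorm v.1 = 32) :
    IsSimpleGroup ↥(MulAction.stabilizer ↥Co0 v) := by
  obtain ⟨k, hk, hkv⟩ := co0_trans32 b32c v sqNorm_b32c hv
  have e := MulAction.stabilizerEquivStabilizer (G := ↥Co0) (g := ⟨k, hk⟩) (a := b32c) (b := v)
    hkv.symm
  have := co2_simple_base
  exact e.symm.isSimpleGroup

end Cfsg.Agent.Helper27.Co2
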