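import Mathlib
import Cfsg.Prelude.Def_SporadicCombinatorics
import Cfsg.Agent.Lib.Helper27.Trans

set_option autoImplicit false
set_option maxRecDepth 1000000

namespace Cfsg.Agent.Helper27

open Cfsg
open scoped Pointwise

theorem pt_mem_toFinset {m i : ℕ} (hi : i < 24) : pt i ∈ toFinset m ↔ m.testBit i = true := by
  rw [mem_toFinset, idx_pt hi]

theorem pt_injective {i j : ℕ} (hi : i < 24) (hj : j < 24) (h : pt i = pt j) : i = j := by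
  rw [← idx_pt hi, ← idx_pt hj, h]

/-- From the action on singletons to the action on points. -/
theorem apply_pt_of_smul {g : Equiv.Perm GolayPt} {i j : ℕ} (hi : i < 24) (hj : j < 24)
    (h : g • toFinset (2 ^ i) = toFinset (2 ^ j)) : g (pt i) = pt j := by
  rw [toFinset_two_pow hi, toFinset_two_pow hj, smul_singleton_pt, Finset.singleton_inj] at h
  exact h

theorem reach_pair {base : List ℕ} {a b c e : ℕ} (h : Reach base [a, b] [c, e]) :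
    ∃ g ∈ stabOf base, g • toFinset a = toFinset c ∧ g • toFinset b = toFinset e := by
  obtain ⟨g, hg, hx⟩ := h
  refine ⟨g, hg, ?_⟩
  simp only [List.map_cons, List.map_nil, List.cons.injEq, and_true] at hx
  exact ⟨hx.1.symm, hx.2.symm⟩

/-- Ordered pairs of distinct point indices, coded as `24 * a + b`. -/
def pairCodes : List ℕ := (List.range 576).filter fun c => c / 24 != c % 24

def pairWords : List (List ℕ) :=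
  [[], [2], [6,3], [2,2], [0,2,5,5,1], [6], [4,5,1,4], [3,5], [3,6], [2,2,0,4,0], [4,0,0,0,4], [3],
   [5,2], [4,6,1,4], [0,6,2,2,1], [3,5,2], [3,4,6,1,4], [5], [2,1,4,1,2], [2,1,4,1,5], [2,1,4,1],
   [4,0,0,4], [1,4,1], [0,0,2,5,1], [0], [2,0], [5,1,4], [2,2,0], [0,2,5,5], [6,0], [0,3,3,5],
   [3,5,0], [3,6,0], [6,3,1,4], [0,0,2,5,3], [3,0], [5,2,0], [2,2,1,4], [0,6,2,2], [0,6,6,1],
   [0,0,6,3,3], [5,0], [3,6,1,4], [5,2,1,4], [2,1,4], [1,4], [2,1,4,0], [0,0,2,5], [0,0], [0,2],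
   [5,1,4,0], [2,0,2], [0,2,5,5,0], [6,0,0], [0,2,6,3], [2,2,0,2], [3,6,0,0], [0,5,5,3], [0,0,6,3],
   [3,0,0], [5,0,2], [0,2,2,5], [5,0,6,6], [0,6,6], [1,5,3,1,6], [5,0,0], [2,1,3,4], [0,5,5,1,1],
   [1,3,4], [0,5,5,1], [0,2,5,3], [0,6,3], [0,0,0], [0,2,0], [0,3,3,3], [0,2,0,6], [3,0,6,3],
   [6,0,0,0], [0,2,0,6,6], [0,2,6,1,5], [0,6,6,2,1], [0,0,5,3], [0,0,6,3,0], [3,0,0,0], [5,0,2,0],
   [0,2,6,1], [0,0,0,6], [0,6,6,0], [0,2,0,5,5], [0,2,0,5], [1,5,0,4], [1,3,4,0], [0,2,5,1,1],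
   [0,5,5], [0,6,1,1], [0,0,6], [0,0,0,0], [0,0,2], [5,0,2,2], [0,2,2], [0,3,5,3], [0,3,3,1,1],
   [1,6,0,2,4], [2,0,2,2], [0,6,6,2], [1,6,1,5], [5,0,2,6], [6,0,0,2], [5,0,0,2], [0,2,6],
   [0,0,0,6,0], [0,6,0,5,1], [5,0,0,6], [1,2,6,1], [1,3,3,4], [1,2,6], [0,2,5,1], [0,0,5,1],
   [0,6,1], [0,0,6,0], [0,0,0,0,0], [0,0,2,0], [5,1,1,6], [0,2,2,0], [5,0,6,1], [0,3,3,1],
   [0,5,0,4,1], [2,1,5,2], [0,5,1,6,2], [0,4,5,2], [3,0,0,5,1], [5,1,2,6], [6,1,1,6], [1,1,6],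
   [0,4,1,6], [0,6,0,5], [5,1,5,2], [1,4,6,1], [0,5,5,1,2], [1,2,6,0], [0,2,5], [0,0,5], [0,6],
   [0,0,6,0,0], [2,2,0,6], [0,0,0,2], [3,0,3,3], [6,0,6], [5,0,6], [0,3,3], [0,5,0,4], [0,2,0,6,2],
   [5,0,2,5], [3,0,6], [3,0,0,5], [2,0,3,3], [2,1,4,6], [1,1,6,0], [0,4,1,6,0], [1,5,3,1], [1,4,6],
   [1,5,3], [1,5,1,4], [1,5,0,2], [0,2,5,0], [0,0,5,0], [0,6,0], [0,2,5,1,6], [1,6,0,3,5],
   [2,1,5,3], [0,0,2,0,6], [0,3,0,4], [5,0,6,0], [0,3,3,0], [1,3,1,5], [0,2,2,2,1], [2,1,5,2,6],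
   [0,3,5,1], [0,0,6,0,6], [1,2,1,3,5], [2,1,4,6,0], [0,4,5,3], [6,1,5,3], [1,4,6,0], [3,0,3,6,1],
   [1,2,1,4], [0,5,3,1], [0,3,6,3,6], [3,0,3,5], [0,3,6,1], [0,0,6,2], [0,5,2,5,1], [2,0,3,5],
   [0,0,0,0,2], [0,6,2,6,1], [0,0,2,2], [0,2,6,2], [0,3,3,0,0], [6,0,3,5], [0,2,2,2], [2,2,0,3,5],
   [0,3,5], [0,5,2,1,5], [5,0,3,5], [1,2,6,1,2], [1,6,0,4], [1,2,4,5], [1,4,6,1,4], [3,0,3,6],
   [0,0,5,2,6], [0,5,3], [0,4,5,1,5], [5,0,3,6], [0,3,6], [0,0,6,2,0], [0,5,2,5], [1,1,2,1,3],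
   [1,6,1,3], [0,6,2,6], [2,0,5,3], [1,5,1,5], [0,6,1,4], [2,0,3,6], [0,0,6,0,4], [0,2,5,2,6],
   [0,3,5,0], [1,6,1,2,5], [1,3,1,1], [0,2,5,1,4], [1,2,4,6], [1,2,5,3], [1,3,3,1,4], [0,2,5,1,2],
   [0,2,5,0,6], [0,5,3,0], [0,4,1,5,5], [0,6,1,2], [0,3,6,0], [0,0,6,0,2], [0,4,6,0,3], [1,2,1,3],
   [1,6,0,3], [6,1,3,1], [0,0,4,1], [1,1,6,2], [0,2,4,1], [1,1,5,5], [1,6,0,5], [5,1,3,1],
   [1,1,1,5], [1,3,1,6,3], [1,3,1], [1,2,4,1,1], [1,3], [6,3,1,3], [2,1,6,6], [5,0,2,4], [3,6,1,3],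
   [1,1,2,6], [5,2,1,3], [0,6,2,1], [5,0,0,4], [1,5,0,3,6], [0,5,0,6], [2,1,3], [2,2,1,3], [6,1,3],
   [0,0,4], [1,1,5,1,6], [0,2,4], [3,0,0,4], [2,0,2,4], [5,1,3], [0,5,1,5], [5,1,6,6], [1,2,4,1],
   [0,6,3,3,1], [0,3], [5,1,2,4], [0,5,3,5], [0,2,5,2], [3,6,0,3], [0,0,5,2], [5,2,0,3], [0,6,2],
   [3,0,6,2], [5,1,1,4], [0,5,2,1], [2,0,3], [2,2,0,3], [6,0,3], [0,0,4,0], [6,1,1,4], [3,0,3],
   [1,6,0,4,6], [6,0,6,2], [5,0,3], [5,0,6,2], [1,2,4], [0,5,5,1,3], [0,6,3,3], [0,3,0], [0,5,3,6],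
   [0,0,2,6,2], [0,2,5,2,0], [2,0,5,2], [0,0,5,2,0], [2,0,3,6,6], [0,6,0,4], [5,1,5,1],
   [0,3,5,0,6], [0,5,2], [0,2,0,3], [0,2,0,6,3], [6,0,3,0], [2,1,5,1], [0,4,5,1], [3,0,3,0],
   [6,1,5,1], [1,6,1,2], [1,5,1], [1,2,4,0], [1,5], [1,6,1,4], [0,0,6,0,3], [0,3,0,0], [0,5,3,6,0],
   [3,0,4,5], [6,3,1,5], [0,5,1,6], [5,2,1,5], [6,0,4,5], [0,6,0,2], [5,1,5], [0,2,5,1,3],
   [0,5,2,0], [2,0,4,5], [3,6,1,5], [0,3,3,1,3], [2,1,5], [0,4,5], [3,0,3,0,0], [6,1,5], [1,6,2,1],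
   [1,2,4,0,0], [1,6,2], [1,5,0], [0,0,5,0,3], [0,3,0,6,1], [0,2,6,1,4], [5,1,6,2], [1,5,0,6],
   [0,0,4,5,2], [0,5,1,6,0], [0,2,0,4], [0,4,5,0,5], [0,4,6,2], [2,1,6,2], [0,2,0,4,6], [0,5,0,2],
   [2,0,4,5,0], [0,0,0,4], [1,5,0,5], [1,1,2,2], [0,4,5,0], [0,4,5,0,6], [6,1,5,0], [0,5,5,1,4],
   [6,1,5,0,0], [1,3,1,4], [1,5,0,0], [0,3,6,3], [0,3,0,6], [1,6,1,2,6], [0,5,3,1,5], [1,5,0,6,0],
   [0,0,2,2,5], [0,5,2,6], [0,2,0,4,0], [3,0,3,0,6], [0,0,6,2,2], [0,3,5,2], [0,0,4,6,1],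
   [0,5,0,2,0], [0,5,3,0,4], [0,0,0,4,0], [1,5,1,6], [1,1,2,2,0], [0,3,5,0,3], [1,3,3,1],
   [1,2,4,0,6], [1,3,3], [0,0,2,6,1], [1,6,0,2], [0,3,0,0,5], [2,1,5,5], [0,5,1], [2,1,3,3],
   [6,1,3,3], [3,0,5,1], [2,1,3,6], [5,1,3,3], [0,2,2,6,1], [2,1,2,5,2], [0,4,6,0,2], [0,2,4,6],
   [0,0,4,6], [0,5,0,0,2], [0,4,1,1,2], [0,0,2,4], [0,2,2,4], [1,2,1,2], [0,4,5,5], [1,4,5,1],
   [0,4,5,5,0], [0,2,6,6], [0,0,2,6], [2,0,5], [0,6,1,1,6], [6,0,5], [0,5], [3,6,0,5], [5,1,1,2,1],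
   [3,0,5], [0,2,4,5,1], [1,5,1,3], [0,2,2,6], [5,1,6,1], [2,1,4,5], [0,2,4,6,0], [0,4,6,1],
   [5,2,0,5], [0,4,1,2,1], [1,1,2,1], [2,2,0,5], [1,6,1], [1,4,5], [1,6], [1,5,3,1,4], [5,0,4,6],
   [2,2,1,6], [2,0,5,0], [0,6,2,1,5], [2,1,6], [0,5,0], [2,1,3,5], [5,1,1,2], [3,0,4,6], [0,2,4,5],
   [1,5,0,3], [1,1,5,1], [5,1,6], [0,0,4,5], [6,0,4,6], [0,4,6], [1,3,1,6,1], [0,4,1,2], [1,1,2],
   [1,2,5,1], [1,4,5,0], [1,2,5], [1,6,0], [6,1,1,5], [6,1,1,1], [1,1,1,6,1], [0,0,4,1,2],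
   [2,1,2,5], [0,4,1,5], [0,5,0,0], [0,4,1,1], [5,1,2,1], [0,4,5,5,3], [0,2,4,5,0], [5,1,1,5],
   [1,1,5], [5,1,1,1], [0,0,4,5,0], [1,1,1,5,2], [0,4,6,0], [1,3,1,6], [1,1,1], [1,2,1],
   [1,4,5,0,0], [1,2], [1,2,5,0], [2,1,2], [0,6,1,5], [6,1,1], [1,1,1,6], [1,6,0,6], [2,0,3,4],
   [0,4,1,5,0], [0,5,0,0,0], [0,4,1], [5,1,2], [5,0,3,4], [0,4,1,1,6], [2,0,4,1], [0,5,0,3],
   [5,1,1], [0,2,4,5,3], [0,2,5,1,5], [1,2,1,6], [0,4,6,3], [1,1], [1,4,1,1,1], [1], [2,1],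
   [6,3,1], [2,2,1], [0,6,1,5,0], [6,1], [5,0,4], [3,0,4], [3,6,1], [2,2,0,4], [0,4,1,2,5], [0,4],
   [5,2,1], [6,0,4], [0,6,2,1,2], [2,0,4], [3,6,0,4], [5,1], [5,2,0,4], [0,2,4,5,5], [1,1,2,5],
   [0,4,6,3,0], [1,4,1,1], [4,0], [4,0,0], [4,0,0,0], [4,5,1,2], [3,4,6,1], [3,4,6], [2,4,0,3],
   [4,5,3], [2,4,0,5], [2,4,0,6], [2,4,1], [2,4], [2,4,0], [4,5,1], [4,5], [4,5,0], [2,2,4,1],
   [2,2,4], [4,6,1], [4,6], [3,4,1], [3,4], [4]]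

theorem pair_cert :
    certCheck gensM24 (fun _ => [2 ^ 0, 2 ^ 1]) (fun c => [2 ^ (c / 24), 2 ^ (c % 24)])
      pairCodes pairWords = true := by
  decide +kernel

/-- `M24` is transitive on ordered pairs of distinct points. -/
theorem pairs_transitive {p q : GolayPt} (hpq : p ≠ q) :
    ∃ h ∈ M24, h (pt 0) = p ∧ h (pt 1) = q := by
  have hp := idx_lt p
  have hq := idx_lt q
  have hne : idx p ≠ idx q := fun h => hpq (idx_injective h)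
  have hmem : 24 * idx p + idx q ∈ pairCodes := by
    unfold pairCodes
    rw [List.mem_filter, List.mem_range]
    refine ⟨by omega, ?_⟩
    have h1 : (24 * idx p + idx q) / 24 = idx p := by omega
    have h2 : (24 * idx p + idx q) % 24 = idx q := by omega
    rw [h1, h2]
    simpa using hne
  obtain ⟨g, hg, e1, e2⟩ := reach_pair (certCheck_spec gensM24_ok _ _ _ _ pair_cert _ hmem)
  have h1 : (24 * idx p + idx q) / 24 = idx p := by omega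
  have h2 : (24 * idx p + idx q) % 24 = idx q := by omega
  rw [h1] at e1
  rw [h2] at e2
  refine ⟨g, stabOf_nil_eq.mp hg, ?_, ?_⟩
  · rw [apply_pt_of_smul (by norm_num) hp e1, pt_idx]
  · rw [apply_pt_of_smul (by norm_num) hq e2, pt_idx]

end Cfsg.Agent.Helper27
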