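import Mathlib
import Cfsg.Prelude.Def_SporadicCombinatorics
import Cfsg.Agent.Lib.Helper27.Pairs

set_option autoImplicit false
set_option maxRecDepth 1000000

namespace Cfsg.Agent.Helper27

open Cfsg
open scoped Pointwise

/-- Codes `24 * j + i` with `i < j < 24` of the 276 duads. -/
def duadCodes : List ℕ := (List.range 576).filter fun c => decide (c % 24 < c / 24)

/-- The mask of the duad with code `c`. -/
def duadMask (c : ℕ) : ℕ := 2 ^ (c / 24) ||| 2 ^ (c % 24)

/-- The masks of the 276 duads. -/
def duadList : List ℕ := duadCodes.map duadMask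

theorem toFinset_duadMask {i j : ℕ} (hi : i < 24) (hj : j < 24) :
    toFinset (2 ^ i ||| 2 ^ j) = {pt i, pt j} := by
  rw [toFinset_or, toFinset_two_pow hi, toFinset_two_pow hj]
  rfl

theorem duadList_nodup : duadList.Nodup :=
  nodup_of_incrBy (fun m => m) _ (by decide +kernel)

theorem duadList_lt {m : ℕ} (hm : m ∈ duadList) : m < 2 ^ 24 := by
  have h : duadList.all (fun m => decide (m < 2 ^ 24)) = true := by decide +kernel
  rw [List.all_eq_true] at h
  simpa using h m hm

theorem duadList_pop {m : ℕ} (hm : m ∈ duadList) : pop m = 2 := by
  have h : duadList.all (fun m => pop m == 2) = true := by decide +kernel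
  rw [List.all_eq_true] at h
  simpa using h m hm

theorem card_eq_two_iff {t : Finset GolayPt} : t.card = 2 ↔ ∃ m ∈ duadList, t = toFinset m := by
  constructor
  · intro h
    obtain ⟨a, b, hab, rfl⟩ := Finset.card_eq_two.mp h
    have hne : idx a ≠ idx b := fun h => hab (idx_injective h)
    have ha := idx_lt a
    have hb := idx_lt b
    rcases Nat.lt_or_gt_of_ne hne with hlt | hlt
    · refine ⟨duadMask (24 * idx b + idx a), ?_, ?_⟩
      · unfold duadList
        rw [List.mem_map]
        refine ⟨24 * idx b + idx a, ?_, rfl⟩
        unfold duadCodes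
        rw [List.mem_filter, List.mem_range]
        have h1 : (24 * idx b + idx a) / 24 = idx b := by omega
        have h2 : (24 * idx b + idx a) % 24 = idx a := by omega
        rw [h1, h2]
        exact ⟨by omega, by simpa using hlt⟩
      · unfold duadMask
        have h1 : (24 * idx b + idx a) / 24 = idx b := by omega
        have h2 : (24 * idx b + idx a) % 24 = idx a := by omega
        rw [h1, h2, toFinset_duadMask hb ha, pt_idx, pt_idx, Finset.pair_comm]
    · refine ⟨duadMask (24 * idx a + idx b), ?_, ?_⟩
      · unfold duadList
        rw [List.mem_map]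
        refine ⟨24 * idx a + idx b, ?_, rfl⟩
        unfold duadCodes
        rw [List.mem_filter, List.mem_range]
        have h1 : (24 * idx a + idx b) / 24 = idx a := by omega
        have h2 : (24 * idx a + idx b) % 24 = idx b := by omega
        rw [h1, h2]
        exact ⟨by omega, by simpa using hlt⟩
      · unfold duadMask
        have h1 : (24 * idx a + idx b) / 24 = idx a := by omega
        have h2 : (24 * idx a + idx b) % 24 = idx b := by omega
        rw [h1, h2, toFinset_duadMask ha hb, pt_idx, pt_idx]
  · rintro ⟨m, hm, rfl⟩
    rw [card_toFinset, duadList_pop hm]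

end Cfsg.Agent.Helper27
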