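import Mathlib

set_option autoImplicit false

namespace Cfsg.Agent.Helper27

open scoped Pointwise

/-- A finite group of order `n!` acting faithfully on an `n`-element set (through a homomorphism
into its symmetric group) is isomorphic to the symmetric group of degree `n`. -/
theorem mulEquiv_perm_of_injective {G α : Type*} [Group G] [Finite G] [DecidableEq α]
    {n : ℕ} (T : Finset α) (hT : T.card = n) (φ : G →* Equiv.Perm {x // x ∈ T})
    (hinj : Function.Injective φ) (hcard : Nat.card G = n.factorial) :
    Nonempty (G ≃* Equiv.Perm (Fin n)) := by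
  have hcT : Fintype.card {x // x ∈ T} = n := by rw [Fintype.card_coe, hT]
  have hcP : Nat.card (Equiv.Perm {x // x ∈ T}) = n.factorial := by
    rw [Nat.card_eq_fintype_card, Fintype.card_perm, hcT]
  have hbij : Function.Bijective φ :=
    (Nat.bijective_iff_injective_and_card φ).mpr ⟨hinj, by rw [hcard, hcP]⟩
  exact ⟨(MulEquiv.ofBijective φ hbij).trans (Fintype.equivFinOfCardEq hcT).permCongrHom⟩

/-- The homomorphism from a subgroup-like family of permutations preserving a finite set `T` into
the symmetric group of `T`. -/
def restrictHom {G α : Type*} [Group G] [DecidableEq α] (ι : G →* Equiv.Perm α) (T : Finset α)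
    (hT : ∀ g : G, ∀ x, ι g x ∈ T ↔ x ∈ T) : G →* Equiv.Perm {x // x ∈ T} where
  toFun g := (ι g).subtypePerm (hT g)
  map_one' := by
    ext x
    simp
  map_mul' a b := by
    ext x
    simp only [map_mul, Equiv.Perm.subtypePerm_apply, Equiv.Perm.coe_mul, Function.comp]

theorem restrictHom_apply {G α : Type*} [Group G] [DecidableEq α] (ι : G →* Equiv.Perm α)
    (T : Finset α) (hT : ∀ g : G, ∀ x, ι g x ∈ T ↔ x ∈ T) (g : G) (x : {x // x ∈ T}) :
    ((restrictHom ι T hT g) x : α) = ι g x := rfl

end Cfsg.Agent.Helper27
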