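import Mathlib
import Cfsg.Prelude.Def_Spor_Mathieu
import Cfsg.Agent.Lib.Helper7.M24Order
import Cfsg.Agent.Lib.Helper7.M24Stab

/-!
# Generators and order of the Mathieu group `M23`

`M23` (the stabiliser of the extra point in `M24`) has order `10200960` and is generated by
the shift `gShift` and the permutation `cubeTwist`.
-/

set_option autoImplicit false

namespace Cfsg.Agent.Helper27.M23Gen

open Cfsg Cfsg.Agent.Helper7
open scoped Pointwise

theorem pt23 : pt 23 = (none : GolayPt) := rfl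

theorem shift_fix : gShift (none : GolayPt) = none :=
  tab_shift.fix 23 (by decide) (by decide)

theorem cubeTwist_fix : cubeTwist (none : GolayPt) = none :=
  tab_cubeTwist.fix 23 (by decide) (by decide)

theorem M23_eq : Cfsg.Spor.M23 = stabIn M24 (none : GolayPt) := rfl

theorem mem_M23 {g : Equiv.Perm GolayPt} : g ∈ Cfsg.Spor.M23 ↔ g ∈ M24 ∧ g none = none := by
  rw [M23_eq, mem_stabIn]

theorem shift_mem23 : gShift ∈ Cfsg.Spor.M23 := mem_M23.mpr ⟨shift_mem, shift_fix⟩

theorem cubeTwist_mem23 : cubeTwist ∈ Cfsg.Spor.M23 := mem_M23.mpr ⟨cubeTwist_mem, cubeTwist_fix⟩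

theorem card_M23 : Nat.card ↥Cfsg.Spor.M23 = 10200960 := by
  rw [M23_eq]; exact card_stab1 none

/-- Initial tables: the shift and the cube twist, with their inverses (the second slot, never
used by the straight-line program, is filled with the shift again). -/
def initTabs : List (List ℕ) := [lShift, lShift, lCubeTwist, lShiftInv, lCubeTwistInv]

theorem goodTabs_init' (H : Subgroup (Equiv.Perm GolayPt)) (h1 : gShift ∈ H)
    (h3 : cubeTwist ∈ H) : GoodTabs H initTabs := by
  intro l hl
  simp only [initTabs, List.mem_cons, List.not_mem_nil, or_false] at hl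
  rcases hl with rfl | rfl | rfl | rfl | rfl
  · exact ⟨_, h1, tab_shift, rfl⟩
  · exact ⟨_, h1, tab_shift, rfl⟩
  · exact ⟨_, h3, tab_cubeTwist, rfl⟩
  · exact ⟨_, H.inv_mem h1, tab_shift.inv (by decide), rfl⟩
  · exact ⟨_, H.inv_mem h3, tab_cubeTwist.inv (by decide), rfl⟩

theorem tabs1_sub : ∀ l ∈ m24Tabs1, l ∈ slpTabs m24Prog initTabs := by
  decide +kernel

theorem goodTabs1 (H : Subgroup (Equiv.Perm GolayPt)) (h1 : gShift ∈ H)
    (h3 : cubeTwist ∈ H) : GoodTabs H m24Tabs1 :=
  (goodTabs_slp m24Prog initTabs (goodTabs_init' H h1 h3)).subset tabs1_sub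

section
variable (H : Subgroup (Equiv.Perm GolayPt)) (h1 : gShift ∈ H) (h3 : cubeTwist ∈ H)
include h1 h3

theorem level1 : ∀ q ∈ m24Targets1, q < 24 ∧ ∃ g ∈ stabL H ([23].map pt), g (pt 0) = pt q :=
  reach_targets ((goodTabs1 H h1 h3).stabL [23]
    (by decide) (by decide)) 0 (by decide) m24Words1 m24Targets1 (by decide +kernel)

theorem level2 : ∀ q ∈ m24Targets2, q < 24 ∧ ∃ g ∈ stabL H ([23, 0].map pt), g (pt 1) = pt q :=
  reach_targets (((goodTabs1 H h1 h3).subset (tabs' := m24Tabs2) (by decide)).stabL [23, 0]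
    (by decide) (by decide)) 1 (by decide) m24Words2 m24Targets2 (by decide +kernel)

theorem level3 : ∀ q ∈ m24Targets3, q < 24 ∧ ∃ g ∈ stabL H ([23, 0, 1].map pt), g (pt 2) = pt q :=
  reach_targets (((goodTabs1 H h1 h3).subset (tabs' := m24Tabs3) (by decide)).stabL [23, 0, 1]
    (by decide) (by decide)) 2 (by decide) m24Words3 m24Targets3 (by decide +kernel)

theorem level4 : ∀ q ∈ m24Targets4, q < 24 ∧ ∃ g ∈ stabL H ([23, 0, 1, 2].map pt), g (pt 3) = pt q :=
  reach_targets (((goodTabs1 H h1 h3).subset (tabs' := m24Tabs4) (by decide)).stabL [23, 0, 1, 2]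
    (by decide) (by decide)) 3 (by decide) m24Words4 m24Targets4 (by decide +kernel)

theorem level5 : ∀ q ∈ m24Targets5, q < 24 ∧ ∃ g ∈ stabL H ([23, 0, 1, 2, 3].map pt), g (pt 5) = pt q :=
  reach_targets (((goodTabs1 H h1 h3).subset (tabs' := m24Tabs5) (by decide)).stabL [23, 0, 1, 2, 3]
    (by decide) (by decide)) 5 (by decide) m24Words5 m24Targets5 (by decide +kernel)

theorem level6 : ∀ q ∈ m24Targets6, q < 24 ∧ ∃ g ∈ stabL H ([23, 0, 1, 2, 3, 5].map pt), g (pt 4) = pt q :=
  reach_targets (((goodTabs1 H h1 h3).subset (tabs' := m24Tabs6) (by decide)).stabL [23, 0, 1, 2, 3, 5]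
    (by decide) (by decide)) 4 (by decide) m24Words6 m24Targets6 (by decide +kernel)

theorem m23_lower : 10200960 ≤ Nat.card H := by
  have s1 := lower_step H [23] 0 m24Targets1 23 (by decide) (level1 H h1 h3)
  have s2 := lower_step H [23, 0] 1 m24Targets2 22 (by decide) (level2 H h1 h3)
  have s3 := lower_step H [23, 0, 1] 2 m24Targets3 21 (by decide) (level3 H h1 h3)
  have s4 := lower_step H [23, 0, 1, 2] 3 m24Targets4 20 (by decide) (level4 H h1 h3)
  have s5 := lower_step H [23, 0, 1, 2, 3] 5 m24Targets5 3 (by decide) (level5 H h1 h3)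
  have s6 := lower_step H [23, 0, 1, 2, 3, 5] 4 m24Targets6 16 (by decide) (level6 H h1 h3)
  have s7 : 1 ≤ Nat.card ↥(stabL H (([23, 0, 1, 2, 3, 5] ++ [4]).map pt)) := Nat.card_pos
  have e0 : Nat.card ↥(stabL H (([23] : List ℕ).map pt)) ≤ Nat.card H := by
    apply Subgroup.card_le_of_le
    intro g hg
    exact (mem_stabL.mp hg).1
  simp only [List.nil_append, List.cons_append] at s1 s2 s3 s4 s5 s6 s7
  omega

end

/-- The shift and the cube twist generate `M23`. -/
theorem closure_eq_M23 : Subgroup.closure {gShift, cubeTwist} = Cfsg.Spor.M23 := by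
  have hle : Subgroup.closure {gShift, cubeTwist} ≤ Cfsg.Spor.M23 := by
    rw [Subgroup.closure_le]
    rintro x (rfl | rfl)
    · exact shift_mem23
    · exact cubeTwist_mem23
  have hcard := m23_lower (Subgroup.closure {gShift, cubeTwist})
    (Subgroup.subset_closure (by simp)) (Subgroup.subset_closure (by simp))
  apply Subgroup.eq_of_le_of_card_ge hle
  rw [card_M23]
  exact hcard

end Cfsg.Agent.Helper27.M23Gen
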