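import Mathlib
import Cfsg.Prelude.Def_KGroupFacts
import Cfsg.Agent.Lib.Helper7.Orbit

/-!
# Tools for showing that all automorphisms of an explicit permutation group are inner

Abstract part: twisting an automorphism by inner automorphisms, Sylow conjugacy for a subgroup of
prime order, reduction of the exponent.  Table part (on top of helper7's `Tab`): pointwise
evaluation of words, and the table of a permutation `g` with `g a g⁻¹ = a'` from the images of
orbit representatives.
-/

set_option autoImplicit false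

namespace Cfsg.Agent.Helper27.OutAut

open Cfsg

section Abstract

variable {G : Type*} [Group G]

/-- The automorphism is inner. -/
def Inner (φ : G ≃* G) : Prop := ∃ g : G, ∀ t, φ t = g * t * g⁻¹

/-- Follow an automorphism by a conjugation. -/
def tw (a : G) (φ : G ≃* G) : G ≃* G := φ.trans (MulAut.conj a)

theorem tw_apply (a : G) (φ : G ≃* G) (t : G) : tw a φ t = a * φ t * a⁻¹ := rfl

theorem inner_of_tw (a : G) (φ : G ≃* G) (h : Inner (tw a φ)) : Inner φ := by
  obtain ⟨g, hg⟩ := h
  refine ⟨a⁻¹ * g, fun t => ?_⟩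
  have := hg t
  rw [tw_apply] at this
  have h2 : φ t = a⁻¹ * (g * t * g⁻¹) * a := by rw [← this]; group
  rw [h2]; group

theorem inner_of_fix {S : Set G} (hS : Subgroup.closure S = ⊤) (φ : G ≃* G)
    (h : ∀ s ∈ S, φ s = s) : Inner φ := by
  refine ⟨1, fun t => ?_⟩
  have h1 : φ.toMonoidHom = MonoidHom.id G := MonoidHom.eq_of_eqOn_dense hS (fun s hs => h s hs)
  have h2 := congrArg (fun f : G →* G => f t) h1
  simpa using h2

theorem card_out_eq_one (h : ∀ φ : G ≃* G, Inner φ) : Nat.card (Cfsg.Out G) = 1 := by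
  show (Cfsg.Inn G).index = 1
  rw [Subgroup.index_eq_one, eq_top_iff]
  intro φ _
  obtain ⟨g, hg⟩ := h φ
  exact ⟨g, MulEquiv.ext (fun t => by rw [MulAut.conj_apply, hg])⟩

/-- A subgroup of prime order `p` is a Sylow subgroup when `p²` does not divide the group order. -/
theorem exists_sylow [Finite G] (p : ℕ) [Fact p.Prime] (m : ℕ) (hcard : Nat.card G = p * m)
    (hm : ¬ p ∣ m) (t : G) (ht : orderOf t = p) :
    ∃ Q : Sylow p G, (Q : Subgroup G) = Subgroup.zpowers t := by
  have hp : p.Prime := Fact.out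
  have hP : IsPGroup p (Subgroup.zpowers t) :=
    IsPGroup.of_card (n := 1) (by rw [Nat.card_zpowers, ht, pow_one])
  obtain ⟨Q, hQ⟩ := hP.exists_le_sylow
  refine ⟨Q, ?_⟩
  obtain ⟨n, hn⟩ := IsPGroup.iff_card.mp Q.isPGroup'
  have h1 : Nat.card (Q : Subgroup G) ∣ p * m := by
    rw [← hcard]; exact Subgroup.card_subgroup_dvd_card _
  have h2 : p ∣ Nat.card (Q : Subgroup G) := by
    have := Subgroup.card_dvd_of_le hQ
    rwa [Nat.card_zpowers, ht] at this
  have hn1 : n = 1 := by
    rw [hn] at h1 h2
    have hn0 : n ≠ 0 := by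
      rintro rfl
      rw [pow_zero, Nat.dvd_one] at h2
      exact hp.one_lt.ne' h2
    have hn2 : n < 2 := by
      by_contra hcon
      push Not at hcon
      have h3 : p ^ 2 ∣ p * m := (pow_dvd_pow p hcon).trans h1
      rw [pow_two] at h3
      exact hm ((Nat.mul_dvd_mul_iff_left hp.pos).mp h3)
    omega
  symm
  apply Subgroup.eq_of_le_of_card_ge hQ
  rw [hn, hn1, Nat.card_zpowers, ht, pow_one]

/-- After an inner twist, an automorphism maps an element of prime order `p` (with `p²` not
dividing the group order) to a power of itself. -/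
theorem exists_conj_pow [Finite G] (p : ℕ) [Fact p.Prime] (m : ℕ) (hcard : Nat.card G = p * m)
    (hm : ¬ p ∣ m) (t : G) (ht : orderOf t = p) (φ : G ≃* G) :
    ∃ g : G, ∃ k : ℕ, g * φ t * g⁻¹ = t ^ k := by
  have hp : p.Prime := Fact.out
  obtain ⟨Q, hQ⟩ := exists_sylow p m hcard hm t ht
  obtain ⟨Q', hQ'⟩ := exists_sylow p m hcard hm (φ t) (by rw [MulEquiv.orderOf_eq, ht])
  obtain ⟨g, hg⟩ := MulAction.exists_smul_eq G Q' Q
  have hmem : φ t ∈ (Q' : Subgroup G) := by rw [hQ']; exact Subgroup.mem_zpowers _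
  have h2 := Subgroup.smul_mem_pointwise_smul (φ t) (MulAut.conj g) (Q' : Subgroup G) hmem
  rw [← Sylow.coe_subgroup_smul, hg, hQ, MulAut.smul_def, MulAut.conj_apply,
    Subgroup.mem_zpowers_iff] at h2
  obtain ⟨k, hk⟩ := h2
  refine ⟨g, (k % (p : ℤ)).toNat, ?_⟩
  rw [← hk, ← zpow_natCast, Int.toNat_of_nonneg (Int.emod_nonneg _ (by exact_mod_cast hp.pos.ne'))]
  have := zpow_mod_orderOf t k
  rw [ht] at this
  exact this.symm

/-- Reduction of the exponent with an element normalising `⟨t⟩`. -/
theorem inner_of_pow (t ν : G) (r p : ℕ) (hp : 1 < p) (ht : orderOf t = p)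
    (hν : ν * t * ν⁻¹ = t ^ r)
    (harith : ∀ k < p, k ≠ 0 → ∃ j : ℕ, (r ^ j * k) % p = 1 ∨ (r ^ j * k) % p = p - 1)
    (hpm : ∀ φ : G ≃* G, (φ t = t ∨ φ t = t⁻¹) → Inner φ)
    (φ : G ≃* G) (k : ℕ) (hX : φ t = t ^ k) : Inner φ := by
  have hνj : ∀ j : ℕ, ν ^ j * t * (ν ^ j)⁻¹ = t ^ (r ^ j) := by
    intro j
    induction j with
    | zero => simp
    | succ j ih =>
      have : ν ^ (j + 1) * t * (ν ^ (j + 1))⁻¹ = ν * (ν ^ j * t * (ν ^ j)⁻¹) * ν⁻¹ := by
        rw [pow_succ']; group
      rw [this, ih, ← conj_pow, hν, ← pow_mul, pow_succ']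
  have ht1 : t ≠ 1 := by
    intro h
    rw [h, orderOf_one] at ht
    omega
  have hk0 : k % p ≠ 0 := by
    intro h
    have h1 : t ^ k = 1 := by
      rw [← pow_mod_orderOf, ht, h, pow_zero]
    rw [h1] at hX
    have : φ t = φ 1 := by rw [hX, map_one]
    exact ht1 (φ.injective this)
  obtain ⟨j, hj⟩ := harith (k % p) (Nat.mod_lt _ (by omega)) hk0
  have e : (r ^ j * k) % p = (r ^ j * (k % p)) % p := by
    rw [Nat.mul_mod, Nat.mul_mod (r ^ j) (k % p), Nat.mod_mod]
  rw [← e] at hj
  apply inner_of_tw (ν ^ j) φ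
  apply hpm
  have h1 : tw (ν ^ j) φ t = t ^ ((r ^ j * k) % p) := by
    rw [tw_apply, hX, ← conj_pow, hνj j, ← pow_mul]
    conv_rhs => rw [← ht, pow_mod_orderOf]
  rcases hj with h | h
  · left; rw [h1, h, pow_one]
  · right
    rw [h1, h]
    apply eq_inv_of_mul_eq_one_left
    rw [← pow_succ, Nat.sub_add_cancel (by omega), ← ht, pow_orderOf_eq_one]

end Abstract


section Tables

open Cfsg.Agent.Helper7

/-- Image of the point `p` under the product `t_{w₁} t_{w₂} ⋯ t_{wₖ}` of the listed tables. -/
def appW (tabs : List (List ℕ)) : List ℕ → ℕ → ℕ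
  | [], p => p
  | j :: w, p => (tabs.getD j idTab).getD (appW tabs w p) 0

theorem appW_spec (tabs : List (List ℕ)) (σ : ℕ → Equiv.Perm GolayPt)
    (hσ : ∀ j, Tab (σ j) (tabs.getD j idTab)) (w : List ℕ) (p : ℕ) (hp : p < 24) :
    appW tabs w p < 24 ∧ (w.map σ).prod (pt p) = pt (appW tabs w p) := by
  induction w with
  | nil => exact ⟨hp, rfl⟩
  | cons j w ih =>
    obtain ⟨h1, h2⟩ := ih
    refine ⟨(hσ j).lt _ h1, ?_⟩
    rw [List.map_cons, List.prod_cons, Equiv.Perm.mul_apply, h2, (hσ j).apply _ h1]
    rfl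

/-- The word is a relator for the tables. -/
def relOK (tabs : List (List ℕ)) (w : List ℕ) : Bool :=
  (List.range 24).all fun p => appW tabs w p == p

theorem relOK_of_prod_eq_one {tabs : List (List ℕ)} {σ : ℕ → Equiv.Perm GolayPt}
    (hσ : ∀ j, Tab (σ j) (tabs.getD j idTab)) {w : List ℕ} (h : (w.map σ).prod = 1) :
    relOK tabs w = true := by
  rw [relOK, List.all_eq_true]
  intro p hp
  rw [List.mem_range] at hp
  have h2 := (appW_spec tabs σ hσ w p hp).2
  rw [h, Equiv.Perm.one_apply] at h2
  have h3 := congrArg idx h2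
  rw [idx_pt p hp, idx_pt _ (appW_spec tabs σ hσ w p hp).1] at h3
  exact beq_iff_eq.mpr h3.symm

theorem prod_eq_one_of_relOK {tabs : List (List ℕ)} {σ : ℕ → Equiv.Perm GolayPt}
    (hσ : ∀ j, Tab (σ j) (tabs.getD j idTab)) {w : List ℕ} (h : relOK tabs w = true) :
    (w.map σ).prod = 1 := by
  apply Equiv.ext
  intro q
  have hq := idx_lt q
  have h1 := List.all_eq_true.mp h (idx q) (List.mem_range.mpr hq)
  have h2 := (appW_spec tabs σ hσ w (idx q) hq).2
  rw [beq_iff_eq.mp h1, pt_idx] at h2
  rw [h2, Equiv.Perm.one_apply]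

/-- Tables indexed by letters, from a list of permutations with tables. -/
theorem tab_getD {tabs : List (List ℕ)} {perms : List (Equiv.Perm GolayPt)}
    (h : List.Forall₂ Tab perms tabs) (j : ℕ) : Tab (perms.getD j 1) (tabs.getD j idTab) := by
  induction h generalizing j with
  | nil => simpa using tab_one
  | cons hab _ ih =>
    cases j with
    | zero => simpa using hab
    | succ j => simpa using ih j

/-! ### The table of a permutation intertwining two permutations -/

/-- Enter the values `v, a' v, a'² v, …` at the places `j, a j, a² j, …` (`n` of them). -/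
def fill (A A' : List ℕ) : ℕ → ℕ → ℕ → List ℕ → List ℕ
  | 0, _, _, T => T
  | n + 1, j, v, T => fill A A' n (A.getD j 0) (A'.getD v 0) (T.set j v)

/-- Every entry of `T` is the sentinel `99` or the correct value. -/
def Partial (g : Equiv.Perm GolayPt) (T : List ℕ) : Prop :=
  T.length = 24 ∧ ∀ j < 24, T.getD j 0 = 99 ∨ T.getD j 0 = idx (g (pt j))

theorem partial_init (g : Equiv.Perm GolayPt) : Partial g (List.replicate 24 99) := by
  refine ⟨List.length_replicate, ?_⟩
  intro j hj
  left
  rw [List.getD_eq_getElem _ _ (by rw [List.length_replicate]; exact hj), List.getElem_replicate]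

theorem Partial.set {g : Equiv.Perm GolayPt} {T : List ℕ} (hT : Partial g T) {j : ℕ} (hj : j < 24) :
    Partial g (T.set j (idx (g (pt j)))) := by
  refine ⟨by rw [List.length_set, hT.1], ?_⟩
  intro i hi
  have hi' : i < (T.set j (idx (g (pt j)))).length := by rw [List.length_set, hT.1]; exact hi
  have hi'' : i < T.length := by rw [hT.1]; exact hi
  rw [List.getD_eq_getElem _ _ hi', List.getElem_set]
  by_cases hij : j = i
  · rw [if_pos hij]
    right
    rw [hij]
  · rw [if_neg hij]
    have := hT.2 i hi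
    rwa [List.getD_eq_getElem _ _ hi''] at this

theorem fill_spec {g a a' : Equiv.Perm GolayPt} {A A' : List ℕ} (hA : Tab a A) (hA' : Tab a' A')
    (hg : ∀ p, g (a p) = a' (g p)) (n j : ℕ) (T : List ℕ) (hj : j < 24) (hT : Partial g T) :
    Partial g (fill A A' n j (idx (g (pt j))) T) := by
  induction n generalizing j T with
  | zero => exact hT
  | succ n ih =>
    rw [fill]
    have h1 : A'.getD (idx (g (pt j))) 0 = idx (g (pt (A.getD j 0))) := by
      rw [← hA.apply j hj, hg, hA']
    rw [h1]
    exact ih _ _ (hA.lt j hj) (hT.set hj)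

theorem tab_of_partial {g : Equiv.Perm GolayPt} {T : List ℕ} (hT : Partial g T)
    (hfull : ∀ j < 24, T.getD j 0 ≠ 99) : Tab g T := by
  intro p
  rcases hT.2 (idx p) (idx_lt p) with h | h
  · exact absurd h (hfull _ (idx_lt p))
  · rw [h, pt_idx]

/-- All tables obtained by choosing the images of the orbit representatives `(r, n)` (`n` the
orbit length). A representative fixed by `a` must go to a point fixed by `a'`. -/
def cands (A A' : List ℕ) : List (ℕ × ℕ) → List ℕ → List (List ℕ)
  | [], T => [T]
  | (r, n) :: rest, T => (List.range 24).flatMap fun c =>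
      if A.getD r 0 == r && !(A'.getD c 0 == c) then [] else cands A A' rest (fill A A' n r c T)

theorem cands_spec {g a a' : Equiv.Perm GolayPt} {A A' : List ℕ} (hA : Tab a A) (hA' : Tab a' A')
    (hg : ∀ p, g (a p) = a' (g p)) (reps : List (ℕ × ℕ)) (hreps : ∀ e ∈ reps, e.1 < 24)
    (T : List ℕ) (hT : Partial g T) : ∃ T' ∈ cands A A' reps T, Partial g T' := by
  induction reps generalizing T with
  | nil => exact ⟨T, List.mem_singleton.mpr rfl, hT⟩
  | cons e rest ih =>
    obtain ⟨r, n⟩ := e
    have hr : r < 24 := hreps (r, n) List.mem_cons_self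
    obtain ⟨T', hT', hp⟩ := ih (fun e he => hreps e (List.mem_cons_of_mem _ he))
      (fill A A' n r (idx (g (pt r))) T) (fill_spec hA hA' hg n r T hr hT)
    refine ⟨T', ?_, hp⟩
    rw [cands, List.mem_flatMap]
    refine ⟨idx (g (pt r)), List.mem_range.mpr (idx_lt _), ?_⟩
    have hguard : (A.getD r 0 == r && !(A'.getD (idx (g (pt r))) 0 == idx (g (pt r)))) = false := by
      rw [Bool.and_eq_false_iff]
      by_cases h : A.getD r 0 = r
      · right
        have h1 : a (pt r) = pt r := hA.fix r hr h
        have h2 : a' (g (pt r)) = g (pt r) := by rw [← hg, h1]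
        have h3 : A'.getD (idx (g (pt r))) 0 = idx (g (pt r)) := by
          rw [← hA', h2]
        rw [h3]
        simp
      · left
        exact beq_eq_false_iff_ne.mpr h
    rw [hguard]
    exact hT'

/-- No sentinel is left. -/
def isFull (T : List ℕ) : Bool := (List.range 24).all fun j => T.getD j 0 != 99

theorem isFull_spec {T : List ℕ} (h : isFull T = true) : ∀ j < 24, T.getD j 0 ≠ 99 := by
  intro j hj
  have := List.all_eq_true.mp h j (List.mem_range.mpr hj)
  exact bne_iff_ne.mp this

/-- The table of a permutation `g` with `g a = a' g` is among the candidates. -/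
theorem exists_cand {g a a' : Equiv.Perm GolayPt} {A A' : List ℕ} (hA : Tab a A) (hA' : Tab a' A')
    (hg : g * a = a' * g) (reps : List (ℕ × ℕ)) (hreps : ∀ e ∈ reps, e.1 < 24)
    (hfull : (cands A A' reps (List.replicate 24 99)).all isFull = true) :
    ∃ T ∈ cands A A' reps (List.replicate 24 99), Tab g T ∧ T.length = 24 := by
  have hg' : ∀ p, g (a p) = a' (g p) := by
    intro p
    have := congrArg (fun f : Equiv.Perm GolayPt => f p) hg
    simpa using this
  obtain ⟨T, hT, hp⟩ := cands_spec hA hA' hg' reps hreps _ (partial_init g)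
  exact ⟨T, hT, tab_of_partial hp (isFull_spec (List.all_eq_true.mp hfull T hT)), hp.1⟩

/-! ### Candidate tables by a direct formula -/

/-- Table of a power. -/
def powT (l : List ℕ) : ℕ → List ℕ
  | 0 => idTab
  | n + 1 => mulTab (powT l n) l

theorem powT_length (l : List ℕ) (hl : l.length = 24) (n : ℕ) : (powT l n).length = 24 := by
  cases n with
  | zero => rfl
  | succ n => rw [powT, mulTab_length, hl]

theorem powT_tab {σ : Equiv.Perm GolayPt} {l : List ℕ} (h : Tab σ l) (hl : l.length = 24) (n : ℕ) :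
    Tab (σ ^ n) (powT l n) := by
  induction n with
  | zero => rw [pow_zero]; exact tab_one
  | succ n ih => rw [pow_succ, powT]; exact ih.mul h hl

theorem mul_pow_of_mul {g a a' : Equiv.Perm GolayPt} (hg : g * a = a' * g) (i : ℕ) :
    g * a ^ i = a' ^ i * g := by
  induction i with
  | zero => simp
  | succ i ih => rw [pow_succ, ← mul_assoc, ih, mul_assoc, hg, ← mul_assoc, ← pow_succ]

/-- The candidate table: the point `p = aⁱ r` (with `info[p] = (k, i)`, `r` the `k`-th
representative) goes to `a'ⁱ c`, where `c` is the chosen image of `r` and `pw` lists the tables of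
the powers of `a'`. -/
def candTab (info : List (ℕ × ℕ)) (pw : List (List ℕ)) (cs : List ℕ) : List ℕ :=
  (List.range 24).map fun p =>
    (pw.getD (info.getD p (0, 0)).2 []).getD (cs.getD (info.getD p (0, 0)).1 0) 0

/-- The orbit information is correct. -/
def infoOK (A : List ℕ) (reps : List ℕ) (n : ℕ) (info : List (ℕ × ℕ)) : Bool :=
  (List.range 24).all fun p =>
    decide ((info.getD p (0, 0)).1 < reps.length) && decide ((info.getD p (0, 0)).2 < n) &&
    decide (reps.getD (info.getD p (0, 0)).1 0 < 24) &&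
    ((powT A (info.getD p (0, 0)).2).getD (reps.getD (info.getD p (0, 0)).1 0) 0 == p)

theorem candTab_length (info : List (ℕ × ℕ)) (pw : List (List ℕ)) (cs : List ℕ) :
    (candTab info pw cs).length = 24 := by
  rw [candTab, List.length_map, List.length_range]

theorem candTab_spec {g a a' : Equiv.Perm GolayPt} {A A' : List ℕ} (hA : Tab a A)
    (hAl : A.length = 24) (hA' : Tab a' A') (hA'l : A'.length = 24) (hg : g * a = a' * g)
    (reps : List ℕ) (n : ℕ) (info : List (ℕ × ℕ)) (hinfo : infoOK A reps n info = true) :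
    Tab g (candTab info ((List.range n).map (powT A')) (reps.map fun r => idx (g (pt r)))) := by
  intro q
  have hq := idx_lt q
  have h := List.all_eq_true.mp hinfo (idx q) (List.mem_range.mpr hq)
  simp only [Bool.and_eq_true, decide_eq_true_eq, beq_iff_eq] at h
  obtain ⟨⟨⟨hk, hi⟩, hr⟩, hp⟩ := h
  set k := (info.getD (idx q) (0, 0)).1 with hk_def
  set i := (info.getD (idx q) (0, 0)).2 with hi_def
  set r := reps.getD k 0 with hr_def
  have hqr : q = (a ^ i) (pt r) := by
    rw [(powT_tab hA hAl i).apply r hr, hp, pt_idx]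
  have h1 : g q = (a' ^ i) (g (pt r)) := by
    rw [hqr]
    have := congrArg (fun f : Equiv.Perm GolayPt => f (pt r)) (mul_pow_of_mul hg i)
    simpa using this
  have h2 : idx (g q) = (powT A' i).getD (idx (g (pt r))) 0 := by
    rw [h1, powT_tab hA' hA'l i]
  have e0 : (candTab info ((List.range n).map (powT A')) (reps.map fun r => idx (g (pt r)))).getD
      (idx q) 0 = (((List.range n).map (powT A')).getD i []).getD
        ((reps.map fun r => idx (g (pt r))).getD k 0) 0 := by
    rw [candTab, List.getD_eq_getElem _ _ (by rw [List.length_map, List.length_range]; exact hq),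
      List.getElem_map, List.getElem_range]
  have e1 : ((List.range n).map (powT A')).getD i [] = powT A' i := by
    rw [List.getD_eq_getElem _ _ (by rw [List.length_map, List.length_range]; exact hi),
      List.getElem_map, List.getElem_range]
  have e2 : (reps.map fun r => idx (g (pt r))).getD k 0 = idx (g (pt r)) := by
    rw [List.getD_eq_getElem _ _ (by rw [List.length_map]; exact hk), List.getElem_map, hr_def,
      List.getD_eq_getElem _ _ hk]
  rw [e0, e1, e2, h2]

/-- A point fixed by `a` goes to a point fixed by `a'`. -/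
theorem fixed_of_fixed {g a a' : Equiv.Perm GolayPt} {A A' : List ℕ} (hA : Tab a A)
    (hA' : Tab a' A') (hg : g * a = a' * g) {r : ℕ} (hr : r < 24) (h : A.getD r 0 = r) :
    A'.getD (idx (g (pt r))) 0 = idx (g (pt r)) := by
  have h1 : a (pt r) = pt r := hA.fix r hr h
  have h2 : a' (g (pt r)) = g (pt r) := by
    have := congrArg (fun f : Equiv.Perm GolayPt => f (pt r)) hg
    simp only [Equiv.Perm.mul_apply] at this
    rw [← this, h1]
  rw [← hA', h2]

end Tables

end Cfsg.Agent.Helper27.OutAut
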