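import Mathlib
import Cfsg.Agent.Lib.Helper7.M24Order
import Cfsg.Agent.Lib.Helper27.OutAut

/-!
# Data and permutation-level lemmas for the automorphisms of `M24` and `M23`
-/

set_option autoImplicit false
set_option maxRecDepth 1000000
open scoped Pointwise
open Cfsg

namespace Cfsg.Agent.Helper27.M24Aut

open Cfsg.Agent.Helper7 Cfsg.Agent.Helper27.OutAut

/-! ### Data -/

/-- `t ↦ 2t`. -/
def yL : List ℕ := [0, 2, 4, 6, 8, 10, 12, 14, 16, 18, 20, 22, 1, 3, 5, 7, 9, 11, 13, 15, 17, 19, 21, 23]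
/-- Its inverse. -/
def yiL : List ℕ := [0, 12, 1, 13, 2, 14, 3, 15, 4, 16, 5, 17, 6, 18, 7, 19, 8, 20, 9, 21, 10, 22, 11, 23]

def funOf (l : List ℕ) : GolayPt → GolayPt := fun p => pt (l.getD (idx p) 0)

def yP : Equiv.Perm GolayPt where
  toFun := funOf yL
  invFun := funOf yiL
  left_inv := by unfold Function.LeftInverse; decide
  right_inv := by unfold Function.RightInverse Function.LeftInverse; decide

theorem tab_y : Tab yP yL := by unfold Tab; decide
theorem tab_yi : Tab yP⁻¹ yiL := tab_y.inv (by decide)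
theorem tab_xi : Tab gShift⁻¹ lShiftInv := tab_shift.inv (by decide)

theorem y_mem : yP ∈ M24 := mem_M24_of_tab tab_y (by decide +kernel)

/-- Orbit information for `t ↦ 2t`: representatives `0, ∞, 1, 5`. -/
def infoY : List (ℕ × ℕ) := [(0, 0), (2, 0), (2, 1), (2, 8), (2, 2), (3, 0), (2, 9), (3, 9), (2, 3), (2, 5), (3, 1), (3, 4), (2, 10), (2, 7), (3, 10), (3, 8), (2, 4), (3, 3), (2, 6), (3, 7), (3, 2), (3, 6), (3, 5), (1, 0)]
def pwG : List (List ℕ) := [[0, 1, 2, 3, 4, 5, 6, 7, 8, 9, 10, 11, 12, 13, 14, 15, 16, 17, 18, 19, 20, 21, 22, 23],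
  [0, 12, 1, 13, 2, 14, 3, 15, 4, 16, 5, 17, 6, 18, 7, 19, 8, 20, 9, 21, 10, 22, 11, 23],
  [0, 6, 12, 18, 1, 7, 13, 19, 2, 8, 14, 20, 3, 9, 15, 21, 4, 10, 16, 22, 5, 11, 17, 23],
  [0, 3, 6, 9, 12, 15, 18, 21, 1, 4, 7, 10, 13, 16, 19, 22, 2, 5, 8, 11, 14, 17, 20, 23],
  [0, 13, 3, 16, 6, 19, 9, 22, 12, 2, 15, 5, 18, 8, 21, 11, 1, 14, 4, 17, 7, 20, 10, 23],
  [0, 18, 13, 8, 3, 21, 16, 11, 6, 1, 19, 14, 9, 4, 22, 17, 12, 7, 2, 20, 15, 10, 5, 23],
  [0, 9, 18, 4, 13, 22, 8, 17, 3, 12, 21, 7, 16, 2, 11, 20, 6, 15, 1, 10, 19, 5, 14, 23],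
  [0, 16, 9, 2, 18, 11, 4, 20, 13, 6, 22, 15, 8, 1, 17, 10, 3, 19, 12, 5, 21, 14, 7, 23],
  [0, 8, 16, 1, 9, 17, 2, 10, 18, 3, 11, 19, 4, 12, 20, 5, 13, 21, 6, 14, 22, 7, 15, 23],
  [0, 4, 8, 12, 16, 20, 1, 5, 9, 13, 17, 21, 2, 6, 10, 14, 18, 22, 3, 7, 11, 15, 19, 23],
  [0, 2, 4, 6, 8, 10, 12, 14, 16, 18, 20, 22, 1, 3, 5, 7, 9, 11, 13, 15, 17, 19, 21, 23]]
def pwD : List (List ℕ) := [[0, 1, 2, 3, 4, 5, 6, 7, 8, 9, 10, 11, 12, 13, 14, 15, 16, 17, 18, 19, 20, 21, 22, 23],
  [0, 8, 16, 1, 9, 17, 2, 10, 18, 3, 11, 19, 4, 12, 20, 5, 13, 21, 6, 14, 22, 7, 15, 23],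
  [0, 18, 13, 8, 3, 21, 16, 11, 6, 1, 19, 14, 9, 4, 22, 17, 12, 7, 2, 20, 15, 10, 5, 23],
  [0, 6, 12, 18, 1, 7, 13, 19, 2, 8, 14, 20, 3, 9, 15, 21, 4, 10, 16, 22, 5, 11, 17, 23],
  [0, 2, 4, 6, 8, 10, 12, 14, 16, 18, 20, 22, 1, 3, 5, 7, 9, 11, 13, 15, 17, 19, 21, 23],
  [0, 16, 9, 2, 18, 11, 4, 20, 13, 6, 22, 15, 8, 1, 17, 10, 3, 19, 12, 5, 21, 14, 7, 23],
  [0, 13, 3, 16, 6, 19, 9, 22, 12, 2, 15, 5, 18, 8, 21, 11, 1, 14, 4, 17, 7, 20, 10, 23],
  [0, 12, 1, 13, 2, 14, 3, 15, 4, 16, 5, 17, 6, 18, 7, 19, 8, 20, 9, 21, 10, 22, 11, 23],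
  [0, 4, 8, 12, 16, 20, 1, 5, 9, 13, 17, 21, 2, 6, 10, 14, 18, 22, 3, 7, 11, 15, 19, 23],
  [0, 9, 18, 4, 13, 22, 8, 17, 3, 12, 21, 7, 16, 2, 11, 20, 6, 15, 1, 10, 19, 5, 14, 23],
  [0, 3, 6, 9, 12, 15, 18, 21, 1, 4, 7, 10, 13, 16, 19, 22, 2, 5, 8, 11, 14, 17, 20, 23]]

def repsY : List ℕ := [0, 23, 1, 5]

theorem infoY_ok : infoOK yL repsY 11 infoY = true := by decide +kernel
theorem pwG_eq : (List.range 11).map (powT yiL) = pwG := by decide +kernel
theorem pwD_eq : (List.range 11).map (powT (powT yL 3)) = pwD := by decide +kernel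

/-! ### Boolean tests on tables -/

def sameT (l m : List ℕ) : Bool := (List.range 24).all fun i => l.getD i 0 == m.getD i 0

def injT (T : List ℕ) : Bool :=
  (List.range 24).all fun i => (List.range 24).all fun j => i == j || T.getD i 0 != T.getD j 0

theorem all_range {n : ℕ} {f : ℕ → Bool} (h : (List.range n).all f = true) {i : ℕ} (hi : i < n) :
    f i = true :=
  List.all_eq_true.mp h i (List.mem_range.mpr hi)

theorem sameT_spec {σ τ : Equiv.Perm GolayPt} {l m : List ℕ} (h1 : Tab σ l) (h2 : Tab τ m)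
    (h : sameT l m = true) : σ = τ := by
  apply Equiv.ext
  intro p
  apply idx_injective
  rw [h1, h2]
  exact beq_iff_eq.mp (all_range h (idx_lt p))

theorem injT_of_tab {σ : Equiv.Perm GolayPt} {T : List ℕ} (h : Tab σ T) : injT T = true := by
  rw [injT, List.all_eq_true]
  intro i hi
  rw [List.all_eq_true]
  intro j hj
  rw [List.mem_range] at hi hj
  rw [Bool.or_eq_true, beq_iff_eq, bne_iff_ne]
  by_cases hij : i = j
  · left; exact hij
  · right
    intro he
    apply hij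
    have h1 := h (pt i)
    have h2 := h (pt j)
    rw [idx_pt i hi] at h1
    rw [idx_pt j hj] at h2
    have h3 : idx (σ (pt i)) = idx (σ (pt j)) := by rw [h1, h2, he]
    have h4 := σ.injective (idx_injective h3)
    have h5 := congrArg idx h4
    rwa [idx_pt i hi, idx_pt j hj] at h5

/-! ### The three enumerations -/

def sentinel : List ℕ := List.replicate 24 99

/-- Candidates for the image of `y`. -/
def candsX : List (List ℕ) := cands lShift (mulTab lShift lShift) [(0, 23), (23, 1)] sentinel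

theorem fullX : candsX.all isFull = true := by decide +kernel

theorem chkX : candsX.all (fun T => !injT T ||
    (List.range 23).any fun b => sameT T (mulTab (powT lShift b) yL)) = true := by decide +kernel

def w3 : List ℕ := [0, 1, 0, 1, 0, 1]
def w6 : List ℕ := [0, 1, 0, 1, 0, 1, 0, 1, 0, 1, 0, 1]
def w5 : List ℕ := [0, 1, 1, 0, 1, 1, 0, 1, 1, 0, 1, 1, 0, 1, 1]

/-- Run a test over all candidate tables (images of `0`, `∞`, `1`, `5`; the first two must be
fixed by `A'`). -/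
def allCands (A' : List ℕ) (pw : List (List ℕ)) (P : List ℕ → Bool) : Bool :=
  (List.range 24).all fun c0 => !(A'.getD c0 0 == c0) ||
    (List.range 24).all fun c23 => !(A'.getD c23 0 == c23) ||
      (List.range 24).all fun c1 => (List.range 24).all fun c5 =>
        P (candTab infoY pw [c0, c23, c1, c5])

def v2 : List ℕ := [1, 1]
def v5 : List ℕ := [1, 1, 1, 1, 1]

def testG (T : List ℕ) : Bool :=
  !relOK [lShift, T] v2 ||
  ((!relOK [lShift, T] w3 || sameT T lProjInv) && (!relOK [lShiftInv, T] w3 || sameT T lProjInv))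

theorem chkG : allCands yiL pwG testG = true := by decide +kernel

def codeOK (T : List ℕ) : Bool := Nat.beq (encMask (pm T (genMask 1))) (pm T (genMask 1))

def testD (T : List ℕ) : Bool :=
  !relOK [lShift, T] v5 ||
  ((!(relOK [lShift, T] w6 && relOK [lShift, T] w5 && codeOK T) || sameT T lCubeTwist) &&
    !(relOK [lShiftInv, T] w6 && relOK [lShiftInv, T] w5 && codeOK T))

theorem chkD : allCands (powT yL 3) pwD testD = true := by decide +kernel

theorem rel2 : relOK [lShift, lProjInv] v2 = true := by decide +kernel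
theorem rel55 : relOK [lShift, lCubeTwist] v5 = true := by decide +kernel
theorem rel3 : relOK [lShift, lProjInv] w3 = true := by decide +kernel
theorem rel6 : relOK [lShift, lCubeTwist] w6 = true := by decide +kernel
theorem rel5 : relOK [lShift, lCubeTwist] w5 = true := by decide +kernel
theorem relYX : sameT (mulTab yL lShift) (mulTab (mulTab lShift lShift) yL) = true := by decide +kernel
theorem relGY : sameT (mulTab lProjInv yL) (mulTab yiL lProjInv) = true := by decide +kernel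
theorem relDY : sameT (mulTab lCubeTwist yL) (mulTab (powT yL 3) lCubeTwist) = true := by
  decide +kernel
theorem x_pow23 : sameT (powT lShift 23) idTab = true := by decide +kernel


/-! ### Specifications -/

theorem codeOK_of_mem {σ : Equiv.Perm GolayPt} {T : List ℕ} (hσ : σ ∈ M24) (hT : Tab σ T)
    (hl : T.length = 24) : codeOK T = true := by
  have h1 : ofMask (genMask 1) ∈ supports (golayCode : Set W) :=
    (ofMask_mem_iff _ (by decide)).mpr (by decide +kernel)
  have h2 := smul_mem_supports hσ h1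
  rw [smul_ofMask hT, ofMask_mem_iff _ (permMask_lt hT _), ← pm_eq T hl] at h2
  rw [codeOK, h2]
  exact Nat.beq_refl _

theorem allCands_spec {g a' : Equiv.Perm GolayPt} {A' : List ℕ} {pw : List (List ℕ)}
    {P : List ℕ → Bool} (hA' : Tab a' A') (hA'l : A'.length = 24) (hg : g * yP = a' * g)
    (hpw : (List.range 11).map (powT A') = pw) (h : allCands A' pw P = true) :
    ∃ T, Tab g T ∧ T.length = 24 ∧ P T = true := by
  have hT := candTab_spec tab_y rfl hA' hA'l hg repsY 11 infoY infoY_ok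
  rw [hpw] at hT
  refine ⟨_, hT, candTab_length _ _ _, ?_⟩
  rw [allCands] at h
  have h0 := all_range h (idx_lt (g (pt 0)))
  rw [fixed_of_fixed tab_y hA' hg (r := 0) (by norm_num) (by decide)] at h0
  simp only [beq_self_eq_true, Bool.not_true, Bool.false_or] at h0
  have h23 := all_range h0 (idx_lt (g (pt 23)))
  rw [fixed_of_fixed tab_y hA' hg (r := 23) (by norm_num) (by decide)] at h23
  simp only [beq_self_eq_true, Bool.not_true, Bool.false_or] at h23
  exact all_range (all_range h23 (idx_lt (g (pt 1)))) (idx_lt (g (pt 5)))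

theorem tabs2 {xe g : Equiv.Perm GolayPt} {Xt T : List ℕ} (hx : Tab xe Xt) (hT : Tab g T) (j : ℕ) :
    Tab ([xe, g].getD j 1) ([Xt, T].getD j idTab) :=
  tab_getD (List.Forall₂.cons hx (List.Forall₂.cons hT List.Forall₂.nil)) j

theorem relOK2 {xe g : Equiv.Perm GolayPt} {Xt T : List ℕ} (hx : Tab xe Xt) (hT : Tab g T)
    (w : List ℕ) (h : (w.map fun j => [xe, g].getD j 1).prod = 1) : relOK [Xt, T] w = true :=
  relOK_of_prod_eq_one (σ := fun j => [xe, g].getD j 1) (tabs2 hx hT) h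

theorem eq_of_conj_x {g : Equiv.Perm GolayPt} (hg : g * gShift = gShift ^ 2 * g) :
    ∃ b : ℕ, g = gShift ^ b * yP := by
  have hA' : Tab (gShift ^ 2) (mulTab lShift lShift) := by
    rw [pow_two]; exact tab_shift.mul tab_shift rfl
  obtain ⟨T, hT, hTt, _⟩ := exists_cand tab_shift hA' hg [(0, 23), (23, 1)] (by decide) fullX
  have h := List.all_eq_true.mp chkX T hT
  rw [injT_of_tab hTt] at h
  simp only [Bool.not_true, Bool.false_or] at h
  rw [List.any_eq_true] at h
  obtain ⟨b, _, hb⟩ := h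
  exact ⟨b, sameT_spec hTt ((powT_tab tab_shift rfl b).mul tab_y rfl) hb⟩

theorem lemmaG {g xe : Equiv.Perm GolayPt} (hx : xe = gShift ∨ xe = gShift⁻¹)
    (hg : g * yP = yP⁻¹ * g) (h2 : g * g = 1) (h3 : (xe * g) ^ 3 = 1) : g = projInv := by
  obtain ⟨T, hT, _, hP⟩ := allCands_spec tab_yi rfl hg pwG_eq chkG
  rw [testG] at hP
  have e2 : relOK [lShift, T] v2 = true := by
    apply relOK2 tab_shift hT
    simpa [v2] using h2
  rw [e2] at hP
  simp only [Bool.not_true, Bool.false_or, Bool.and_eq_true, Bool.or_eq_true,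
    Bool.not_eq_eq_eq_not] at hP
  rcases hx with rfl | rfl
  · have e3 : relOK [lShift, T] w3 = true := by
      apply relOK2 tab_shift hT
      simpa [w3, pow_succ, mul_assoc] using h3
    rcases hP.1 with h | h
    · rw [e3] at h; cases h
    · exact sameT_spec hT tab_projInv h
  · have e3 : relOK [lShiftInv, T] w3 = true := by
      apply relOK2 tab_xi hT
      simpa [w3, pow_succ, mul_assoc] using h3
    rcases hP.2 with h | h
    · rw [e3] at h; cases h
    · exact sameT_spec hT tab_projInv h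

theorem lemmaD {g xe : Equiv.Perm GolayPt} (hx : xe = gShift ∨ xe = gShift⁻¹) (hgm : g ∈ M24)
    (hg : g * yP = yP ^ 3 * g) (h5 : g ^ 5 = 1) (h6 : (xe * g) ^ 6 = 1)
    (h55 : (xe * g * g) ^ 5 = 1) : xe = gShift ∧ g = cubeTwist := by
  obtain ⟨T, hT, hTl, hP⟩ := allCands_spec (powT_tab tab_y rfl 3) (powT_length _ rfl 3) hg pwD_eq chkD
  rw [testD] at hP
  have e5 : relOK [lShift, T] v5 = true := by
    apply relOK2 tab_shift hT
    simpa [v5, pow_succ, mul_assoc] using h5
  have ec : codeOK T = true := codeOK_of_mem hgm hT hTl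
  rw [e5, ec] at hP
  simp only [Bool.not_true, Bool.false_or, Bool.and_eq_true, Bool.or_eq_true,
    Bool.not_eq_eq_eq_not, Bool.and_true] at hP
  rcases hx with rfl | rfl
  · have e6 : relOK [lShift, T] w6 = true := by
      apply relOK2 tab_shift hT
      simpa [w6, pow_succ, mul_assoc] using h6
    have e55 : relOK [lShift, T] w5 = true := by
      apply relOK2 tab_shift hT
      simpa [w5, pow_succ, mul_assoc] using h55
    rw [e6, e55] at hP
    rcases hP.1 with h | h
    · cases h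
    · exact ⟨rfl, sameT_spec hT tab_cubeTwist h⟩
  · have e6 : relOK [lShiftInv, T] w6 = true := by
      apply relOK2 tab_xi hT
      simpa [w6, pow_succ, mul_assoc] using h6
    have e55 : relOK [lShiftInv, T] w5 = true := by
      apply relOK2 tab_xi hT
      simpa [w5, pow_succ, mul_assoc] using h55
    rw [e6, e55] at hP
    simp at hP

end Cfsg.Agent.Helper27.M24Aut
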