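import Mathlib
import Cfsg.Agent.Lib.Helper27.M24Aut

/-!
# Relations between the standard elements of `M24` (for the automorphism statements)
-/

set_option autoImplicit false
open Cfsg

namespace Cfsg.Agent.Helper27.M24Aut

open Cfsg.Agent.Helper7 Cfsg.Agent.Helper27.OutAut

theorem x_pow23' : gShift ^ 23 = 1 := sameT_spec (powT_tab tab_shift rfl 23) tab_one x_pow23

theorem x_ne_one : gShift ≠ 1 := by
  intro h
  have h2 : gShift (pt 0) = pt 1 := tab_shift.apply 0 (by norm_num)
  rw [h] at h2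
  revert h2
  decide

theorem yx_rel : yP * gShift = gShift ^ 2 * yP := by
  rw [pow_two]
  exact sameT_spec (tab_y.mul tab_shift rfl) ((tab_shift.mul tab_shift rfl).mul tab_y rfl) relYX

theorem gy_rel : projInv * yP = yP⁻¹ * projInv :=
  sameT_spec (tab_projInv.mul tab_y rfl) (tab_yi.mul tab_projInv rfl) relGY

theorem dy_rel : cubeTwist * yP = yP ^ 3 * cubeTwist :=
  sameT_spec (tab_cubeTwist.mul tab_y rfl) ((powT_tab tab_y rfl 3).mul tab_cubeTwist rfl) relDY

theorem g_sq : projInv * projInv = 1 := by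
  have := prod_eq_one_of_relOK (σ := fun j => [gShift, projInv].getD j 1)
    (tabs2 tab_shift tab_projInv) rel2
  simpa [v2] using this

theorem xg_cube : (gShift * projInv) ^ 3 = 1 := by
  have := prod_eq_one_of_relOK (σ := fun j => [gShift, projInv].getD j 1)
    (tabs2 tab_shift tab_projInv) rel3
  simpa [w3, pow_succ, mul_assoc] using this

theorem d_pow5 : cubeTwist ^ 5 = 1 := by
  have := prod_eq_one_of_relOK (σ := fun j => [gShift, cubeTwist].getD j 1)
    (tabs2 tab_shift tab_cubeTwist) rel55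
  simpa [v5, pow_succ, mul_assoc] using this

theorem xd_pow6 : (gShift * cubeTwist) ^ 6 = 1 := by
  have := prod_eq_one_of_relOK (σ := fun j => [gShift, cubeTwist].getD j 1)
    (tabs2 tab_shift tab_cubeTwist) rel6
  simpa [w6, pow_succ, mul_assoc] using this

theorem xdd_pow5 : (gShift * cubeTwist * cubeTwist) ^ 5 = 1 := by
  have := prod_eq_one_of_relOK (σ := fun j => [gShift, cubeTwist].getD j 1)
    (tabs2 tab_shift tab_cubeTwist) rel5
  simpa [w5, pow_succ, mul_assoc] using this

/-- The arithmetic behind the reduction of the exponent. -/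
theorem arith23 : ∀ k < 23, k ≠ 0 → ∃ j : ℕ, (2 ^ j * k) % 23 = 1 ∨ (2 ^ j * k) % 23 = 23 - 1 := by
  intro k hk hk0
  have h : ∀ k < 23, k ≠ 0 → ∃ j < 11, (2 ^ j * k) % 23 = 1 ∨ (2 ^ j * k) % 23 = 22 := by decide
  obtain ⟨j, _, hj⟩ := h k hk hk0
  exact ⟨j, hj⟩

section Group

variable {G : Type*} [Group G]

/-- If `y x y⁻¹ = x²` and `y' = x^b y`, then conjugating `y'` by `x^b` gives `y`. -/
theorem conj_normalise {x y : G} (h : y * x = x ^ 2 * y) (b : ℕ) :
    x ^ b * (x ^ b * y) * (x ^ b)⁻¹ = y := by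
  have h1 : y * x * y⁻¹ = x ^ 2 := by rw [h]; group
  have h2 : y * x ^ b * y⁻¹ = x ^ b * x ^ b := by
    rw [← conj_pow, h1, ← pow_mul, two_mul, pow_add]
  have h3 : y * x ^ b = x ^ b * x ^ b * y := by
    rw [← h2]; group
  rw [mul_inv_eq_iff_eq_mul, h3, mul_assoc]

/-- The relation `y' x = x² y'` from its image under an automorphism sending `x` to `x⁻¹`. -/
theorem rel_of_inv {x y' : G} (h : y' * x⁻¹ = x⁻¹ ^ 2 * y') : y' * x = x ^ 2 * y' := by
  have h1 : y' = x⁻¹ ^ 2 * y' * x := mul_inv_eq_iff_eq_mul.mp h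
  conv_rhs => rw [h1]
  group

end Group

end Cfsg.Agent.Helper27.M24Aut
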