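import Mathlib
import Cfsg.Prelude.Def_Spor_Mathieu
import Cfsg.Agent.Lib.Helper27.M24Aut2
import Cfsg.Agent.Lib.Helper27.M23Gen

/-!
# Normalisers of the elements of order 23 and 11 in `M23`

Permutation-level lemmas: in `M24`, an element fixing the extra point and normalising the group
generated by the shift `x : t ↦ t+1` is `y^j x^b` (`y : t ↦ 2t`), and one normalising `⟨y⟩` is
`d^j y^b` (`d` the cube twist).
-/

set_option autoImplicit false
set_option maxRecDepth 1000000
open scoped Pointwise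
open Cfsg

namespace Cfsg.Agent.Helper27.Frob23

open Cfsg.Agent.Helper7 Cfsg.Agent.Helper27.OutAut Cfsg.Agent.Helper27.M24Aut
  Cfsg.Agent.Helper27.M23Gen

/-! ### Centraliser and inverters of the shift -/

/-- Candidates for a permutation commuting with the shift. -/
def candsC : List (List ℕ) := cands lShift lShift [(0, 23), (23, 1)] sentinel

theorem fullC : candsC.all isFull = true := by decide +kernel

theorem chkC : candsC.all (fun T => !injT T ||
    (List.range 23).any fun b => sameT T (powT lShift b)) = true := by decide +kernel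

/-- A permutation commuting with the shift is a power of it. -/
theorem comm_x {g : Equiv.Perm GolayPt} (hg : g * gShift = gShift * g) :
    ∃ b < 23, g = gShift ^ b := by
  obtain ⟨T, hT, hTt, _⟩ := exists_cand tab_shift tab_shift hg [(0, 23), (23, 1)] (by decide) fullC
  have h := List.all_eq_true.mp chkC T hT
  rw [injT_of_tab hTt] at h
  simp only [Bool.not_true, Bool.false_or] at h
  rw [List.any_eq_true] at h
  obtain ⟨b, hb1, hb⟩ := h
  exact ⟨b, List.mem_range.mp hb1, sameT_spec hTt (powT_tab tab_shift rfl b) hb⟩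

/-- All code words of the generating family go to code words. -/
def codesOK (T : List ℕ) : Bool :=
  (List.range 23).all fun j => Nat.beq (encMask (pm T (genMask j))) (pm T (genMask j))

theorem codesOK_of_mem {σ : Equiv.Perm GolayPt} {T : List ℕ} (hσ : σ ∈ M24) (hT : Tab σ T)
    (hl : T.length = 24) : codesOK T = true := by
  rw [codesOK, List.all_eq_true]
  intro j hj
  rw [List.mem_range] at hj
  have h1 : ofMask (genMask j) ∈ supports (golayCode : Set W) := by
    have : ∀ j < 23, encMask (genMask j) = genMask j := by decide +kernel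
    exact (ofMask_mem_iff _ (by
      have : ∀ j < 23, genMask j < 2 ^ 24 := by decide +kernel
      exact this j hj)).mpr (this j hj)
  have h2 := smul_mem_supports hσ h1
  rw [smul_ofMask hT, ofMask_mem_iff _ (permMask_lt hT _), ← pm_eq T hl] at h2
  rw [h2]
  exact Nat.beq_refl _

/-- Candidates for a permutation inverting the shift. -/
def candsI : List (List ℕ) := cands lShift lShiftInv [(0, 23), (23, 1)] sentinel

theorem fullI : candsI.all isFull = true := by decide +kernel

theorem chkI : candsI.all (fun T => !injT T || !codesOK T) = true := by decide +kernel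

/-- No element of `M24` inverts the shift. -/
theorem inv_x {g : Equiv.Perm GolayPt} (hgm : g ∈ M24) (hg : g * gShift = gShift⁻¹ * g) :
    False := by
  obtain ⟨T, hT, hTt, hTl⟩ := exists_cand tab_shift tab_xi hg [(0, 23), (23, 1)] (by decide) fullI
  have h := List.all_eq_true.mp chkI T hT
  rw [injT_of_tab hTt, codesOK_of_mem hgm hTt hTl] at h
  simp at h

/-! ### Centraliser and inverters of `y` -/

def pwY : List (List ℕ) := [[0, 1, 2, 3, 4, 5, 6, 7, 8, 9, 10, 11, 12, 13, 14, 15, 16, 17, 18, 19, 20, 21, 22, 23],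
  [0, 2, 4, 6, 8, 10, 12, 14, 16, 18, 20, 22, 1, 3, 5, 7, 9, 11, 13, 15, 17, 19, 21, 23],
  [0, 4, 8, 12, 16, 20, 1, 5, 9, 13, 17, 21, 2, 6, 10, 14, 18, 22, 3, 7, 11, 15, 19, 23],
  [0, 8, 16, 1, 9, 17, 2, 10, 18, 3, 11, 19, 4, 12, 20, 5, 13, 21, 6, 14, 22, 7, 15, 23],
  [0, 16, 9, 2, 18, 11, 4, 20, 13, 6, 22, 15, 8, 1, 17, 10, 3, 19, 12, 5, 21, 14, 7, 23],
  [0, 9, 18, 4, 13, 22, 8, 17, 3, 12, 21, 7, 16, 2, 11, 20, 6, 15, 1, 10, 19, 5, 14, 23],
  [0, 18, 13, 8, 3, 21, 16, 11, 6, 1, 19, 14, 9, 4, 22, 17, 12, 7, 2, 20, 15, 10, 5, 23],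
  [0, 13, 3, 16, 6, 19, 9, 22, 12, 2, 15, 5, 18, 8, 21, 11, 1, 14, 4, 17, 7, 20, 10, 23],
  [0, 3, 6, 9, 12, 15, 18, 21, 1, 4, 7, 10, 13, 16, 19, 22, 2, 5, 8, 11, 14, 17, 20, 23],
  [0, 6, 12, 18, 1, 7, 13, 19, 2, 8, 14, 20, 3, 9, 15, 21, 4, 10, 16, 22, 5, 11, 17, 23],
  [0, 12, 1, 13, 2, 14, 3, 15, 4, 16, 5, 17, 6, 18, 7, 19, 8, 20, 9, 21, 10, 22, 11, 23]]

theorem pwY_eq : (List.range 11).map (powT yL) = pwY := by decide +kernel

def testCY (T : List ℕ) : Bool :=
  !(T.getD 23 0 == 23) || !codesOK T || (List.range 11).any fun b => sameT T (powT yL b)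

theorem chkCY : allCands yL pwY testCY = true := by decide +kernel

/-- An element of `M24` fixing the extra point and commuting with `y` is a power of `y`. -/
theorem comm_y {g : Equiv.Perm GolayPt} (hgm : g ∈ M24) (hfix : g (pt 23) = pt 23)
    (hg : g * yP = yP * g) : ∃ b < 11, g = yP ^ b := by
  obtain ⟨T, hT, hTl, hP⟩ := allCands_spec tab_y rfl hg pwY_eq chkCY
  rw [testCY, codesOK_of_mem hgm hT hTl] at hP
  have h23 : T.getD 23 0 = 23 := by
    have := hT (pt 23)
    rw [hfix, idx_pt 23 (by norm_num)] at this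
    exact this.symm
  rw [h23] at hP
  simp only [beq_self_eq_true, Bool.not_true, Bool.false_or] at hP
  rw [List.any_eq_true] at hP
  obtain ⟨b, hb1, hb⟩ := hP
  exact ⟨b, List.mem_range.mp hb1, sameT_spec hT (powT_tab tab_y rfl b) hb⟩

def testIY (T : List ℕ) : Bool := !(T.getD 23 0 == 23) || !injT T || !codesOK T

theorem chkIY : allCands yiL pwG testIY = true := by decide +kernel

/-- No element of `M24` fixing the extra point inverts `y`. -/
theorem inv_y {g : Equiv.Perm GolayPt} (hgm : g ∈ M24) (hfix : g (pt 23) = pt 23)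
    (hg : g * yP = yP⁻¹ * g) : False := by
  obtain ⟨T, hT, hTl, hP⟩ := allCands_spec tab_yi rfl hg pwG_eq chkIY
  rw [testIY, codesOK_of_mem hgm hT hTl, injT_of_tab hT] at hP
  have h23 : T.getD 23 0 = 23 := by
    have := hT (pt 23)
    rw [hfix, idx_pt 23 (by norm_num)] at this
    exact this.symm
  rw [h23] at hP
  simp at hP

end Cfsg.Agent.Helper27.Frob23
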