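import Mathlib
import Cfsg.Agent.Lib.Helper27.Frob23

/-!
# Normalisers of `⟨x⟩` and `⟨y⟩` in `M23`
-/

set_option autoImplicit false
open scoped Pointwise
open Cfsg

namespace Cfsg.Agent.Helper27.Frob23

open Cfsg.Agent.Helper7 Cfsg.Agent.Helper27.OutAut Cfsg.Agent.Helper27.M24Aut
  Cfsg.Agent.Helper27.M23Gen

section Generic
variable {G : Type*} [Group G]

theorem conj_pow_pow {ν t : G} {r : ℕ} (hν : ν * t * ν⁻¹ = t ^ r) (j : ℕ) :
    ν ^ j * t * (ν ^ j)⁻¹ = t ^ (r ^ j) := by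
  induction j with
  | zero => simp
  | succ j ih =>
    have : ν ^ (j + 1) * t * (ν ^ (j + 1))⁻¹ = ν * (ν ^ j * t * (ν ^ j)⁻¹) * ν⁻¹ := by
      rw [pow_succ']; group
    rw [this, ih, ← conj_pow, hν, ← pow_mul, pow_succ']

/-- An element normalising `⟨t⟩` (`t` of prime order `p`) can be multiplied by a power of `ν`
(which acts on `⟨t⟩` as the `r`-th power map) so as to centralise or invert `t`. -/
theorem normalise_exponent {t ν g : G} {r p : ℕ} (hp : 1 < p) (ht : orderOf t = p)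
    (hν : ν * t * ν⁻¹ = t ^ r) (n : ℕ)
    (harith : ∀ k < p, k ≠ 0 → ∃ j < n, (r ^ j * k) % p = 1 ∨ (r ^ j * k) % p = p - 1)
    (hg : g * t * g⁻¹ ∈ Subgroup.zpowers t) :
    ∃ j < n, (ν ^ j * g) * t * (ν ^ j * g)⁻¹ = t ∨ (ν ^ j * g) * t * (ν ^ j * g)⁻¹ = t⁻¹ := by
  rw [Subgroup.mem_zpowers_iff] at hg
  obtain ⟨k, hk⟩ := hg
  have hp0 : (p : ℤ) ≠ 0 := by exact_mod_cast (by omega : p ≠ 0)
  have hk' : t ^ ((k % (p : ℤ)).toNat) = g * t * g⁻¹ := by
    rw [← hk, ← zpow_natCast, Int.toNat_of_nonneg (Int.emod_nonneg _ hp0)]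
    have := zpow_mod_orderOf t k
    rw [ht] at this
    exact this
  set k' := (k % (p : ℤ)).toNat with hk'def
  have hk'lt : k' < p := by
    have h1 : k % (p : ℤ) < p := Int.emod_lt_of_pos _ (by exact_mod_cast (by omega : 0 < p))
    have h2 : 0 ≤ k % (p : ℤ) := Int.emod_nonneg _ hp0
    omega
  have ht1 : t ≠ 1 := by
    intro h
    rw [h, orderOf_one] at ht
    omega
  have hk0 : k' ≠ 0 := by
    intro h
    rw [h, pow_zero] at hk'
    have : g * t * g⁻¹ = 1 := hk'.symm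
    have h2 : t = 1 := by
      have := congrArg (fun z => g⁻¹ * z * g) this
      simpa [mul_assoc] using this
    exact ht1 h2
  obtain ⟨j, hjn, hj⟩ := harith k' hk'lt hk0
  refine ⟨j, hjn, ?_⟩
  have h1 : (ν ^ j * g) * t * (ν ^ j * g)⁻¹ = t ^ ((r ^ j * k') % p) := by
    have : (ν ^ j * g) * t * (ν ^ j * g)⁻¹ = ν ^ j * (g * t * g⁻¹) * (ν ^ j)⁻¹ := by group
    rw [this, ← hk', ← conj_pow, conj_pow_pow hν j, ← pow_mul]
    conv_rhs => rw [← ht, pow_mod_orderOf]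
  rcases hj with h | h
  · left; rw [h1, h, pow_one]
  · right
    rw [h1, h]
    apply eq_inv_of_mul_eq_one_left
    rw [← pow_succ, Nat.sub_add_cancel (by omega), ← ht, pow_orderOf_eq_one]

end Generic

theorem y_pow11 : yP ^ 11 = 1 :=
  sameT_spec (powT_tab tab_y rfl 11) tab_one (by decide +kernel)

theorem y_ne_one : yP ≠ 1 := by
  intro h
  have h2 : yP (pt 1) = pt 2 := tab_y.apply 1 (by norm_num)
  rw [h] at h2
  revert h2
  decide

theorem orderOf_x : orderOf gShift = 23 := by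
  have : Fact (Nat.Prime 23) := ⟨by norm_num⟩
  exact orderOf_eq_prime x_pow23' x_ne_one

theorem orderOf_y : orderOf yP = 11 := by
  have : Fact (Nat.Prime 11) := ⟨by norm_num⟩
  exact orderOf_eq_prime y_pow11 y_ne_one

theorem d_ne_one : cubeTwist ≠ 1 := by
  intro h
  have h2 : cubeTwist (pt 1) = pt 18 := tab_cubeTwist.apply 1 (by norm_num)
  rw [h] at h2
  revert h2
  decide

theorem orderOf_d : orderOf cubeTwist = 5 := by
  have : Fact (Nat.Prime 5) := ⟨by norm_num⟩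
  exact orderOf_eq_prime d_pow5 d_ne_one

theorem yx_conj : yP * gShift * yP⁻¹ = gShift ^ 2 := by rw [yx_rel]; group

theorem dy_conj : cubeTwist * yP * cubeTwist⁻¹ = yP ^ 3 := by rw [dy_rel]; group

theorem arith23' : ∀ k < 23, k ≠ 0 → ∃ j < 11, (2 ^ j * k) % 23 = 1 ∨ (2 ^ j * k) % 23 = 23 - 1 := by
  decide

theorem arith11' : ∀ k < 11, k ≠ 0 → ∃ j < 5, (3 ^ j * k) % 11 = 1 ∨ (3 ^ j * k) % 11 = 11 - 1 := by
  decide

/-- The normaliser of `⟨x⟩` in `M24` consists of the `y^{-j} x^b`. -/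
theorem norm_x {g : Equiv.Perm GolayPt} (hgm : g ∈ M24)
    (hn : g * gShift * g⁻¹ ∈ Subgroup.zpowers gShift) :
    ∃ j < 11, ∃ b < 23, g = (yP ^ j)⁻¹ * gShift ^ b := by
  obtain ⟨j, hj, h⟩ := normalise_exponent (by norm_num) orderOf_x yx_conj 11 arith23' hn
  rcases h with h | h
  · have hc : (yP ^ j * g) * gShift = gShift * (yP ^ j * g) := mul_inv_eq_iff_eq_mul.mp h
    obtain ⟨b, hb, hgb⟩ := comm_x hc
    refine ⟨j, hj, b, hb, ?_⟩
    rw [← hgb]; group
  · exfalso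
    have hc : (yP ^ j * g) * gShift = gShift⁻¹ * (yP ^ j * g) := mul_inv_eq_iff_eq_mul.mp h
    exact inv_x (M24.mul_mem (M24.pow_mem y_mem j) hgm) hc

/-- The normaliser of `⟨y⟩` in `M23` consists of the `d^{-j} y^b`. -/
theorem norm_y {g : Equiv.Perm GolayPt} (hgm : g ∈ M24) (hfix : g (pt 23) = pt 23)
    (hn : g * yP * g⁻¹ ∈ Subgroup.zpowers yP) :
    ∃ j < 5, ∃ b < 11, g = (cubeTwist ^ j)⁻¹ * yP ^ b := by
  obtain ⟨j, hj, h⟩ := normalise_exponent (by norm_num) orderOf_y dy_conj 5 arith11' hn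
  have hm : cubeTwist ^ j * g ∈ M24 := M24.mul_mem (M24.pow_mem cubeTwist_mem j) hgm
  have hdfix : ∀ n : ℕ, (cubeTwist ^ n) (pt 23) = pt 23 := by
    intro n
    induction n with
    | zero => simp
    | succ n ih =>
      rw [pow_succ, Equiv.Perm.mul_apply, tab_cubeTwist.fix 23 (by norm_num) (by decide), ih]
  have hf : (cubeTwist ^ j * g) (pt 23) = pt 23 := by
    rw [Equiv.Perm.mul_apply, hfix, hdfix]
  rcases h with h | h
  · have hc : (cubeTwist ^ j * g) * yP = yP * (cubeTwist ^ j * g) := mul_inv_eq_iff_eq_mul.mp h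
    obtain ⟨b, hb, hgb⟩ := comm_y hm hf hc
    refine ⟨j, hj, b, hb, ?_⟩
    rw [← hgb]; group
  · exfalso
    have hc : (cubeTwist ^ j * g) * yP = yP⁻¹ * (cubeTwist ^ j * g) := mul_inv_eq_iff_eq_mul.mp h
    exact inv_y hm hf hc

end Cfsg.Agent.Helper27.Frob23
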