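import Mathlib
import Cfsg.Agent.Lib.Helper27.Frob23b

/-!
# The Frobenius group `23:11` is maximal in `M23`

Sylow counting: a subgroup `K` of `M23` containing `F = ⟨x, y⟩` has `|K| = 253 n` with
`n ≡ 1 (mod 23)` the number of its Sylow 23-subgroups, `n ∣ 40320`, and the number of its Sylow
11-subgroups, `253 n / 11` or `253 n / 55`, is `≡ 1 (mod 11)`; this forces `n = 1` or `n = 40320`.
-/

set_option autoImplicit false
open scoped Pointwise
open Cfsg

namespace Cfsg.Agent.Helper27.Frob23

open Cfsg.Agent.Helper7 Cfsg.Agent.Helper27.OutAut Cfsg.Agent.Helper27.M24Aut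
  Cfsg.Agent.Helper27.M23Gen

section Generic
variable {G : Type*} [Group G]

/-- The number of Sylow `p`-subgroups, for a Sylow subgroup of prime order. -/
theorem index_normalizer_modEq [Finite G] (p m : ℕ) [Fact p.Prime]
    (hcard : Nat.card G = p * m) (hm : ¬ p ∣ m) (t : G) (ht : orderOf t = p) :
    (Subgroup.normalizer ((Subgroup.zpowers t : Subgroup G) : Set G)).index ≡ 1 [MOD p] := by
  obtain ⟨Q, hQ⟩ := exists_sylow p m hcard hm t ht
  have h1 := Sylow.card_eq_index_normalizer Q
  have h2 := card_sylow_modEq_one p G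
  rw [h1] at h2
  have e : (Q : Set G) = ((Subgroup.zpowers t : Subgroup G) : Set G) := by
    rw [← hQ]; rfl
  rw [e] at h2
  exact h2

theorem conj_zpowers_mem {t g : G} (h : g * t * g⁻¹ ∈ Subgroup.zpowers t) :
    ∀ n ∈ ((Subgroup.zpowers t : Subgroup G) : Set G), g * n * g⁻¹ ∈
      ((Subgroup.zpowers t : Subgroup G) : Set G) := by
  intro n hn
  rw [SetLike.mem_coe, Subgroup.mem_zpowers_iff] at hn
  obtain ⟨k, rfl⟩ := hn
  rw [SetLike.mem_coe, ← conj_zpow]
  exact Subgroup.zpow_mem _ h k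

theorem mem_normalizer_zpowers [Finite G] {t g : G} :
    g ∈ Subgroup.normalizer ((Subgroup.zpowers t : Subgroup G) : Set G) ↔
      g * t * g⁻¹ ∈ Subgroup.zpowers t := by
  constructor
  · intro h
    exact (Subgroup.mem_normalizer_iff.mp h t).mp (Subgroup.mem_zpowers t)
  · intro h
    exact Subgroup.mem_normalizer_fintype (conj_zpowers_mem h)

end Generic

abbrev Pi24 : Type := Equiv.Perm GolayPt

/-- The Frobenius group `23:11`. -/
def F : Subgroup Pi24 := Subgroup.closure {gShift, yP}

/-- The normaliser of `⟨x⟩` in `M23`. -/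
def NX : Subgroup Pi24 :=
  Cfsg.Spor.M23 ⊓ Subgroup.normalizer ((Subgroup.zpowers gShift : Subgroup Pi24) : Set Pi24)

/-- The normaliser of `⟨y⟩` in `M23`. -/
def NY : Subgroup Pi24 :=
  Cfsg.Spor.M23 ⊓ Subgroup.normalizer ((Subgroup.zpowers yP : Subgroup Pi24) : Set Pi24)

theorem y_fix : yP (none : GolayPt) = none := tab_y.fix 23 (by decide) (by decide)

theorem y_mem23 : yP ∈ Cfsg.Spor.M23 := mem_M23.mpr ⟨y_mem, y_fix⟩

theorem x_mem_NX : gShift ∈ NX :=
  ⟨shift_mem23, Subgroup.le_normalizer (Subgroup.mem_zpowers gShift)⟩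

theorem y_mem_NX : yP ∈ NX := by
  refine ⟨y_mem23, mem_normalizer_zpowers.mpr ?_⟩
  rw [yx_conj]
  exact Subgroup.pow_mem _ (Subgroup.mem_zpowers _) 2

theorem y_mem_NY : yP ∈ NY :=
  ⟨y_mem23, Subgroup.le_normalizer (Subgroup.mem_zpowers yP)⟩

theorem d_mem_NY : cubeTwist ∈ NY := by
  refine ⟨cubeTwist_mem23, mem_normalizer_zpowers.mpr ?_⟩
  rw [dy_conj]
  exact Subgroup.pow_mem _ (Subgroup.mem_zpowers _) 3

theorem F_le_NX : F ≤ NX := by
  rw [F, Subgroup.closure_le]
  rintro g (rfl | rfl)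
  · exact x_mem_NX
  · exact y_mem_NX

def SX : Finset Pi24 :=
  (Finset.range 11 ×ˢ Finset.range 23).image fun jb => (yP ^ jb.1)⁻¹ * gShift ^ jb.2

noncomputable def SY : Finset Pi24 :=
  (Finset.range 5 ×ˢ Finset.range 11).image fun jb => (cubeTwist ^ jb.1)⁻¹ * yP ^ jb.2

theorem NX_sub : (NX : Set Pi24) ⊆ ↑SX := by
  intro g hg
  obtain ⟨h1, h2⟩ := hg
  obtain ⟨j, hj, b, hb, rfl⟩ := norm_x (mem_M23.mp h1).1 (mem_normalizer_zpowers.mp h2)
  rw [Finset.mem_coe, SX, Finset.mem_image]
  exact ⟨(j, b), by simp [hj, hb], rfl⟩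

theorem NY_sub : (NY : Set Pi24) ⊆ ↑SY := by
  intro g hg
  obtain ⟨h1, h2⟩ := hg
  obtain ⟨j, hj, b, hb, rfl⟩ := norm_y (mem_M23.mp h1).1 (mem_M23.mp h1).2
    (mem_normalizer_zpowers.mp h2)
  rw [Finset.mem_coe, SY, Finset.mem_image]
  exact ⟨(j, b), by simp [hj, hb], rfl⟩

theorem card_NX : Nat.card NX = 253 := by
  have hle : Nat.card NX ≤ 253 := by
    have h1 : Nat.card NX ≤ SX.card :=
      calc Nat.card NX = (NX : Set Pi24).ncard := Nat.card_coe_set_eq _
        _ ≤ (SX : Set Pi24).ncard := Set.ncard_le_ncard NX_sub SX.finite_toSet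
        _ = SX.card := Set.ncard_coe_finset SX
    have h2 : SX.card ≤ 253 := by
      refine Finset.card_image_le.trans ?_
      rw [Finset.card_product, Finset.card_range, Finset.card_range]
    exact h1.trans h2
  have h23 : 23 ∣ Nat.card NX := by
    have := NX.orderOf_dvd_natCard x_mem_NX
    rwa [orderOf_x] at this
  have h11 : 11 ∣ Nat.card NX := by
    have := NX.orderOf_dvd_natCard y_mem_NX
    rwa [orderOf_y] at this
  have hpos : 0 < Nat.card NX := Nat.card_pos
  omega

theorem card_NY : Nat.card NY = 55 := by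
  have hle : Nat.card NY ≤ 55 := by
    have h1 : Nat.card NY ≤ SY.card :=
      calc Nat.card NY = (NY : Set Pi24).ncard := Nat.card_coe_set_eq _
        _ ≤ (SY : Set Pi24).ncard := Set.ncard_le_ncard NY_sub SY.finite_toSet
        _ = SY.card := Set.ncard_coe_finset SY
    have h2 : SY.card ≤ 55 := by
      refine Finset.card_image_le.trans ?_
      rw [Finset.card_product, Finset.card_range, Finset.card_range]
    exact h1.trans h2
  have h11 : 11 ∣ Nat.card NY := by
    have := NY.orderOf_dvd_natCard y_mem_NY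
    rwa [orderOf_y] at this
  have h5 : 5 ∣ Nat.card NY := by
    have := NY.orderOf_dvd_natCard d_mem_NY
    rwa [orderOf_d] at this
  have hpos : 0 < Nat.card NY := Nat.card_pos
  omega

theorem card_F : Nat.card F = 253 := by
  have h1 : Nat.card F ∣ 253 := by
    rw [← card_NX]; exact Subgroup.card_dvd_of_le F_le_NX
  have h23 : 23 ∣ Nat.card F := by
    have := F.orderOf_dvd_natCard (Subgroup.subset_closure (by simp : gShift ∈ ({gShift, yP} : Set Pi24)))
    rwa [orderOf_x] at this
  have h11 : 11 ∣ Nat.card F := by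
    have := F.orderOf_dvd_natCard (Subgroup.subset_closure (by simp : yP ∈ ({gShift, yP} : Set Pi24)))
    rwa [orderOf_y] at this
  have hle := Nat.le_of_dvd (by norm_num) h1
  have hpos : 0 < Nat.card F := Nat.card_pos
  omega

theorem F_le_M23 : F ≤ Cfsg.Spor.M23 := F_le_NX.trans inf_le_left

/-- The arithmetic core. -/
theorem arith_core : ∀ t < 1754, (23 * t + 1) ∣ 40320 →
    ((23 * (23 * t + 1)) % 11 = 1 ∨
      ((23 * (23 * t + 1)) % 5 = 0 ∧ (23 * (23 * t + 1) / 5) % 11 = 1)) →
    t = 0 ∨ t = 1753 := by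
  decide +kernel

instance fact23' : Fact (Nat.Prime 23) := ⟨by norm_num⟩
instance fact11' : Fact (Nat.Prime 11) := ⟨by norm_num⟩

/-- Sylow data for a subgroup `K` of `M23` containing an element `t` of prime order `p`: the order
of `K` is `c · n` with `c` the order of the normaliser of `⟨t⟩` in `K` and `n ≡ 1 (mod p)`. -/
theorem sylow_data (K : Subgroup Pi24) (hK : K ≤ Cfsg.Spor.M23) (p : ℕ) [Fact p.Prime]
    (hp2 : ¬ p * p ∣ 10200960) (t : Pi24) (htK : t ∈ K) (ht : orderOf t = p)
    (N0 : Subgroup Pi24)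
    (hN0 : N0 = Cfsg.Spor.M23 ⊓
      Subgroup.normalizer ((Subgroup.zpowers t : Subgroup Pi24) : Set Pi24)) :
    ∃ c n : ℕ, Nat.card K = c * n ∧ n % p = 1 ∧ c ∣ Nat.card N0 ∧
      (∀ ν ∈ K, ν ∈ N0 → orderOf ν ∣ c) := by
  have hKdvd : Nat.card K ∣ 10200960 := by
    rw [← card_M23]; exact Subgroup.card_dvd_of_le hK
  have hpK : p ∣ Nat.card K := by
    have := K.orderOf_dvd_natCard htK
    rwa [ht] at this
  obtain ⟨m, hm⟩ := hpK
  have hpm : ¬ p ∣ m := by
    rintro ⟨m', rfl⟩
    apply hp2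
    exact Dvd.dvd.trans ⟨m', by rw [hm]; ring⟩ hKdvd
  have : Finite ↥K := Nat.finite_of_card_ne_zero (by
    intro h0; rw [h0] at hKdvd; simp at hKdvd)
  set tK : ↥K := ⟨t, htK⟩ with htK_def
  have htK' : orderOf tK = p := by rw [Subgroup.orderOf_mk, ht]
  set N := Subgroup.normalizer ((Subgroup.zpowers tK : Subgroup ↥K) : Set ↥K) with hN
  have hidx := index_normalizer_modEq p m hm hpm tK htK'
  have hmul := N.card_mul_index
  refine ⟨Nat.card N, N.index, hmul.symm, ?_, ?_, ?_⟩
  · have hp1 : 1 < p := (Fact.out : p.Prime).one_lt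
    have := hidx
    unfold Nat.ModEq at this
    rwa [Nat.mod_eq_of_lt hp1] at this
  · -- the image of `N` lies in `N0`
    have hmap : N.map K.subtype ≤ N0 := by
      rintro _ ⟨k, hk, rfl⟩
      rw [hN0]
      refine ⟨hK k.2, mem_normalizer_zpowers.mpr ?_⟩
      have h1 := mem_normalizer_zpowers.mp hk
      rw [Subgroup.mem_zpowers_iff] at h1 ⊢
      obtain ⟨e, he⟩ := h1
      refine ⟨e, ?_⟩
      have := congrArg Subtype.val he
      simpa using this
    have hcard : Nat.card (N.map K.subtype) = Nat.card N :=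
      Subgroup.card_map_of_injective K.subtype_injective
    rw [← hcard]
    exact Subgroup.card_dvd_of_le hmap
  · intro ν hνK hνN
    have hmem : (⟨ν, hνK⟩ : ↥K) ∈ N := by
      rw [hN0] at hνN
      have h1 := mem_normalizer_zpowers.mp hνN.2
      rw [hN]
      apply mem_normalizer_zpowers.mpr
      rw [Subgroup.mem_zpowers_iff] at h1 ⊢
      obtain ⟨e, he⟩ := h1
      refine ⟨e, ?_⟩
      apply Subtype.ext
      simpa using he
    have := N.orderOf_dvd_natCard hmem
    rwa [Subgroup.orderOf_mk] at this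

/-- `23:11` is maximal in `M23`. -/
theorem max23 (K : Subgroup Pi24) (hFK : F ≤ K) (hK : K ≤ Cfsg.Spor.M23) :
    K = F ∨ K = Cfsg.Spor.M23 := by
  have hxK : gShift ∈ K := hFK (Subgroup.subset_closure (by simp))
  have hyK : yP ∈ K := hFK (Subgroup.subset_closure (by simp))
  obtain ⟨c, n, hcn, hn, hc, hord⟩ := sylow_data K hK 23 (by norm_num) gShift hxK orderOf_x NX rfl
  obtain ⟨c', n', hcn', hn', hc', hord'⟩ := sylow_data K hK 11 (by norm_num) yP hyK orderOf_y NY rfl
  rw [card_NX] at hc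
  rw [card_NY] at hc'
  have h23 : 23 ∣ c := by
    have := hord gShift hxK x_mem_NX
    rwa [orderOf_x] at this
  have h11 : 11 ∣ c := by
    have := hord yP hyK y_mem_NX
    rwa [orderOf_y] at this
  have h11' : 11 ∣ c' := by
    have := hord' yP hyK y_mem_NY
    rwa [orderOf_y] at this
  have hc253 : c = 253 := by
    have := Nat.le_of_dvd (by norm_num) hc
    have hpos : 0 < c := Nat.pos_of_dvd_of_pos hc (by norm_num)
    omega
  have hc'55 : c' = 11 ∨ c' = 55 := by
    have := Nat.le_of_dvd (by norm_num) hc'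
    have hpos : 0 < c' := Nat.pos_of_dvd_of_pos hc' (by norm_num)
    obtain ⟨e, he⟩ := h11'
    have he5 : e ∣ 5 := by
      have h55 : 11 * e ∣ 11 * 5 := by rw [← he]; exact hc'
      exact (Nat.mul_dvd_mul_iff_left (by norm_num)).mp h55
    have hele := Nat.le_of_dvd (by norm_num) he5
    have : e = 1 ∨ e = 5 := by
      interval_cases e
      · exfalso; revert he5; decide
      · left; rfl
      · exfalso; revert he5; decide
      · exfalso; revert he5; decide
      · exfalso; revert he5; decide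
      · right; rfl
    rcases this with rfl | rfl <;> omega
  have hKdvd : Nat.card K ∣ 10200960 := by
    rw [← card_M23]; exact Subgroup.card_dvd_of_le hK
  rw [hc253] at hcn
  have hn40320 : n ∣ 40320 := by
    rw [hcn] at hKdvd
    have : (253 * n) ∣ 253 * 40320 := by
      rw [show 253 * 40320 = 10200960 from by norm_num]; exact hKdvd
    exact (Nat.mul_dvd_mul_iff_left (by norm_num)).mp this
  have hnle := Nat.le_of_dvd (by norm_num) hn40320
  have hnt : n = 23 * (n / 23) + 1 := by omega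
  have ht : n / 23 < 1754 := by omega
  have key := arith_core (n / 23) ht (by rw [← hnt]; exact hn40320) (by
    rw [← hnt]
    rcases hc'55 with rfl | rfl
    · left; omega
    · right; omega)
  rcases key with h | h
  · left
    symm
    apply Subgroup.eq_of_le_of_card_ge hFK
    rw [card_F, hcn]; omega
  · right
    apply Subgroup.eq_of_le_of_card_ge hK
    rw [card_M23, hcn]; omega

end Cfsg.Agent.Helper27.Frob23
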