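import Mathlib
import Cfsg.Agent.Lib.Helper27.Frob23c
import Cfsg.Agent.Lib.Helper7.M24Stab

/-!
# `PSL(2,23)` is maximal in `M24`

The group `L = ⟨x, y, γ⟩` (`γ : t ↦ -1/t`) preserves the square class of
`(a-b)(b-c)(c-a)` (projectively), which the cube twist does not; so `L ≠ M24`, its point
stabiliser is `23:11` and `|L| = 6072`. Any subgroup between `L` and `M24` is transitive with
point stabiliser `23:11` or `M23`.
-/

set_option autoImplicit false
open scoped Pointwise
open Cfsg

namespace Cfsg.Agent.Helper27.Frob23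

open Cfsg.Agent.Helper7 Cfsg.Agent.Helper27.OutAut Cfsg.Agent.Helper27.M24Aut
  Cfsg.Agent.Helper27.M23Gen

/-- The determinant of the standard vectors of two points of the projective line. -/
def dN (i j : ℕ) : ℕ :=
  if i = 23 then (if j = 23 then 0 else 1) else if j = 23 then 22 else (i + 23 - j) % 23

/-- Whether the product of the three determinants is a square (or zero). -/
def chiN (i j k : ℕ) : Bool := Nat.testBit 340831 ((dN i j * dN j k * dN k i) % 23)

/-- The permutations preserving `chiN`. -/
def PT : Subgroup Pi24 where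
  carrier := {g | ∀ p q r : GolayPt,
    chiN (idx (g p)) (idx (g q)) (idx (g r)) = chiN (idx p) (idx q) (idx r)}
  mul_mem' := by
    intro a b ha hb p q r
    rw [Equiv.Perm.mul_apply, Equiv.Perm.mul_apply, Equiv.Perm.mul_apply, ha, hb]
  one_mem' := fun p q r => rfl
  inv_mem' := by
    intro a ha p q r
    have := ha (a⁻¹ p) (a⁻¹ q) (a⁻¹ r)
    simp at this
    exact this.symm

theorem mem_PT_of_tab {σ : Pi24} {T : List ℕ} (h : Tab σ T)
    (hc : ∀ i < 24, ∀ j < 24, ∀ k < 24,
      chiN (T.getD i 0) (T.getD j 0) (T.getD k 0) = chiN i j k) : σ ∈ PT := by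
  intro p q r
  rw [h p, h q, h r]
  exact hc _ (idx_lt p) _ (idx_lt q) _ (idx_lt r)

theorem x_mem_PT : gShift ∈ PT := mem_PT_of_tab tab_shift (by decide +kernel)
theorem y_mem_PT : yP ∈ PT := mem_PT_of_tab tab_y (by decide +kernel)
theorem g_mem_PT : projInv ∈ PT := mem_PT_of_tab tab_projInv (by decide +kernel)

theorem d_not_mem_PT : cubeTwist ∉ PT := by
  intro h
  have := h (pt 0) (pt 1) (pt 2)
  rw [tab_cubeTwist (pt 0), tab_cubeTwist (pt 1), tab_cubeTwist (pt 2)] at this
  revert this
  decide

/-- The group `PSL(2,23)`. -/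
def L : Subgroup Pi24 := Subgroup.closure {gShift, yP, projInv}

theorem L_le_PT : L ≤ PT := by
  rw [L, Subgroup.closure_le]
  rintro g (rfl | rfl | rfl)
  · exact x_mem_PT
  · exact y_mem_PT
  · exact g_mem_PT

theorem L_le_M24 : L ≤ M24 := by
  rw [L, Subgroup.closure_le]
  rintro g (rfl | rfl | rfl)
  · exact shift_mem
  · exact y_mem
  · exact projInv_mem

theorem L_ne_M24 : L ≠ M24 := by
  intro h
  apply d_not_mem_PT
  apply L_le_PT
  rw [h]
  exact cubeTwist_mem

theorem F_le_L : F ≤ L := by
  rw [F, Subgroup.closure_le]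
  rintro g (rfl | rfl)
  · exact Subgroup.subset_closure (by simp)
  · exact Subgroup.subset_closure (by simp)

theorem trans_aux : ∀ i < 23, (mulTab (powT lShift i) lProjInv).getD 23 0 = i := by decide +kernel

theorem L_trans (q : GolayPt) : ∃ g ∈ L, g (none : GolayPt) = q := by
  rw [← pt23]
  have hi : idx q < 24 := idx_lt q
  have hq : q = pt (idx q) := (pt_idx q).symm
  generalize idx q = i at hi hq
  by_cases h : i = 23
  · exact ⟨1, L.one_mem, by rw [hq, h]; rfl⟩
  · have hi' : i < 23 := by omega
    refine ⟨gShift ^ i * projInv, L.mul_mem (L.pow_mem (Subgroup.subset_closure (by simp)) i)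
      (Subgroup.subset_closure (by simp)), ?_⟩
    have hT : Tab (gShift ^ i * projInv) (mulTab (powT lShift i) lProjInv) :=
      (powT_tab tab_shift rfl i).mul tab_projInv rfl
    rw [hT.apply 23 (by norm_num), trans_aux i hi', hq]

/-- Subgroups between `L` and `M24`: order and point stabiliser. -/
theorem card_between (K : Subgroup Pi24) (hLK : L ≤ K) (hK : K ≤ M24) :
    Nat.card K = 6072 ∨ K = M24 := by
  have hcard : Nat.card K = 24 * Nat.card ↥(stabIn K (none : GolayPt)) := by
    have := card_eq_mul_of_orbit K (none : GolayPt) Finset.univ (by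
      intro q
      simp only [Finset.mem_univ, true_iff]
      obtain ⟨g, hg, hgq⟩ := L_trans q
      exact ⟨g, hLK hg, hgq⟩)
    rwa [card_univ_golayPt] at this
  have h1 : F ≤ stabIn K (none : GolayPt) := by
    rw [F, Subgroup.closure_le]
    rintro g (rfl | rfl)
    · exact mem_stabIn.mpr ⟨hLK (Subgroup.subset_closure (by simp)), shift_fix⟩
    · exact mem_stabIn.mpr ⟨hLK (Subgroup.subset_closure (by simp)), y_fix⟩
  have h2 : stabIn K (none : GolayPt) ≤ Cfsg.Spor.M23 := by
    intro g hg
    rw [mem_stabIn] at hg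
    exact mem_M23.mpr ⟨hK hg.1, hg.2⟩
  rcases max23 _ h1 h2 with h | h
  · left
    rw [hcard, h, card_F]
  · right
    apply Subgroup.eq_of_le_of_card_ge hK
    rw [hcard, h, card_M23, card_M24]

theorem card_L : Nat.card L = 6072 := by
  rcases card_between L le_rfl L_le_M24 with h | h
  · exact h
  · exact absurd h L_ne_M24

/-- `PSL(2,23)` is maximal in `M24`. -/
theorem max24 (K : Subgroup Pi24) (hLK : L ≤ K) (hK : K ≤ M24) : K = L ∨ K = M24 := by
  rcases card_between K hLK hK with h | h
  · left
    symm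
    apply Subgroup.eq_of_le_of_card_ge hLK
    rw [h, card_L]
  · exact Or.inr h

theorem F_ne_M23 : F ≠ Cfsg.Spor.M23 := by
  intro h
  have := card_F
  rw [h, card_M23] at this
  omega

end Cfsg.Agent.Helper27.Frob23
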