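import Mathlib

/-!
# Abstract lemmas for index computations (helper27)

* `factorization_pow_mul`: the `p`-adic valuation of `p ^ n * m` with `p ∤ m`;
* `exists_conj_le`: two subgroups of full `p`-power order are conjugate;
* `sylow_orbit`: a subgroup of full `p`-power order is transitive on an orbit of `p`-power length;
* `card_modEq_fixed`: fixed points of an element of prime order on an invariant set;
* `exists_conj_pow2`: elements of prime order `p` (with `p²` not dividing the group order)
  are conjugate to powers of each other.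
-/

set_option autoImplicit false

namespace Cfsg.Agent.Helper27.Idx253

open scoped Pointwise

theorem factorization_pow_mul (p n m : ℕ) (hp : p.Prime) (hm : ¬ p ∣ m) :
    (p ^ n * m).factorization p = n := by
  have hm0 : m ≠ 0 := by rintro rfl; exact hm (dvd_zero _)
  rw [Nat.factorization_mul (pow_ne_zero _ hp.ne_zero) hm0, Finsupp.add_apply,
    hp.factorization_pow, Nat.factorization_eq_zero_of_not_dvd hm]
  simp

variable {G : Type*} [Group G]

/-- Two subgroups of full `p`-power order are conjugate. -/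
theorem exists_conj_le [Finite G] (p n m : ℕ) [hp : Fact p.Prime] (hG : Nat.card G = p ^ n * m)
    (hm : ¬ p ∣ m) (Q0 Q1 : Subgroup G) (h0 : Nat.card Q0 = p ^ n) (h1 : Nat.card Q1 = p ^ n) :
    ∃ g : G, ∀ q ∈ Q0, g * q * g⁻¹ ∈ Q1 := by
  have hf : (Nat.card G).factorization p = n := by
    rw [hG]; exact factorization_pow_mul p n m hp.out hm
  let P0 : Sylow p G := Sylow.ofCard Q0 (by rw [h0, hf])
  let P1 : Sylow p G := Sylow.ofCard Q1 (by rw [h1, hf])
  obtain ⟨g, hg⟩ := MulAction.exists_smul_eq G P0 P1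
  refine ⟨g, fun q hq => ?_⟩
  have h2 := Subgroup.smul_mem_pointwise_smul q (MulAut.conj g) (P0 : Subgroup G) hq
  rw [← Sylow.coe_subgroup_smul, hg, MulAut.smul_def, MulAut.conj_apply] at h2
  exact h2

/-- A subgroup of full `p`-power order is transitive on every orbit of `p`-power length. -/
theorem sylow_orbit {K α : Type*} [Group K] [Finite K] [MulAction K α] (p n k m : ℕ)
    [hp : Fact p.Prime] (hK : Nat.card K = p ^ n * m) (hm : ¬ p ∣ m) (Q : Subgroup K)
    (hQ : Nat.card Q = p ^ n) (b : α) (horb : (MulAction.orbit K b).ncard = p ^ k) :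
    ∀ a ∈ MulAction.orbit K b, ∃ q ∈ Q, q • b = a := by
  classical
  have hfin : (MulAction.orbit K b).Finite := Set.finite_range (fun k : K => k • b)
  -- the stabiliser in `K`
  have h1 : (MulAction.stabilizer K b).index = p ^ k := by
    rw [MulAction.index_stabilizer, horb]
  have h2 := (MulAction.stabilizer K b).index_mul_card
  rw [h1, hK] at h2
  -- the stabiliser in `Q`
  have h3 : (MulAction.stabilizer Q b).index = (MulAction.orbit Q b).ncard :=
    MulAction.index_stabilizer Q b
  have h4 := (MulAction.stabilizer Q b).index_mul_card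
  rw [hQ] at h4
  -- the order of the stabiliser in `Q` divides that of the stabiliser in `K`
  have h5 : Nat.card (MulAction.stabilizer Q b) ∣ Nat.card (MulAction.stabilizer K b) := by
    have hle : (MulAction.stabilizer Q b).map Q.subtype ≤ MulAction.stabilizer K b := by
      rintro _ ⟨q, hq, rfl⟩
      exact hq
    have hc : Nat.card ((MulAction.stabilizer Q b).map Q.subtype) =
        Nat.card (MulAction.stabilizer Q b) :=
      Subgroup.card_map_of_injective Q.subtype_injective
    rw [← hc]
    exact Subgroup.card_dvd_of_le hle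
  have hpp := hp.out
  obtain ⟨j, hj, hjeq⟩ := (Nat.dvd_prime_pow hpp).mp (Dvd.intro_left _ h4)
  -- `k ≤ n`
  have hkn : k ≤ n := by
    have hd : p ^ k ∣ p ^ n * m := Dvd.intro _ h2
    have hc : Nat.Coprime (p ^ k) m := Nat.Coprime.pow_left _ ((Nat.Prime.coprime_iff_not_dvd hpp).mpr hm)
    exact (Nat.pow_dvd_pow_iff_le_right hpp.one_lt).mp (hc.dvd_of_dvd_mul_right hd)
  have hS : Nat.card (MulAction.stabilizer K b) = p ^ (n - k) * m := by
    have : p ^ k * Nat.card (MulAction.stabilizer K b) = p ^ k * (p ^ (n - k) * m) := by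
      rw [h2, ← mul_assoc, ← pow_add, Nat.add_sub_cancel' hkn]
    exact Nat.eq_of_mul_eq_mul_left (pow_pos hpp.pos _) this
  have hjk : j ≤ n - k := by
    rw [hjeq, hS] at h5
    have hc : Nat.Coprime (p ^ j) m := Nat.Coprime.pow_left _ ((Nat.Prime.coprime_iff_not_dvd hpp).mpr hm)
    exact (Nat.pow_dvd_pow_iff_le_right hpp.one_lt).mp (hc.dvd_of_dvd_mul_right h5)
  -- the orbit of `Q`
  have h6 : (MulAction.orbit Q b).ncard = p ^ (n - j) := by
    rw [h3, hjeq] at h4
    have : (MulAction.orbit Q b).ncard * p ^ j = p ^ (n - j) * p ^ j := by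
      rw [h4, ← pow_add, Nat.sub_add_cancel hj]
    exact Nat.eq_of_mul_eq_mul_right (pow_pos hpp.pos _) this
  have hsub : MulAction.orbit Q b ⊆ MulAction.orbit K b := by
    rintro _ ⟨q, rfl⟩
    exact ⟨(q : K), rfl⟩
  have hle : (MulAction.orbit K b).ncard ≤ (MulAction.orbit Q b).ncard := by
    rw [horb, h6]
    exact Nat.pow_le_pow_right hpp.pos (by omega)
  have heq := Set.eq_of_subset_of_ncard_le hsub hle hfin
  intro a ha
  rw [← heq] at ha
  obtain ⟨q, rfl⟩ := ha
  exact ⟨(q : K), q.2, rfl⟩

/-- Fixed points of an element of prime order on an invariant finite set. -/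
theorem card_modEq_fixed {α : Type*} [DecidableEq α] [Fintype α] (σ : Equiv.Perm α) (p : ℕ)
    [hp : Fact p.Prime] (hσ : σ ^ p = 1) (A : Finset α) (hA : ∀ a, a ∈ A ↔ σ a ∈ A) :
    A.card ≡ (A.filter fun a => σ a = a).card [MOD p] := by
  let τ : Equiv.Perm {a // a ∈ A} := σ.subtypePerm (fun a => (hA a).symm)
  have hτ : τ ^ p ^ 1 = 1 := by
    rw [pow_one]
    ext a
    simp [τ, Equiv.Perm.subtypePerm_pow, hσ]
  have h1 := Equiv.Perm.card_compl_support_modEq hτ
  rw [Fintype.card_coe] at h1
  have h2 : (τ.supportᶜ).card = (A.filter fun a => σ a = a).card := by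
    rw [← Finset.card_map (Function.Embedding.subtype _)]
    congr 1
    ext a
    simp only [Finset.mem_map, Finset.mem_compl, Equiv.Perm.mem_support, not_not,
      Function.Embedding.coe_subtype, Finset.mem_filter]
    constructor
    · rintro ⟨⟨b, hb⟩, hfix, rfl⟩
      refine ⟨hb, ?_⟩
      have := congrArg Subtype.val hfix
      simpa [τ] using this
    · rintro ⟨ha, hfix⟩
      refine ⟨⟨a, ha⟩, ?_, rfl⟩
      apply Subtype.ext
      simpa [τ] using hfix
  rw [h2] at h1
  exact h1.symm

/-- Two elements of prime order `p`, with `p²` not dividing the group order, are conjugate up to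
a power. -/
theorem exists_conj_pow2 [Finite G] (p : ℕ) [Fact p.Prime] (m : ℕ) (hcard : Nat.card G = p * m)
    (hm : ¬ p ∣ m) (t t' : G) (ht : orderOf t = p) (ht' : orderOf t' = p) :
    ∃ g : G, ∃ k : ℕ, g * t' * g⁻¹ = t ^ k := by
  have hG : Nat.card G = p ^ 1 * m := by rw [pow_one, hcard]
  have h0 : Nat.card (Subgroup.zpowers t') = p ^ 1 := by rw [Nat.card_zpowers, ht', pow_one]
  have h1 : Nat.card (Subgroup.zpowers t) = p ^ 1 := by rw [Nat.card_zpowers, ht, pow_one]
  obtain ⟨g, hg⟩ := exists_conj_le p 1 m hG hm _ _ h0 h1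
  have h2 := hg t' (Subgroup.mem_zpowers _)
  rw [Subgroup.mem_zpowers_iff] at h2
  obtain ⟨k, hk⟩ := h2
  have hp : p.Prime := Fact.out
  refine ⟨g, (k % (p : ℤ)).toNat, ?_⟩
  rw [← hk, ← zpow_natCast, Int.toNat_of_nonneg (Int.emod_nonneg _ (by exact_mod_cast hp.pos.ne'))]
  have := zpow_mod_orderOf t k
  rw [ht] at this
  exact this.symm

end Cfsg.Agent.Helper27.Idx253
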