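import Mathlib
import Cfsg.Agent.Lib.Helper27.Idx253a

/-!
# Orbits of subgroups of a symmetric group: generic lemmas

Generic (Mathlib only) tools for the classification of the subgroups of small index of `M24`:
orbit-stabiliser bookkeeping for subgroups of `Equiv.Perm α`, the block lemma, and the
"fixed points of an element of prime order are a union of blocks" contradiction.
-/

set_option autoImplicit false
set_option linter.unusedSectionVars false

namespace Cfsg.Agent.Helper27.Idx759

open scoped Pointwise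
open Cfsg.Agent.Helper27.Idx253

/-- Orbit-stabiliser for a subgroup, in intersection form. -/
theorem card_orbit_mul {G β : Type*} [Group G] [MulAction G β] (H : Subgroup G) (b : β) :
    (MulAction.orbit ↥H b).ncard * Nat.card ↥(H ⊓ MulAction.stabilizer G b) = Nat.card ↥H := by
  have h1 := MulAction.index_stabilizer ↥H b
  have h2 := (MulAction.stabilizer ↥H b).index_mul_card
  have h3 : MulAction.stabilizer ↥H b = (MulAction.stabilizer G b).subgroupOf H := by
    ext h
    rfl
  have h4 : Nat.card ↥(H ⊓ MulAction.stabilizer G b) = Nat.card ↥(MulAction.stabilizer ↥H b) := by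
    rw [h3, inf_comm, ← Subgroup.subgroupOf_map_subtype,
      Subgroup.card_map_of_injective H.subtype_injective]
  rw [h4, ← h1, h2]

section perm

variable {α : Type*} [Fintype α] [DecidableEq α]

/-- The orbit of a point, as a finset. -/
noncomputable def orb (H : Subgroup (Equiv.Perm α)) (x : α) : Finset α := by
  classical exact Finset.univ.filter fun a => ∃ h ∈ H, h x = a

theorem mem_orb {H : Subgroup (Equiv.Perm α)} {x a : α} : a ∈ orb H x ↔ ∃ h ∈ H, h x = a := by
  classical
  unfold orb
  simp

theorem self_mem_orb (H : Subgroup (Equiv.Perm α)) (x : α) : x ∈ orb H x :=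
  mem_orb.mpr ⟨1, H.one_mem, rfl⟩

/-- The point stabiliser. -/
def stb (H : Subgroup (Equiv.Perm α)) (x : α) : Subgroup (Equiv.Perm α) :=
  H ⊓ MulAction.stabilizer (Equiv.Perm α) x

theorem mem_stb {H : Subgroup (Equiv.Perm α)} {x : α} {h : Equiv.Perm α} :
    h ∈ stb H x ↔ h ∈ H ∧ h x = x := by
  unfold stb
  rw [Subgroup.mem_inf, MulAction.mem_stabilizer_iff]
  rfl

theorem stb_le (H : Subgroup (Equiv.Perm α)) (x : α) : stb H x ≤ H := inf_le_left

theorem orbit_eq_orb (H : Subgroup (Equiv.Perm α)) (x : α) :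
    MulAction.orbit ↥H x = ↑(orb H x) := by
  ext a
  rw [Finset.mem_coe, mem_orb]
  constructor
  · rintro ⟨h, rfl⟩
    exact ⟨h.1, h.2, rfl⟩
  · rintro ⟨h, hh, rfl⟩
    exact ⟨⟨h, hh⟩, rfl⟩

/-- Orbit-stabiliser for points. -/
theorem card_orb_mul (H : Subgroup (Equiv.Perm α)) (x : α) :
    (orb H x).card * Nat.card ↥(stb H x) = Nat.card ↥H := by
  have := card_orbit_mul H x
  rw [orbit_eq_orb, Set.ncard_coe_finset] at this
  exact this

theorem orb_card_dvd (H : Subgroup (Equiv.Perm α)) (x : α) : (orb H x).card ∣ Nat.card ↥H :=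
  Dvd.intro _ (card_orb_mul H x)

/-- The orbit is invariant. -/
theorem orb_inv (H : Subgroup (Equiv.Perm α)) (x : α) {h : Equiv.Perm α} (hh : h ∈ H) (a : α) :
    a ∈ orb H x ↔ h a ∈ orb H x := by
  rw [mem_orb, mem_orb]
  constructor
  · rintro ⟨k, hk, rfl⟩
    exact ⟨h * k, H.mul_mem hh hk, rfl⟩
  · rintro ⟨k, hk, e⟩
    refine ⟨h⁻¹ * k, H.mul_mem (H.inv_mem hh) hk, ?_⟩
    rw [Equiv.Perm.mul_apply, e]
    simp

theorem orb_eq_of_mem {H : Subgroup (Equiv.Perm α)} {x y : α} (hy : y ∈ orb H x) :
    orb H y = orb H x := by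
  obtain ⟨k, hk, rfl⟩ := mem_orb.mp hy
  ext a
  rw [mem_orb, mem_orb]
  constructor
  · rintro ⟨h, hh, rfl⟩
    exact ⟨h * k, H.mul_mem hh hk, rfl⟩
  · rintro ⟨h, hh, rfl⟩
    refine ⟨h * k⁻¹, H.mul_mem hh (H.inv_mem hk), ?_⟩
    simp

/-- The fixed points of a permutation. -/
def fixF (g : Equiv.Perm α) : Finset α := Finset.univ.filter fun a => g a = a

theorem mem_fixF {g : Equiv.Perm α} {a : α} : a ∈ fixF g ↔ g a = a := by
  unfold fixF
  simp

/-- Fixed points of an element of prime order on an invariant set, mod `q`. -/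
theorem card_modEq_fixF (g : Equiv.Perm α) (q : ℕ) [Fact q.Prime] (hg : g ^ q = 1)
    (A : Finset α) (hA : ∀ a, a ∈ A ↔ g a ∈ A) : A.card ≡ (A ∩ fixF g).card [MOD q] := by
  have h := card_modEq_fixed g q hg A hA
  have e : (A.filter fun a => g a = a) = A ∩ fixF g := by
    ext a
    simp [mem_fixF]
  rw [e] at h
  exact h

theorem card_fixF_modEq (g : Equiv.Perm α) (q : ℕ) [Fact q.Prime] (hg : g ^ q = 1) :
    Fintype.card α ≡ (fixF g).card [MOD q] := by
  have h := card_modEq_fixF g q hg Finset.univ (by simp)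
  rwa [Finset.univ_inter, Finset.card_univ] at h

/-- A set of fewer than `q` points invariant under an element of order `q` is fixed pointwise. -/
theorem subset_fixF_of_card_lt (g : Equiv.Perm α) (q : ℕ) [Fact q.Prime] (hg : g ^ q = 1)
    (A : Finset α) (hA : ∀ a, a ∈ A ↔ g a ∈ A) (hlt : A.card < q) : A ⊆ fixF g := by
  have h := card_modEq_fixF g q hg A hA
  have hle : (A ∩ fixF g).card ≤ A.card := Finset.card_le_card Finset.inter_subset_left
  have heq : A.card = (A ∩ fixF g).card := by
    have := Nat.ModEq.eq_of_lt_of_lt h hlt (lt_of_le_of_lt hle hlt)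
    exact this
  have : A ∩ fixF g = A := Finset.eq_of_subset_of_card_le Finset.inter_subset_left heq.le
  rw [← this]
  exact Finset.inter_subset_right

theorem smul_finset_eq_iff {g : Equiv.Perm α} {A : Finset α} :
    g • A = A ↔ ∀ a, a ∈ A ↔ g a ∈ A := by
  constructor
  · intro h a
    constructor
    · intro ha
      rw [← h]
      exact Finset.smul_mem_smul_finset ha
    · intro ha
      rw [← h] at ha
      obtain ⟨b, hb, e⟩ := Finset.mem_smul_finset.mp ha
      have : b = a := g.injective e
      rwa [← this]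
  · intro h
    apply Finset.eq_of_subset_of_card_le
    · intro b hb
      obtain ⟨a, ha, rfl⟩ := Finset.mem_smul_finset.mp hb
      exact (h a).mp ha
    · rw [Finset.card_smul_finset]

theorem mem_smul_finset_iff {g : Equiv.Perm α} {A : Finset α} {a : α} :
    a ∈ g • A ↔ g⁻¹ a ∈ A := by
  constructor
  · intro ha
    obtain ⟨b, hb, rfl⟩ := Finset.mem_smul_finset.mp ha
    simpa using hb
  · intro ha
    have := Finset.smul_mem_smul_finset (a := g) ha
    simpa using this

theorem apply_mem_smul_finset {g : Equiv.Perm α} {A : Finset α} {a : α} (ha : a ∈ A) :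
    g a ∈ g • A := Finset.smul_mem_smul_finset ha

/-- **Block lemma.** If the point stabiliser `H_p` of a transitive group `H` stabilises a set `T`
through `p`, is transitive outside `T`, and `(|T|-1)² < n - |T|`, then `T` is a block. -/
theorem block_lemma (H : Subgroup (Equiv.Perm α)) (htr : ∀ a b : α, ∃ h ∈ H, h a = b)
    (p : α) (T : Finset α) (hpT : p ∈ T)
    (hinv : ∀ h ∈ H, h p = p → h • T = T)
    (htrC : ∀ a ∉ T, ∀ b ∉ T, ∃ h ∈ H, h p = p ∧ h a = b)
    (hnum : (T.card - 1) * (T.card - 1) < Fintype.card α - T.card) :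
    ∀ k ∈ H, ∀ s ∈ T, k s ∈ T → k • T = T := by
  classical
  -- first the case `s = p`
  have step1 : ∀ k ∈ H, k p ∈ T → k • T = T := by
    intro k hk hy
    by_contra hne
    set y := k p with hy_def
    have hyp : y ≠ p := by
      intro e
      exact hne (hinv k hk e)
    -- a point of `k • T` outside `T`
    obtain ⟨z, hzT', hzT⟩ : ∃ z, z ∈ k • T ∧ z ∉ T := by
      by_contra hcon
      push Not at hcon
      apply hne
      exact Finset.eq_of_subset_of_card_le hcon (by rw [Finset.card_smul_finset])
    set Hp := stb H p with hHp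
    set K := stb Hp y with hK
    have hKmem : ∀ h, h ∈ K ↔ h ∈ H ∧ h p = p ∧ h y = y := by
      intro h
      rw [hK, mem_stb, hHp, mem_stb]
      tauto
    -- (a) the orbit of `z` under `H_p`
    have ha : (orb Hp z).card = Fintype.card α - T.card := by
      have : orb Hp z = Tᶜ := by
        ext b
        rw [mem_orb, Finset.mem_compl]
        constructor
        · rintro ⟨h, hh, rfl⟩ hb
          rw [hHp, mem_stb] at hh
          have := hinv h hh.1 hh.2
          exact hzT ((smul_finset_eq_iff.mp this z).mpr hb)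
        · intro hb
          obtain ⟨h, hh, hhp, e⟩ := htrC z hzT b hb
          exact ⟨h, mem_stb.mpr ⟨hh, hhp⟩, e⟩
      rw [this, Finset.card_compl]
    -- (b) the orbit of `y` under `H_p`
    have hb : (orb Hp y).card ≤ T.card - 1 := by
      have hsub : orb Hp y ⊆ T.erase p := by
        intro b hb
        obtain ⟨h, hh, rfl⟩ := mem_orb.mp hb
        rw [hHp, mem_stb] at hh
        rw [Finset.mem_erase]
        refine ⟨?_, (smul_finset_eq_iff.mp (hinv h hh.1 hh.2) y).mp hy⟩
        intro e
        apply hyp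
        apply h.injective
        rw [e, hh.2]
      calc (orb Hp y).card ≤ (T.erase p).card := Finset.card_le_card hsub
        _ = T.card - 1 := Finset.card_erase_of_mem hpT
    -- (c) the orbit of `z` under `K`
    have hc : (orb K z).card ≤ T.card - 1 := by
      have hsub : orb K z ⊆ (k • T).erase y \ T := by
        intro b hb
        obtain ⟨h, hh, rfl⟩ := mem_orb.mp hb
        rw [hKmem] at hh
        obtain ⟨hhH, hhp, hhy⟩ := hh
        have h1 : h • T = T := hinv h hhH hhp
        have h2 : h • (k • T) = k • T := by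
          have h3 : (k⁻¹ * h * k) • T = T := by
            apply hinv _ (H.mul_mem (H.mul_mem (H.inv_mem hk) hhH) hk)
            rw [Equiv.Perm.mul_apply, Equiv.Perm.mul_apply, ← hy_def, hhy, hy_def]
            simp
          rw [mul_smul, mul_smul, inv_smul_eq_iff] at h3
          exact h3
        rw [Finset.mem_sdiff, Finset.mem_erase]
        refine ⟨⟨?_, (smul_finset_eq_iff.mp h2 z).mp hzT'⟩, ?_⟩
        · intro e
          rw [← hhy] at e
          have : z = y := h.injective e
          rw [this] at hzT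
          exact hzT hy
        · intro hcon
          exact hzT ((smul_finset_eq_iff.mp h1 z).mpr hcon)
      have hyT' : y ∈ k • T := apply_mem_smul_finset hpT
      calc (orb K z).card ≤ ((k • T).erase y \ T).card := Finset.card_le_card hsub
        _ ≤ ((k • T).erase y).card := Finset.card_le_card Finset.sdiff_subset
        _ = T.card - 1 := by rw [Finset.card_erase_of_mem hyT', Finset.card_smul_finset]
    -- (d) numbers
    have e1 := card_orb_mul Hp z
    have e2 := card_orb_mul Hp y
    have e3 := card_orb_mul K z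
    rw [← hK] at e2
    have hle : Nat.card ↥(stb K z) ≤ Nat.card ↥(stb Hp z) := by
      apply Subgroup.card_le_of_le
      intro h hh
      rw [mem_stb] at hh ⊢
      exact ⟨stb_le Hp y hh.1, hh.2⟩
    have hpos : 0 < Nat.card ↥(stb Hp z) := Nat.card_pos
    rw [ha] at e1
    have h4 : (Fintype.card α - T.card) * Nat.card ↥(stb Hp z) ≤
        (T.card - 1) * (T.card - 1) * Nat.card ↥(stb Hp z) := by
      calc (Fintype.card α - T.card) * Nat.card ↥(stb Hp z) = Nat.card ↥Hp := e1
        _ = (orb Hp y).card * ((orb K z).card * Nat.card ↥(stb K z)) := by rw [e3, e2]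
        _ ≤ (T.card - 1) * ((T.card - 1) * Nat.card ↥(stb Hp z)) :=
            Nat.mul_le_mul hb (Nat.mul_le_mul hc hle)
        _ = (T.card - 1) * (T.card - 1) * Nat.card ↥(stb Hp z) := by ring
    have h5 := Nat.le_of_mul_le_mul_right h4 hpos
    omega
  intro k hk s hs hks
  obtain ⟨m, hm, hmp⟩ := htr p s
  have h1 : m • T = T := step1 m hm (by rw [hmp]; exact hs)
  have h2 : (k * m) • T = T := step1 (k * m) (H.mul_mem hk hm) (by
    rw [Equiv.Perm.mul_apply, hmp]; exact hks)
  rw [mul_smul, h1] at h2
  exact h2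

/-- **Blocks and fixed points.** Under the hypotheses of the block lemma, an element of prime
order `q > |T|` of `H` cannot have exactly `|T| + 1` fixed points. -/
theorem no_fix_succ (H : Subgroup (Equiv.Perm α)) (htr : ∀ a b : α, ∃ h ∈ H, h a = b)
    (p : α) (T : Finset α) (hpT : p ∈ T)
    (hinv : ∀ h ∈ H, h p = p → h • T = T)
    (htrC : ∀ a ∉ T, ∀ b ∉ T, ∃ h ∈ H, h p = p ∧ h a = b)
    (hnum : (T.card - 1) * (T.card - 1) < Fintype.card α - T.card) (hT2 : 2 ≤ T.card)
    (g : Equiv.Perm α) (hg : g ∈ H) (q : ℕ) [Fact q.Prime] (hgq : g ^ q = 1) (hlt : T.card < q)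
    (hfix : (fixF g).card = T.card + 1) : False := by
  classical
  have hblock := block_lemma H htr p T hpT hinv htrC hnum
  -- every fixed point lies in a fixed translate of `T`
  have key : ∀ x ∈ fixF g, ∃ k ∈ H, x ∈ k • T ∧ k • T ⊆ fixF g := by
    intro x hx
    obtain ⟨k, hk, hkp⟩ := htr p x
    refine ⟨k, hk, by rw [← hkp]; exact apply_mem_smul_finset hpT, ?_⟩
    have h1 : (k⁻¹ * g * k) • T = T := by
      apply hinv _ (H.mul_mem (H.mul_mem (H.inv_mem hk) hg) hk)
      rw [Equiv.Perm.mul_apply, Equiv.Perm.mul_apply, hkp, mem_fixF.mp hx, ← hkp]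
      simp
    rw [mul_smul, mul_smul, inv_smul_eq_iff] at h1
    apply subset_fixF_of_card_lt g q hgq (k • T) (smul_finset_eq_iff.mp h1)
    rw [Finset.card_smul_finset]
    exact hlt
  have hne : (fixF g).Nonempty := by
    rw [← Finset.card_pos, hfix]
    omega
  obtain ⟨x1, hx1⟩ := hne
  obtain ⟨k1, hk1, hx1k, hsub1⟩ := key x1 hx1
  -- the remaining fixed point
  have hcard : (fixF g \ k1 • T).card = 1 := by
    rw [Finset.card_sdiff_of_subset hsub1, hfix, Finset.card_smul_finset]
    omega
  obtain ⟨x4, hx4⟩ := Finset.card_eq_one.mp hcard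
  have hx4mem : x4 ∈ fixF g \ k1 • T := by rw [hx4]; exact Finset.mem_singleton_self _
  rw [Finset.mem_sdiff] at hx4mem
  obtain ⟨k4, hk4, hx4k, hsub4⟩ := key x4 hx4mem.1
  -- the two translates meet
  have hmeet : ∃ z, z ∈ k1 • T ∧ z ∈ k4 • T := by
    by_contra hcon
    push Not at hcon
    have hdisj : Disjoint (k1 • T) (k4 • T) := by
      rw [Finset.disjoint_left]
      exact hcon
    have hle : (k1 • T ∪ k4 • T).card ≤ (fixF g).card :=
      Finset.card_le_card (Finset.union_subset hsub1 hsub4)
    rw [Finset.card_union_of_disjoint hdisj, Finset.card_smul_finset, Finset.card_smul_finset,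
      hfix] at hle
    omega
  obtain ⟨z, hz1, hz4⟩ := hmeet
  rw [mem_smul_finset_iff] at hz1 hz4
  have h2 : (k4⁻¹ * k1) • T = T := by
    apply hblock _ (H.mul_mem (H.inv_mem hk4) hk1) (k1⁻¹ z) hz1
    rw [Equiv.Perm.mul_apply]
    simpa using hz4
  rw [mul_smul, inv_smul_eq_iff] at h2
  rw [h2] at hx4mem
  exact hx4mem.2 hx4k

end perm

end Cfsg.Agent.Helper27.Idx759
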