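import Mathlib
import Cfsg.Agent.Lib.Helper27.Idx759a

/-!
# A simplicity criterion for a rank 3 group of degree 100 with simple point stabiliser
-/

set_option autoImplicit false
set_option linter.unusedSectionVars false
set_option linter.unusedVariables false

namespace Cfsg.Agent.Helper27.HS

open Cfsg.Agent.Helper27.Idx759

section Generic

variable {P : Type*} [Group P]

/-- Simplicity of a subgroup, phrased inside the ambient group. -/
theorem isSimpleGroup_of_forall_le (H : Subgroup P) (hne : H ≠ ⊥)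
    (h : ∀ N : Subgroup P, N ≤ H → (∀ g ∈ H, ∀ n ∈ N, g * n * g⁻¹ ∈ N) → N = ⊥ ∨ N = H) :
    IsSimpleGroup ↥H := by
  haveI : Nontrivial ↥H := (Subgroup.nontrivial_iff_ne_bot H).mpr hne
  refine ⟨fun N hN => ?_⟩
  have h1 := h (N.map H.subtype) (Subgroup.map_subtype_le N) (by
    rintro g hg _ ⟨n, hn, rfl⟩
    exact ⟨⟨g, hg⟩ * n * ⟨g, hg⟩⁻¹, hN.conj_mem n hn ⟨g, hg⟩, rfl⟩)
  rcases h1 with h1 | h1
  · left
    exact (Subgroup.map_eq_bot_iff_of_injective N H.subtype_injective).mp h1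
  · right
    rw [eq_top_iff]
    intro g _
    have h2 : (g : P) ∈ N.map H.subtype := by rw [h1]; exact g.2
    obtain ⟨n, hn, hng⟩ := h2
    have h3 : n = g := Subtype.ext hng
    rwa [← h3]

/-- Normal subgroups of a simple subgroup, phrased inside the ambient group. -/
theorem eq_bot_or_eq_of_simple (K : Subgroup P) [hK : IsSimpleGroup ↥K] (M : Subgroup P)
    (hM : M ≤ K) (hn : ∀ g ∈ K, ∀ m ∈ M, g * m * g⁻¹ ∈ M) : M = ⊥ ∨ M = K := by
  have hnorm : (M.subgroupOf K).Normal := ⟨fun m hm g => by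
    rw [Subgroup.mem_subgroupOf] at hm ⊢
    exact hn g g.2 m hm⟩
  rcases hnorm.eq_bot_or_eq_top with h | h
  · left
    rw [Subgroup.subgroupOf_eq_bot] at h
    exact h.eq_bot_of_le hM
  · right
    rw [Subgroup.subgroupOf_eq_top] at h
    exact le_antisymm hM h

end Generic

section Rank3

variable {X : Type*} (H : Subgroup (Equiv.Perm X)) [Finite H] (Ω : Set X) (x : X) (hx : x ∈ Ω)
  (hinv : ∀ h ∈ H, ∀ y ∈ Ω, h y ∈ Ω) (htrans : ∀ y ∈ Ω, ∃ h ∈ H, h x = y)
  (hfaith : ∀ h ∈ H, (∀ y ∈ Ω, h y = y) → h = 1)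
  (hΩ : Ω.ncard = 100) (Δ Γ' : Set X) (hdec : Ω = {x} ∪ Δ ∪ Γ') (hΔ : Δ.ncard = 22)
  (hΓ : Γ'.ncard = 77) (hxΔ : x ∉ Δ) (hxΓ : x ∉ Γ') (hdisj : ∀ y ∈ Δ, y ∉ Γ')
  (hΔt : ∀ y ∈ Δ, ∀ y' ∈ Δ, ∃ h ∈ H, h x = x ∧ h y = y')
  (hΓt : ∀ y ∈ Γ', ∀ y' ∈ Γ', ∃ h ∈ H, h x = x ∧ h y = y')
  (hcard : Nat.card H = 44352000)
include hx hinv htrans hfaith hΩ hdec hΔ hΓ hxΔ hxΓ hdisj hΔt hΓt hcard

/-- A nontrivial normal subgroup is transitive. -/
theorem orbit_eq_of_normal (N : Subgroup (Equiv.Perm X)) (hNH : N ≤ H)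
    (hnorm : ∀ g ∈ H, ∀ n ∈ N, g * n * g⁻¹ ∈ N) (hN : N ≠ ⊥) :
    MulAction.orbit ↥N x = Ω := by
  classical
  have hΔfin : Δ.Finite := Set.finite_of_ncard_ne_zero (by rw [hΔ]; norm_num)
  have hΓfin : Γ'.Finite := Set.finite_of_ncard_ne_zero (by rw [hΓ]; norm_num)
  have hΩfin : Ω.Finite := Set.finite_of_ncard_ne_zero (by rw [hΩ]; norm_num)
  set B : Set X := MulAction.orbit ↥N x with hB
  have hmemB : ∀ y, y ∈ B ↔ ∃ n ∈ N, n x = y := by
    intro y
    constructor
    · rintro ⟨n, rfl⟩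
      exact ⟨n.1, n.2, rfl⟩
    · rintro ⟨n, hn, rfl⟩
      exact ⟨⟨n, hn⟩, rfl⟩
  have hBsub : B ⊆ Ω := by
    intro y hy
    obtain ⟨n, hn, rfl⟩ := (hmemB y).mp hy
    exact hinv n (hNH hn) x hx
  have hBx : x ∈ B := MulAction.mem_orbit_self x
  have hBdvd : B.ncard ∣ 44352000 := by
    have h1 := card_orbit_mul N x
    have h2 : B.ncard ∣ Nat.card ↥N := Dvd.intro _ h1
    have h3 : Nat.card ↥N ∣ Nat.card ↥H := Subgroup.card_dvd_of_le hNH
    rw [hcard] at h3
    exact h2.trans h3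
  have hBinv : ∀ h ∈ H, h x = x → ∀ y ∈ B, h y ∈ B := by
    intro h hh hhx y hy
    obtain ⟨n, hn, rfl⟩ := (hmemB y).mp hy
    rw [hmemB]
    refine ⟨h * n * h⁻¹, hnorm h hh n hn, ?_⟩
    have h1 : h⁻¹ x = x := by
      conv_lhs => rw [← hhx]
      simp
    simp [Equiv.Perm.mul_apply, h1]
  have hΔB : (∃ d ∈ Δ, d ∈ B) → Δ ⊆ B := by
    rintro ⟨d, hd, hdB⟩ y' hy'
    obtain ⟨h, hh, hhx, hhd⟩ := hΔt d hd y' hy'
    rw [← hhd]
    exact hBinv h hh hhx d hdB
  have hΓB : (∃ d ∈ Γ', d ∈ B) → Γ' ⊆ B := by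
    rintro ⟨d, hd, hdB⟩ y' hy'
    obtain ⟨h, hh, hhx, hhd⟩ := hΓt d hd y' hy'
    rw [← hhd]
    exact hBinv h hh hhx d hdB
  by_cases h1 : ∃ d ∈ Δ, d ∈ B
  · by_cases h2 : ∃ d ∈ Γ', d ∈ B
    · apply le_antisymm hBsub
      rw [hdec]
      intro y hy
      rcases hy with (hy | hy) | hy
      · rw [Set.mem_singleton_iff] at hy
        rw [hy]; exact hBx
      · exact hΔB h1 hy
      · exact hΓB h2 hy
    · exfalso
      have hBeq : B = insert x Δ := by
        apply le_antisymm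
        · intro y hy
          have hyΩ := hBsub hy
          rw [hdec] at hyΩ
          rcases hyΩ with (hy' | hy') | hy'
          · rw [Set.mem_singleton_iff] at hy'
            rw [hy']; exact Set.mem_insert _ _
          · exact Set.mem_insert_of_mem _ hy'
          · exact absurd ⟨y, hy', hy⟩ h2
        · intro y hy
          rcases hy with hy | hy
          · rw [hy]; exact hBx
          · exact hΔB h1 hy
      rw [hBeq, Set.ncard_insert_of_notMem hxΔ hΔfin, hΔ] at hBdvd
      norm_num at hBdvd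
  · by_cases h2 : ∃ d ∈ Γ', d ∈ B
    · exfalso
      have hBeq : B = insert x Γ' := by
        apply le_antisymm
        · intro y hy
          have hyΩ := hBsub hy
          rw [hdec] at hyΩ
          rcases hyΩ with (hy' | hy') | hy'
          · rw [Set.mem_singleton_iff] at hy'
            rw [hy']; exact Set.mem_insert _ _
          · exact absurd ⟨y, hy', hy⟩ h1
          · exact Set.mem_insert_of_mem _ hy'
        · intro y hy
          rcases hy with hy | hy
          · rw [hy]; exact hBx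
          · exact hΓB h2 hy
      rw [hBeq, Set.ncard_insert_of_notMem hxΓ hΓfin, hΓ] at hBdvd
      norm_num at hBdvd
    · exfalso
      apply hN
      have hfix : ∀ n ∈ N, n x = x := by
        intro n hn
        have hy : n x ∈ B := (hmemB _).mpr ⟨n, hn, rfl⟩
        have hyΩ := hBsub hy
        rw [hdec] at hyΩ
        rcases hyΩ with (hy' | hy') | hy'
        · exact hy'
        · exact absurd ⟨_, hy', hy⟩ h1
        · exact absurd ⟨_, hy', hy⟩ h2
      rw [Subgroup.eq_bot_iff_forall]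
      intro n hn
      apply hfaith n (hNH hn)
      intro y hy
      obtain ⟨h, hh, rfl⟩ := htrans y hy
      have h3 : h⁻¹ * n * h⁻¹⁻¹ ∈ N := hnorm h⁻¹ (H.inv_mem hh) n hn
      have h4 := hfix _ h3
      have h5 : n (h x) = h ((h⁻¹ * n * h⁻¹⁻¹) x) := by
        simp [Equiv.Perm.mul_apply]
      rw [h5, h4]

/-- **Simplicity criterion**: a rank 3 group of degree 100 (subdegrees 22 and 77) of order
`44352000` with simple point stabiliser is simple. -/
theorem simple_of_rank3
    (hsimple : IsSimpleGroup ↥(H ⊓ MulAction.stabilizer (Equiv.Perm X) x)) :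
    IsSimpleGroup ↥H := by
  classical
  have horb := orbit_eq_of_normal H Ω x hx hinv htrans hfaith hΩ Δ Γ' hdec hΔ hΓ hxΔ hxΓ hdisj
    hΔt hΓt hcard
  apply isSimpleGroup_of_forall_le
  · intro hbot
    rw [hbot] at hcard
    simp at hcard
  intro N hNH hnorm
  by_cases hN : N = ⊥
  · exact Or.inl hN
  right
  have hNorb := horb N hNH hnorm hN
  set Hx := H ⊓ MulAction.stabilizer (Equiv.Perm X) x with hHx
  set Nx := N ⊓ MulAction.stabilizer (Equiv.Perm X) x with hNx
  have hNxHx : Nx ≤ Hx := inf_le_inf_right _ hNH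
  have hNxnorm : ∀ g ∈ Hx, ∀ m ∈ Nx, g * m * g⁻¹ ∈ Nx := by
    intro g hg m hm
    rw [hHx, Subgroup.mem_inf] at hg
    rw [hNx, Subgroup.mem_inf] at hm ⊢
    exact ⟨hnorm g hg.1 m hm.1, Subgroup.mul_mem _ (Subgroup.mul_mem _ hg.2 hm.2)
      (Subgroup.inv_mem _ hg.2)⟩
  rcases eq_bot_or_eq_of_simple Hx Nx hNxHx hNxnorm with h | h
  · -- regular normal subgroup of order 100: impossible
    exfalso
    have h1 := card_orbit_mul N x
    rw [← hNx, h, Subgroup.card_bot, mul_one, hNorb, hΩ] at h1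
    -- `h1 : 100 = Nat.card N`
    haveI : Finite ↥N := Nat.finite_of_card_ne_zero (by rw [← h1]; norm_num)
    haveI : Fact (Nat.Prime 5) := ⟨by norm_num⟩
    obtain ⟨P5⟩ : Nonempty (Sylow 5 ↥N) := inferInstance
    have hP25 : Nat.card ↥(P5 : Subgroup ↥N) = 25 := by
      obtain ⟨k, hk⟩ := (IsPGroup.iff_card).mp P5.isPGroup'
      have h2 : 5 ^ 2 ∣ Nat.card ↥(P5 : Subgroup ↥N) :=
        P5.pow_dvd_card_of_pow_dvd_card (by rw [← h1]; norm_num)
      have h3 : Nat.card ↥(P5 : Subgroup ↥N) ∣ 100 := by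
        rw [h1]; exact Subgroup.card_subgroup_dvd_card _
      rw [hk] at h2 h3 ⊢
      have hk2 : k ≤ 2 := by
        by_contra hk3
        have : 5 ^ 3 ∣ 5 ^ k := pow_dvd_pow 5 (by omega)
        have := this.trans h3
        norm_num at this
      interval_cases k
      · norm_num at h2
      · norm_num at h2
      · norm_num
    have hidx : (P5 : Subgroup ↥N).index = 4 := by
      have := (P5 : Subgroup ↥N).index_mul_card
      rw [hP25, ← h1] at this
      omega
    have hone : Nat.card (Sylow 5 ↥N) = 1 := by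
      have h2 := card_sylow_modEq_one 5 ↥N
      have h3 := P5.card_dvd_index
      rw [hidx] at h3
      have h4 : Nat.card (Sylow 5 ↥N) ≤ 4 := Nat.le_of_dvd (by norm_num) h3
      have h5 : Nat.card (Sylow 5 ↥N) % 5 = 1 := h2
      interval_cases hc : Nat.card (Sylow 5 ↥N) <;> simp_all
    haveI : Subsingleton (Sylow 5 ↥N) := (Nat.card_eq_one_iff_unique.mp hone).1
    have hchar : (P5 : Subgroup ↥N).Characteristic := inferInstance
    set Q : Subgroup (Equiv.Perm X) := (P5 : Subgroup ↥N).map N.subtype with hQ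
    have hQN : Q ≤ N := Subgroup.map_subtype_le _
    have hQcard : Nat.card ↥Q = 25 := by
      rw [hQ, Subgroup.card_map_of_injective N.subtype_injective, hP25]
    have hQnorm : ∀ g ∈ H, ∀ q ∈ Q, g * q * g⁻¹ ∈ Q := by
      intro g hg q hq
      obtain ⟨n, hn, rfl⟩ := hq
      -- conjugation by `g` as an automorphism of `N`
      let φ : ↥N ≃* ↥N :=
        { toFun := fun m => ⟨g * m * g⁻¹, hnorm g hg m m.2⟩
          invFun := fun m => ⟨g⁻¹ * m * g, by
            have := hnorm g⁻¹ (H.inv_mem hg) m m.2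
            rwa [inv_inv] at this⟩
          left_inv := fun m => Subtype.ext (by simp [mul_assoc])
          right_inv := fun m => Subtype.ext (by simp [mul_assoc])
          map_mul' := fun a b => Subtype.ext (by simp [mul_assoc]) }
      have h2 := (Subgroup.characteristic_iff_map_eq.mp hchar) φ
      have h3 : φ n ∈ (P5 : Subgroup ↥N) := by
        rw [← h2]
        exact ⟨n, hn, rfl⟩
      exact ⟨φ n, h3, rfl⟩
    have hQne : Q ≠ ⊥ := by
      intro hbot
      rw [hbot, Subgroup.card_bot] at hQcard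
      norm_num at hQcard
    have hQorb := horb Q (hQN.trans hNH) hQnorm hQne
    have h2 := card_orbit_mul Q x
    rw [hQorb, hΩ, hQcard] at h2
    have : (100 : ℕ) ∣ 25 := Dvd.intro _ h2
    norm_num at this
  · -- `N` contains the point stabiliser and is transitive
    apply le_antisymm hNH
    intro g hg
    have hgx : g x ∈ Ω := hinv g hg x hx
    rw [← hNorb] at hgx
    obtain ⟨n, hn⟩ := hgx
    have hn' : (n : Equiv.Perm X) x = g x := hn
    have h2 : (n : Equiv.Perm X)⁻¹ * g ∈ Hx := by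
      rw [hHx, Subgroup.mem_inf]
      refine ⟨H.mul_mem (H.inv_mem (hNH n.2)) hg, ?_⟩
      rw [MulAction.mem_stabilizer_iff]
      show ((n : Equiv.Perm X)⁻¹ * g) x = x
      rw [Equiv.Perm.mul_apply, ← hn']
      simp
    have h3 : (n : Equiv.Perm X)⁻¹ * g ∈ N := by
      have : Hx ≤ N := by rw [← h]; exact inf_le_left
      exact this h2
    have h4 := N.mul_mem n.2 h3
    rwa [mul_inv_cancel_left] at h4

end Rank3

end Cfsg.Agent.Helper27.HS
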