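import Cfsg.Agent.Lib.Helper27.HSa
import Cfsg.Agent.Lib.Helper7.HS22
import Cfsg.Agent.Lib.Helper7.Co0Order
import Cfsg.Agent.S0378
import Cfsg.Agent.S0379

/-!
# The joint stabiliser of two vectors of norm 48 with inner product -32: orders
-/

set_option autoImplicit false

namespace Cfsg.Agent.Helper27.HS
open Cfsg Cfsg.Agent.Helper7 Cfsg.Agent.Helper91 Cfsg.Agent.Helper92

/-! ### Orders of the stabilisers -/

theorem card_stab48 (v : leechLattice) (hv : sqNorm v.1 = 48) :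
    Nat.card ↥(stabIn Co0 v) = 495766656000 := by
  have h1 := card_eq_orbit_mul Co0 v
  have h2 : Nat.card (MulAction.orbit Co0 v) = 16773120 := by
    have hset : (MulAction.orbit Co0 v : Set leechLattice) =
        ↑(shortSet 48 (by norm_num)) := by
      ext w
      rw [Finset.mem_coe, mem_shortSet, MulAction.mem_orbit_iff]
      constructor
      · rintro ⟨g, rfl⟩
        show sqNorm (g.1 v).1 = _
        rw [g.2.2, hv]
        norm_num
      · intro hw
        exact (co0_trans48 v w hv (by rw [hw]; norm_num)).smul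
    rw [hset, Nat.card_coe_set_eq, Set.ncard_coe_finset, card_shortSet, leechNum_48]
  rw [card_Co0, h2] at h1
  omega

theorem stab_pair_eq (v w : leechLattice) :
    stabIn (stabIn Co0 v) w = stabIn (stabIn Co0 v) (-(v + w)) := by
  ext g
  simp only [mem_stabIn]
  constructor
  · rintro ⟨⟨hg, hgv⟩, hgw⟩
    refine ⟨⟨hg, hgv⟩, ?_⟩
    rw [co0_neg g hg, hg.1, hgv, hgw]
  · rintro ⟨⟨hg, hgv⟩, hgz⟩
    refine ⟨⟨hg, hgv⟩, ?_⟩
    rw [co0_neg g hg, hg.1, hgv, neg_inj] at hgz
    exact add_left_cancel hgz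

theorem card_stab_pair (v w : leechLattice) (hv : sqNorm v.1 = 48) (hw : sqNorm w.1 = 48)
    (hvw : dotInt v.1 w.1 = -32) : Nat.card ↥(stabIn (stabIn Co0 v) w) = 44352000 := by
  rw [stab_pair_eq]
  have h1 := card_eq_orbit_mul (stabIn Co0 v) (-(v + w))
  have h2 : Nat.card (MulAction.orbit (stabIn Co0 v) (-(v + w))) = 11178 := by
    have hset : (MulAction.orbit (stabIn Co0 v) (-(v + w)) : Set leechLattice) = X40 v := by
      ext y
      rw [mem_orbit_iff']
      constructor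
      · rintro ⟨g, hg, rfl⟩
        rw [mem_stabIn] at hg
        have hz := neg_sum_mem_X40 v w hv hw hvw
        refine ⟨by rw [hg.1.2]; exact hz.1, ?_⟩
        have := co0_dot g hg.1 v (-(v + w))
        rw [hg.2] at this
        rw [this]
        exact hz.2
      · intro hy
        obtain ⟨g, hg, hgv, hgz⟩ := trans40 v hv _ _ (neg_sum_mem_X40 v w hv hw hvw) hy
        exact ⟨g, mem_stabIn.mpr ⟨hg, hgv⟩, hgz⟩
    rw [hset, Nat.card_coe_set_eq, ncard_X40 v hv]
  rw [card_stab48 v hv, h2] at h1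
  omega

theorem card_stab_triple (v w x : leechLattice) (hv : sqNorm v.1 = 48) (hw : sqNorm w.1 = 48)
    (hvw : dotInt v.1 w.1 = -32) (hx : x ∈ X100 v w) :
    Nat.card ↥(stabIn (stabIn (stabIn Co0 v) w) x) = 443520 := by
  have h1 := card_eq_orbit_mul (stabIn (stabIn Co0 v) w) x
  have h2 : Nat.card (MulAction.orbit (stabIn (stabIn Co0 v) w) x) = 100 := by
    have hset : (MulAction.orbit (stabIn (stabIn Co0 v) w) x : Set leechLattice) = X100 v w := by
      ext y
      rw [mem_orbit_iff']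
      constructor
      · rintro ⟨g, hg, rfl⟩
        rw [mem_stabIn, mem_stabIn] at hg
        have := X100_map g hg.1.1 v w x hx
        rwa [hg.1.2, hg.2] at this
      · intro hy
        obtain ⟨g, hg, hgv, hgw, hgx⟩ := (trans100 v w hv hw hvw).2 x hx y hy
        exact ⟨g, mem_stabIn.mpr ⟨mem_stabIn.mpr ⟨hg, hgv⟩, hgw⟩, hgx⟩
    rw [hset, Nat.card_coe_set_eq, (trans100 v w hv hw hvw).1]
  rw [card_stab_pair v w hv hw hvw, h2] at h1
  omega

/-! ### Conjugation -/

theorem stab_conj (g : Equiv.Perm leechLattice) (hg : g ∈ Co0) (v w : leechLattice) :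
    stabIn (stabIn Co0 (g v)) (g w) =
      (stabIn (stabIn Co0 v) w).map (MulAut.conj g).toMonoidHom := by
  ext h
  simp only [Subgroup.mem_map, mem_stabIn, MulEquiv.coe_toMonoidHom, MulAut.conj_apply]
  constructor
  · rintro ⟨⟨hh, hv⟩, hw⟩
    refine ⟨g⁻¹ * h * g, ⟨⟨Co0.mul_mem (Co0.mul_mem (Co0.inv_mem hg) hh) hg, ?_⟩, ?_⟩, by group⟩
    · simp [Equiv.Perm.mul_apply, hv]
    · simp [Equiv.Perm.mul_apply, hw]
  · rintro ⟨k, ⟨⟨hk, hv⟩, hw⟩, rfl⟩
    refine ⟨⟨Co0.mul_mem (Co0.mul_mem hg hk) (Co0.inv_mem hg), ?_⟩, ?_⟩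
    · simp [Equiv.Perm.mul_apply, hv]
    · simp [Equiv.Perm.mul_apply, hw]

/-- the subgroup of `Co0` as a subgroup of the symmetric group -/
theorem stab_map_subtype (v w : leechLattice) :
    (MulAction.stabilizer Co0 v ⊓ MulAction.stabilizer Co0 w).map Co0.subtype =
      stabIn (stabIn Co0 v) w := by
  ext h
  simp only [Subgroup.mem_map, Subgroup.mem_inf, MulAction.mem_stabilizer_iff]
  constructor
  · rintro ⟨k, ⟨hv, hw⟩, rfl⟩
    exact ⟨⟨k.2, hv⟩, hw⟩
  · rintro ⟨⟨hh, hv⟩, hw⟩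
    exact ⟨⟨h, hh⟩, ⟨hv, hw⟩, rfl⟩

end Cfsg.Agent.Helper27.HS
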