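import Mathlib
import Cfsg.Agent.Lib.Helper27.M23Gen
import Cfsg.Agent.Lib.Helper27.Trans
import Cfsg.Agent.Lib.Helper27.Pairs
import Cfsg.Agent.Lib.Helper27.Duads
import Cfsg.Agent.Lib.Helper27.Idx253a

/-!
# Certificates for the subgroups of index 253 of `M23` (helper27)

`M23` (the stabiliser of `∞`) is transitive on the 253 octads through `∞` and on the 253 duads
avoiding `∞`; the corresponding stabilisers have order 40320; the stabiliser of `∞` and of the octad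
`oct0` is transitive on the 16 points outside `oct0`.
-/

set_option autoImplicit false
set_option maxRecDepth 1000000
open scoped Pointwise
open Cfsg

namespace Cfsg.Agent.Helper27.Idx253

open Cfsg.Agent.Helper27

/-! ### Data -/

/-- Generators (with inverses) of the stabiliser of the point `∞` (index 23). -/
def gens23 : List (ℕ × ℕ) :=
  [(962778699772308233681073341207908801, 983258428553238393053583307910267914),
   (983258428553238393053583307910267914, 962778699772308233681073341207908801),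
   (982095125267594744229723506300062774, 955857145805121132139958769188680748),
   (955857145805121132139958769188680748, 982095125267594744229723506300062774)]

/-- Words carrying `oct0` to the octads through `∞`. -/
def words8 : List (List ℕ) :=
  [[], [1,2], [0,0,2,2,2], [3,1,1], [1,3,0,0,3,3], [0,0,3,3,0], [3,1,2,0], [1,3,0,3,1], [2,0,2,2],
   [0,0,3,1,1], [0,3,3,3], [0,2,2,0,2], [0,2,0,2,1,1], [2,0,0,2,1], [1,1,1,1,3], [0,3],
   [0,2,1,1,3], [1,3,3,0,3], [0,0,2,1,2,1,1], [0,2,0,2], [0,0,3], [2,2,2,1], [1,2,0,3,0],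
   [0,0,2,0], [3,3,0,3], [1,3,0,3,0], [2,1,3,1,3,3], [1,2,0,2], [3,0,0,0,3], [0,2,0,0,0],
   [2,1,3,0], [1,1,2], [0,3,3,3,0], [2,2], [0,3,3,3,3], [1,2,1,2], [1,1,3,3,0,3], [0,2,0],
   [1,2,0,2,0,2], [3,1,3,1], [0,2,1,2,2], [1,2,1,2,1], [2,1,3,1], [1,2,2,2,2], [2,2,2,0,3],
   [3,1,2,1], [0,0,0,3,1], [2,0,2,2,1], [0,2,0,0,2,1], [0,0,3,1,1,2], [1,3,0,0,2], [0,0,2,0,0],
   [3,0,3], [1,1,3], [1,2,0], [1,1], [0,0,2,1,3], [1,1,3,1], [0,2,0,3,0], [3,1,1,2], [3,1,3],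
   [0,0,2,2,0], [1,1,1,2,0,3], [2,0,2,0,3], [1,3,0,0,3], [2,2,2], [3,0,2], [1,1,2,0,0,3],
   [3,0,2,1], [3,0,0], [3,3,3,1,3], [0,0,2,2], [2,1,3,1,3,0], [0,3,3], [1,2,0,2,0], [2,1,1,2,1],
   [1,1,1,2,1], [0,0,3,1,2], [2,1,2,0], [0,0,2,1,3,0], [3], [2,0,3,3], [0,3,0,0], [1,1,1,2,0],
   [0,2,1,1,3,3], [0,2,1,2], [0,0,3,1], [0,3,3,0,3], [0,2,1,2,0], [2,0,2,0], [1,3,3,0,0,3],
   [1,1,1,1], [0,2,0,3,1], [2,1,1], [2,1,3,1,2], [1,3,3], [3,1,1,1], [0,0,3,3,1,1], [0,0,2,1,2],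
   [2,0,3,3,1], [0,0,2,1,3,3], [0,0,2,2,0,3], [1,3,0,0], [0,2,1,1,2], [1,3,1], [2,1,1,1],
   [1,1,1,2,1,2], [1,3,0,2,2], [2,2,2,1,1], [2,0,2], [0,0,3,1,2,0], [1,2,2,2,2,2], [2,2,1,3,0],
   [3,3,1], [2,2,1,3,3], [1,1,2,0,2,0], [0], [0,3,1,1,2], [0,2,0,0], [3,1,2,1,2], [3,0,2,0],
   [3,1,1,3], [0,3,3,3,1], [2,0,3], [0,3,3,3,1,2], [2,0,2,1], [2,0,2,2,1,1], [1,2,1,1],
   [3,1,1,3,0], [2,0], [0,0,0,3], [0,0,3,3,1], [0,0,2,0,3,1], [1,3,0,3], [1,2,2], [2,0,3,3,1,2],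
   [2,2,1], [0,2,2], [1,1,2,2,1], [1,3,0,0,0], [0,2,1,2,2,2], [1,2,2,2,0], [3,1,2,0,0],
   [0,3,0,0,0], [0,2,1,2,0,3], [0,3,3,0], [0,0,0,0], [1,2,0,3,3], [0,0,3,1,1,3], [3,0], [1,3,1,1],
   [2], [0,0,3,1,1,1], [0,0,2,1], [0,3,1,1], [2,1], [1,1,3,3,0], [0,2,0,0,2], [2,0,3,0],
   [0,2,2,0,2,0], [1,2,0,2,0,0], [0,2,1,1,2,2], [0,0,2,0,3], [0,0,2,2,1], [3,0,2,1,1], [2,0,2,2,0],
   [0,2,1,1], [3,0,2,0,0], [2,2,2,0], [1,3,3,0], [1,2,1], [0,2,0,3,1,2], [0,0,0], [1,3,3,0,0],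
   [3,1], [1], [2,1,3], [1,1,1,2], [0,2,2,0], [2,1,2], [2,0,2,2,1,2], [0,2,0,3], [1,2,2,2],
   [3,1,2,1,1], [3,0,2,0,0,3], [0,0,2,2,0,0], [1,3,3,3], [1,3], [1,3,0,2], [0,3,1], [2,0,0],
   [1,2,1,1,1], [3,3,3], [0,0], [1,1,2,0], [1,3,1,1,1], [0,3,1,1,3], [2,1,3,0,3], [0,0,2], [0,2,1],
   [2,1,3,0,0], [1,3,0,3,0,2], [3,1,2], [3,3,0,0], [0,0,2,1,1], [2,2,2,1,2], [2,0,0,2,1,3],
   [2,1,1,1,2], [2,2,1,1], [3,3,0], [1,3,0], [2,0,0,2], [2,1,2,0,2], [3,0,2,1,2], [1,2,0,3],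
   [0,0,2,2,1,3], [0,0,2,2,1,1], [3,0,0,0], [0,3,3,0,0], [3,0,0,2], [2,0,3,3,3], [2,1,3,0,2],
   [3,1,3,0], [0,0,2,0,0,2], [0,0,2,1,2,2], [0,0,2,1,3,1], [1,3,0,2,0], [0,2,1,1,3,0], [1,1,2,0,2],
   [0,2], [2,1,2,1], [1,1,2,2], [1,1,3,3], [2,2,1,3], [1,2,1,1,1,2], [0,0,2,1,2,1], [0,0,3,1,2,2],
   [3,3], [2,0,2,2,0,3], [1,1,2,0,0], [0,0,0,3,0], [3,1,1,1,2], [3,3,3,1,3,0], [0,3,0], [0,0,3,3],
   [0,0,2,0,2], [2,1,1,2], [2,1,3,1,3], [0,0,2,0,2,0], [0,0,2,0,0,0], [1,1,1], [3,3,3,1],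
   [0,2,0,2,1]]

/-- Words carrying the duad `{0, 1}` to the duads avoiding `∞`. -/
def words2 : List (List ℕ) :=
  [[], [0,2,1], [0,2,0,2,1], [0,2,2,1], [0,2,0,2,1,2], [3,0,0,2,0], [0,3,1], [0,2], [2,2,0,2,1],
   [2,0,2,1,2], [3,0,3,3,0], [1,2,1,3,1], [1,1,3,0], [2,2,1,2,0], [0,0,2,0,2,2], [2,2,1],
   [1,2,2,1], [1,3,1,2,2], [1,1,1,2,0], [0,3,0,2], [2,0,0,3], [0,0,3,3,0], [0,2,2], [0,0,2,1],
   [2,0,2,2,1], [0,2,0,2,2], [0,2,1,2,0], [2,1,3,0,0], [3,1], [2,2,2,2], [1,1,2,1,1], [1,2,0,3],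
   [3,0,2], [2,1,2,0], [0,0,3,0,3], [1,3,1], [3,3,1], [0,3,3,0,0], [0,2,2,0,0], [1,1,3,0,2],
   [2,0,2], [3,3,3,0,0], [3,0,0], [0,0,2,0,2,0], [1,1,2,1,3,0], [1], [0,3,3], [0,3,1,1], [0,0,3,3],
   [0,2,2,0,2], [0,0,2,1,1,2], [0,3,3,1,1], [0,0,2,2], [2,2,2,1,1], [1,2,2,0], [3,0,0,0,3,3],
   [3,3,3,3], [0,0,3,0,0,3], [0,0,0,3,3], [2,0,3,1], [0,3,0,0,3], [1,1,2,0,2], [0,3,0,2,2],
   [1,1,1,1,2], [2,0,0], [0,2,2,1,1], [2,2,2,1], [3], [0,2,2,1,3], [3,0,2,1,2], [1,1,2,1],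
   [3,3,1,3], [0,2,0,2,0,0,2], [1,2,0,3,0], [3,1,3,1], [3,3,0,0], [0,3,0,0,2,2], [2,1,3],
   [0,2,2,2,1], [0,2,2,2], [0,0,2,1,3,1], [0,0,2,1,2], [0,0,2,1,3], [0,2,2,0,0,3], [1,3,0,3,1],
   [0,0,2,1,2,0], [0,2,1,3,1], [0,0,3,3,3,3], [0,0,2,0,3], [0,0,2,1,2,1], [0,2,1,3], [0,3,3,0],
   [0], [2,0,2,1], [0,0,2,0,2], [0,2,0,2], [2,0], [2,2,2,0], [2,2,0,2,2], [3,3,0], [0,0], [2,2,0],
   [1,2,1,3], [0,3,1,3], [0,2,2,2,0], [3,3,3,1], [1,2,2,1,3], [1,2,1,1], [1,1,3,1,1], [3,3,0,2],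
   [1,2,0], [1,1,2,0], [2,0,3,0], [1,1,2,0,3], [0,2,0,0], [2,1,1], [0,0,3,0], [2,2,1,3], [1,3,1,2],
   [0,3,0], [1,2,2,1,1], [2,2,2], [1,3,0], [2,1,3,0], [1,2,2,2], [0,0,2,2,1,2], [1,1,1,1],
   [0,2,0,0,2,1], [1,1,2,0,3,3], [0,3,1,3,0], [2,2,1,1], [1,1,1,2], [3,1,3], [0,2,1,3,0], [3,0],
   [3,0,2,0,0], [0,0,2,2,0], [0,3,3,3], [0,0,3,3,3], [0,0,2,1,1], [0,0,2], [0,3,1,2,0],
   [0,2,0,0,2], [2,0,2,2], [2,1,1,3], [0,2,1,1,3], [0,2,1,1], [3,0,0,2], [1,3], [0,3,1,1,3],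
   [0,2,2,0], [0,0,3,1,1,1], [3,1,1,1,2], [1,2,2,0,0], [3,3], [3,0,2,1], [1,3,1,1], [0,3,0,3,1],
   [3,3,0,0,3], [2,1,3,3], [1,2,1,2], [0,0,0,0], [0,0,0], [3,1,1], [1,2,0,3,1], [2,2,2,1,3],
   [1,1,3,1,2], [1,1,2,1,3], [0,2,0,2,0,0], [3,1,3,1,3], [0,3,0,0,2], [3,3,3,0,3], [0,3],
   [0,0,2,0], [2,0,3], [2,2,0,2], [0,0,3], [2,1,1,2], [0,2,2,0,2,2], [0,3,0,3], [0,2,0,2,0],
   [0,2,0,3], [0,3,3,1,1,2], [3,0,2,0], [0,0,2,2,2], [0,2,0], [2,2,0,2,0], [1,1,2], [2,2,0,3],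
   [2,0,2,0], [0,3,3,1], [2,2], [2,1,3,0,3], [0,0,2,2,1], [0,2,0,3,1], [0,2,1,2,2], [1,1,1],
   [0,0,3,1,2], [2,1,3,3,0], [3,1,1,1], [1,1], [0,0,3,3,1], [2,1,2,2], [1,3,0,3], [1,2,2],
   [1,1,1,1,3], [0,3,3,1,1,1], [0,3,1,1,1], [3,0,0,0], [3,0,3], [2,1], [3,3,3], [0,0,3,1,1],
   [0,0,3,0,0], [1,2,1], [0,0,0,3], [0,0,3,0,2], [1,1,3,1], [1,1,1,2,2], [0,3,0,0], [2,0,2,0,3],
   [1,2,0,0], [0,3,3,1,2,1], [1,3,1,2,0], [0,3,0,3,1,3], [2,1,3,3,3], [0,0,0,0,3], [2,0,0,2],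
   [0,2,0,0,0], [3,1,2,1], [1,1,2,0,0], [2,2,2,1,2], [2], [2,0,0,2,0], [0,2,1,2], [0,0,3,1],
   [0,2,2,1,2], [3,3,3,1,2], [0,3,1,2], [3,3,1,3,1], [0,3,1,1,1,3], [3,0,3,3], [2,2,1,2],
   [0,3,3,1,3], [0,0,3,3,0,2], [3,3,3,0], [3,1,2], [0,3,3,1,2], [1,1,3], [2,1,2], [1,2],
   [0,0,3,0,2,0], [3,0,0,0,3]]

/-- Generators (with inverses) of the stabiliser of `∞` and of `oct0`. -/
def gensK : List (ℕ × ℕ) :=
  [(955831987410683137812714407865897390, 974004709354747590097671820166910102),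
   (974004709354747590097671820166910102, 955831987410683137812714407865897390),
   (973610977805153392576118691334896816, 971105472485416502664269016762390190),
   (971105472485416502664269016762390190, 973610977805153392576118691334896816),
   (976199255407835795242151343964793324, 978927153859202937021284571276459694),
   (978927153859202937021284571276459694, 976199255407835795242151343964793324)]

/-- Words carrying the point `1` to the points outside `oct0`. -/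
def wordsB : List (List ℕ) :=
  [[], [2,2], [3,3], [1], [2], [0,3], [0,0], [0,2], [0,2,4], [2,2,4], [3,0], [0], [4], [0,5],
   [0,4], [3]]

/-- Octads through `∞`. -/
def L8 : List ℕ := octadList.filter fun m => m.testBit 23
/-- Duads avoiding `∞`. -/
def D2 : List ℕ := duadList.filter fun m => !m.testBit 23
/-- Points outside `oct0`. -/
def B0 : List ℕ := (List.range 24).filter fun i => !oct0.testBit i

theorem gens23_ok : ∀ g ∈ gens23, genOK [2 ^ 23] g = true := by decide +kernel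
theorem gensK_ok : ∀ g ∈ gensK, genOK [2 ^ 23, oct0] g = true := by decide +kernel
theorem cert8 : certCheck gens23 (fun _ => [oct0]) (fun m => [m]) L8 words8 = true := by
  decide +kernel
theorem cert2 : certCheck gens23 (fun _ => [3]) (fun m => [m]) D2 words2 = true := by
  decide +kernel
theorem certB : certCheck gensK (fun _ => [2 ^ 1]) (fun i => [2 ^ i]) B0 wordsB = true := by
  decide +kernel
theorem len8 : L8.length = 253 := by decide +kernel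
theorem len2 : D2.length = 253 := by decide +kernel

abbrev Pi24 := Equiv.Perm GolayPt

theorem pt23' : pt 23 = (none : GolayPt) := rfl

theorem mem_M23_of_stabOf {g : Pi24} (hg : g ∈ stabOf [2 ^ 23]) : g ∈ Cfsg.Spor.M23 := by
  rw [M23Gen.mem_M23]
  refine ⟨hg.1, ?_⟩
  have := stabOf_fix_pt hg (i := 23) (by norm_num) (by simp)
  rwa [pt23'] at this

theorem M23_le_M24 : Cfsg.Spor.M23 ≤ M24 := fun _ hg => (M23Gen.mem_M23.mp hg).1

/-! ### Transitivity statements -/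

theorem octads23_trans {o : Finset GolayPt} (ho : o ∈ octads) (hx : (none : GolayPt) ∈ o) :
    ∃ g ∈ Cfsg.Spor.M23, g • toFinset oct0 = o := by
  obtain ⟨m, hm, rfl⟩ := mem_octads_iff'.mp ho
  have hm8 : m ∈ L8 := by
    unfold L8
    rw [List.mem_filter]
    refine ⟨hm, ?_⟩
    rw [← pt23', pt_mem_toFinset (by norm_num)] at hx
    exact hx
  obtain ⟨g, hg, e⟩ := reach_single (certCheck_spec gens23_ok _ _ _ _ cert8 m hm8)
  exact ⟨g, mem_M23_of_stabOf hg, e⟩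

theorem duads23_trans {s : Finset GolayPt} (hs : s.card = 2) (hx : (none : GolayPt) ∉ s) :
    ∃ g ∈ Cfsg.Spor.M23, g • toFinset 3 = s := by
  obtain ⟨m, hm, rfl⟩ := card_eq_two_iff.mp hs
  have hm2 : m ∈ D2 := by
    unfold D2
    rw [List.mem_filter]
    refine ⟨hm, ?_⟩
    rw [← pt23', pt_mem_toFinset (by norm_num)] at hx
    simpa using hx
  obtain ⟨g, hg, e⟩ := reach_single (certCheck_spec gens23_ok _ _ _ _ cert2 m hm2)
  exact ⟨g, mem_M23_of_stabOf hg, e⟩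

/-- The stabiliser of `∞` and of an octad, or of a duad. -/
def stab23 (o : Finset GolayPt) : Subgroup Pi24 :=
  Cfsg.Spor.M23 ⊓ MulAction.stabilizer Pi24 o

theorem mem_stab23 {o : Finset GolayPt} {g : Pi24} :
    g ∈ stab23 o ↔ g ∈ Cfsg.Spor.M23 ∧ g • o = o := by
  unfold stab23
  rw [Subgroup.mem_inf, MulAction.mem_stabilizer_iff]

/-- Orbit–stabiliser for `M23` on an orbit of length 253. -/
theorem card_stab23 (o : Finset GolayPt) (T : Set (Finset GolayPt)) (hT : T.ncard = 253)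
    (horb : ∀ t, t ∈ T ↔ ∃ g ∈ Cfsg.Spor.M23, g • o = t) : Nat.card ↥(stab23 o) = 40320 := by
  have horb' : MulAction.orbit ↥Cfsg.Spor.M23 o = T := by
    ext t
    rw [horb, MulAction.mem_orbit_iff]
    constructor
    · rintro ⟨γ, rfl⟩
      exact ⟨γ, γ.2, rfl⟩
    · rintro ⟨g, hg, rfl⟩
      exact ⟨⟨g, hg⟩, rfl⟩
  have h1 : (MulAction.stabilizer ↥Cfsg.Spor.M23 o).index = 253 := by
    rw [MulAction.index_stabilizer, horb', hT]
  have h2 := (MulAction.stabilizer ↥Cfsg.Spor.M23 o).index_mul_card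
  rw [h1, M23Gen.card_M23] at h2
  have h3 : Nat.card ↥(MulAction.stabilizer ↥Cfsg.Spor.M23 o) = 40320 := by omega
  have h4 : (MulAction.stabilizer ↥Cfsg.Spor.M23 o).map (Cfsg.Spor.M23).subtype = stab23 o := by
    ext g
    rw [mem_stab23, Subgroup.mem_map]
    constructor
    · rintro ⟨γ, hγ, rfl⟩
      exact ⟨γ.2, hγ⟩
    · rintro ⟨hg, hgo⟩
      exact ⟨⟨g, hg⟩, hgo, rfl⟩
  rw [← h4, Subgroup.card_map_of_injective (Subgroup.subtype_injective _), h3]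

theorem ncard_octads23 : {t : Finset GolayPt | t ∈ octads ∧ (none : GolayPt) ∈ t}.ncard = 253 := by
  have h1 : {t : Finset GolayPt | t ∈ octads ∧ (none : GolayPt) ∈ t} =
      {s : Finset GolayPt | ∃ m ∈ L8, s = toFinset m} := by
    ext t
    simp only [Set.mem_setOf_eq]
    constructor
    · rintro ⟨ho, hx⟩
      obtain ⟨m, hm, rfl⟩ := mem_octads_iff'.mp ho
      refine ⟨m, ?_, rfl⟩
      unfold L8
      rw [List.mem_filter]
      refine ⟨hm, ?_⟩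
      rw [← pt23', pt_mem_toFinset (by norm_num)] at hx
      exact hx
    · rintro ⟨m, hm, rfl⟩
      unfold L8 at hm
      rw [List.mem_filter] at hm
      refine ⟨toFinset_mem_octads hm.1, ?_⟩
      rw [← pt23', pt_mem_toFinset (by norm_num)]
      exact hm.2
  rw [h1, ncard_of_list L8 (octadList_nodup.filter _)
    (fun m hm => octadList_lt (List.mem_filter.mp hm).1), len8]

theorem ncard_duads23 : {t : Finset GolayPt | t.card = 2 ∧ (none : GolayPt) ∉ t}.ncard = 253 := by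
  have h1 : {t : Finset GolayPt | t.card = 2 ∧ (none : GolayPt) ∉ t} =
      {s : Finset GolayPt | ∃ m ∈ D2, s = toFinset m} := by
    ext t
    simp only [Set.mem_setOf_eq]
    constructor
    · rintro ⟨ho, hx⟩
      obtain ⟨m, hm, rfl⟩ := card_eq_two_iff.mp ho
      refine ⟨m, ?_, rfl⟩
      unfold D2
      rw [List.mem_filter]
      refine ⟨hm, ?_⟩
      rw [← pt23', pt_mem_toFinset (by norm_num)] at hx
      simpa using hx
    · rintro ⟨m, hm, rfl⟩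
      unfold D2 at hm
      rw [List.mem_filter] at hm
      refine ⟨card_eq_two_iff.mpr ⟨m, hm.1, rfl⟩, ?_⟩
      rw [← pt23', pt_mem_toFinset (by norm_num)]
      simpa using hm.2
  rw [h1, ncard_of_list D2 (duadList_nodup.filter _)
    (fun m hm => duadList_lt (List.mem_filter.mp hm).1), len2]

theorem none_fix {g : Pi24} (hg : g ∈ Cfsg.Spor.M23) : g none = none := (M23Gen.mem_M23.mp hg).2

theorem none_mem_smul {g : Pi24} (hg : g ∈ Cfsg.Spor.M23) (o : Finset GolayPt) :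
    (none : GolayPt) ∈ g • o ↔ (none : GolayPt) ∈ o := by
  rw [← Finset.inv_smul_mem_iff]
  have : g⁻¹ • (none : GolayPt) = none := by
    rw [Equiv.Perm.smul_def, Equiv.Perm.inv_eq_iff_eq, none_fix hg]
  rw [this]

/-- The stabiliser in `M23` of an octad through `∞` has order 40320. -/
theorem card_stab_octad {o : Finset GolayPt} (ho : o ∈ octads) (hx : (none : GolayPt) ∈ o) :
    Nat.card ↥(stab23 o) = 40320 := by
  apply card_stab23 o _ ncard_octads23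
  intro t
  simp only [Set.mem_setOf_eq]
  constructor
  · rintro ⟨ht, hxt⟩
    obtain ⟨g1, hg1, e1⟩ := octads23_trans ho hx
    obtain ⟨g2, hg2, e2⟩ := octads23_trans ht hxt
    refine ⟨g2 * g1⁻¹, Subgroup.mul_mem _ hg2 (Subgroup.inv_mem _ hg1), ?_⟩
    rw [mul_smul, ← e1, inv_smul_smul, e2]
  · rintro ⟨g, hg, rfl⟩
    exact ⟨smul_mem_octads (M23_le_M24 hg) |>.mpr ho, (none_mem_smul hg o).mpr hx⟩

/-- The stabiliser in `M23` of a duad avoiding `∞` has order 40320. -/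
theorem card_stab_duad {s : Finset GolayPt} (hs : s.card = 2) (hx : (none : GolayPt) ∉ s) :
    Nat.card ↥(stab23 s) = 40320 := by
  apply card_stab23 s _ ncard_duads23
  intro t
  simp only [Set.mem_setOf_eq]
  constructor
  · rintro ⟨ht, hxt⟩
    obtain ⟨g1, hg1, e1⟩ := duads23_trans hs hx
    obtain ⟨g2, hg2, e2⟩ := duads23_trans ht hxt
    refine ⟨g2 * g1⁻¹, Subgroup.mul_mem _ hg2 (Subgroup.inv_mem _ hg1), ?_⟩
    rw [mul_smul, ← e1, inv_smul_smul, e2]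
  · rintro ⟨g, hg, rfl⟩
    refine ⟨?_, fun h => hx ((none_mem_smul hg s).mp h)⟩
    rw [Finset.card_smul_finset, hs]

end Cfsg.Agent.Helper27.Idx253
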