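import Mathlib
import Cfsg.Agent.Lib.Helper7.M24Order
import Cfsg.Agent.Lib.Helper27.OutAut
import Cfsg.Agent.Lib.Helper27.Idx253a

/-!
# Elements of order 7 of `M24` have at most three fixed points (helper27)
-/

set_option autoImplicit false
set_option maxRecDepth 1000000
open scoped Pointwise
open Cfsg

namespace Cfsg.Agent.Helper27.Idx253

open Cfsg.Agent.Helper7 Cfsg.Agent.Helper27.OutAut

/-- An element of order 7. -/
def cL : List ℕ := [19, 18, 23, 3, 16, 13, 4, 15, 8, 9, 12, 17, 11, 2, 6, 21, 1, 7, 22, 5, 0, 10, 14, 20]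
/-- Its inverse. -/
def ciL : List ℕ := [20, 16, 13, 3, 6, 19, 14, 17, 8, 9, 21, 12, 10, 5, 22, 7, 4, 11, 1, 0, 23, 15, 18, 2]

def funOf7 (l : List ℕ) : GolayPt → GolayPt := fun p => pt (l.getD (idx p) 0)

def c0 : Equiv.Perm GolayPt where
  toFun := funOf7 cL
  invFun := funOf7 ciL
  left_inv := by unfold Function.LeftInverse; decide
  right_inv := by unfold Function.RightInverse Function.LeftInverse; decide

theorem tab_c : Tab c0 cL := by unfold Tab; decide

theorem c_mem : c0 ∈ M24 := mem_M24_of_tab tab_c (by decide +kernel)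

theorem eq_one_of_tab_id {σ : Equiv.Perm GolayPt} (h : Tab σ idTab) : σ = 1 := by
  refine Equiv.ext fun p => ?_
  apply idx_injective
  have := h p
  rw [this, Equiv.Perm.one_apply]
  unfold idTab
  rw [List.getD_eq_getElem _ _ (by rw [List.length_range]; exact idx_lt p), List.getElem_range]

theorem c_pow7 : c0 ^ 7 = 1 := by
  apply eq_one_of_tab_id
  have := powT_tab tab_c rfl 7
  rwa [show powT cL 7 = idTab from by decide] at this

theorem c_ne_one : c0 ≠ 1 := by
  intro h
  have h1 := tab_c.apply 0 (by norm_num)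
  rw [h, Equiv.Perm.one_apply] at h1
  revert h1
  decide

instance fact7 : Fact (Nat.Prime 7) := ⟨by norm_num⟩

theorem orderOf_c : orderOf c0 = 7 := orderOf_eq_prime c_pow7 c_ne_one

theorem fix_pow : ∀ j < 7, 1 ≤ j → ∀ i < 24, (powT cL j).getD i 0 = i → i = 3 ∨ i = 8 ∨ i = 9 := by
  decide

/-- An element of order 7 of `M24` has at most three fixed points. -/
theorem fix_le (c : Equiv.Perm GolayPt) (hc : c ∈ M24) (ho : orderOf c = 7) :
    (Finset.univ.filter fun a => c a = a).card ≤ 3 := by
  have hcard : Nat.card ↥M24 = 7 * 34974720 := by rw [card_M24]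
  have ht : orderOf (⟨c0, c_mem⟩ : ↥M24) = 7 := by rw [Subgroup.orderOf_mk, orderOf_c]
  have ht' : orderOf (⟨c, hc⟩ : ↥M24) = 7 := by rw [Subgroup.orderOf_mk, ho]
  obtain ⟨g, k, hgk⟩ := exists_conj_pow2 7 34974720 hcard (by norm_num) _ _ ht ht'
  have hgk' : (g : Equiv.Perm GolayPt) * c * (g : Equiv.Perm GolayPt)⁻¹ = c0 ^ k := by
    have := congrArg Subtype.val hgk
    simpa using this
  have hk : c0 ^ k = c0 ^ (k % 7) := by
    rw [← orderOf_c, pow_mod_orderOf]
  have hk0 : k % 7 ≠ 0 := by
    intro h0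
    rw [hk, h0, pow_zero] at hgk'
    have : c = 1 := by
      have h1 : c = (g : Equiv.Perm GolayPt)⁻¹ * ((g : Equiv.Perm GolayPt) * c * (g : Equiv.Perm GolayPt)⁻¹) * (g : Equiv.Perm GolayPt) := by group
      rw [h1, hgk']; group
    rw [this, orderOf_one] at ho
    norm_num at ho
  have hsub : ∀ a, c a = a → (g : Equiv.Perm GolayPt) a ∈ ({pt 3, pt 8, pt 9} : Finset GolayPt) := by
    intro a ha
    have h1 : (c0 ^ (k % 7)) ((g : Equiv.Perm GolayPt) a) = (g : Equiv.Perm GolayPt) a := by
      rw [← hk, ← hgk']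
      simp [ha]
    have htab := powT_tab tab_c rfl (k % 7)
    have h2 := htab ((g : Equiv.Perm GolayPt) a)
    rw [h1] at h2
    have h3 := fix_pow (k % 7) (Nat.mod_lt _ (by norm_num)) (by omega) _ (idx_lt _) h2.symm
    rw [← pt_idx ((g : Equiv.Perm GolayPt) a)]
    rcases h3 with h | h | h <;> rw [h] <;> simp
  calc (Finset.univ.filter fun a => c a = a).card
      ≤ ({pt 3, pt 8, pt 9} : Finset GolayPt).card := by
        apply Finset.card_le_card_of_injOn (fun a => (g : Equiv.Perm GolayPt) a)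
        · intro a ha
          simp only [Finset.coe_filter, Finset.mem_univ, true_and, Set.mem_ofPred_eq] at ha
          exact hsub a ha
        · intro a _ b _ hab
          exact (g : Equiv.Perm GolayPt).injective hab
    _ ≤ 3 := Finset.card_le_three

end Cfsg.Agent.Helper27.Idx253
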