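import Mathlib
import Cfsg.Agent.Lib.Helper27.Idx253b
import Cfsg.Agent.Lib.Helper27.Idx253c

/-!
# Subgroups of index 253 of `M23` (helper27)

A subgroup of order 40320 of `M23` (the stabiliser of `∞` in `M24`) is the stabiliser of a duad
avoiding `∞` or of an octad through `∞`.
-/

set_option autoImplicit false
set_option maxRecDepth 1000000
open scoped Pointwise
open Cfsg

namespace Cfsg.Agent.Helper27.Idx253

open Cfsg.Agent.Helper27

theorem card_GolayPt : Fintype.card GolayPt = 24 := by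
  unfold GolayPt
  rw [Fintype.card_option, ZMod.card]

theorem none_mem_oct0 : (none : GolayPt) ∈ toFinset oct0 := by
  rw [← pt23', pt_mem_toFinset (by norm_num)]; decide

theorem pt1_notMem_oct0 : pt 1 ∉ toFinset oct0 := by
  rw [pt_mem_toFinset (by norm_num)]; decide

theorem K0_trans {a : GolayPt} (ha : a ∉ toFinset oct0) :
    ∃ g ∈ stab23 (toFinset oct0), g (pt 1) = a := by
  have hm : idx a ∈ B0 := by
    unfold B0
    rw [List.mem_filter, List.mem_range]
    refine ⟨idx_lt a, ?_⟩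
    rw [mem_toFinset] at ha
    simpa using ha
  obtain ⟨g, hg, e⟩ := reach_single (certCheck_spec gensK_ok _ _ _ _ certB _ hm)
  have h1 := apply_pt_of_smul (by norm_num) (idx_lt a) e
  rw [pt_idx] at h1
  refine ⟨g, mem_stab23.mpr ⟨?_, hg.2 oct0 (by simp)⟩, h1⟩
  rw [M23Gen.mem_M23]
  refine ⟨hg.1, ?_⟩
  have := stabOf_fix_pt hg (i := 23) (by norm_num) (by simp)
  rwa [pt23'] at this

theorem card_K0 : Nat.card ↥(stab23 (toFinset oct0)) = 40320 :=
  card_stab_octad (toFinset_mem_octads oct0_mem) none_mem_oct0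

instance fact2 : Fact (Nat.Prime 2) := ⟨Nat.prime_two⟩

/-- A Sylow 2-subgroup of the stabiliser of `∞` and `oct0` is transitive outside `oct0`. -/
theorem exists_Q0 : ∃ Q0 : Subgroup Pi24, Q0 ≤ stab23 (toFinset oct0) ∧ Nat.card Q0 = 2 ^ 7 ∧
    ∀ a ∉ toFinset oct0, ∃ q ∈ Q0, q (pt 1) = a := by
  have hK : Nat.card ↥(stab23 (toFinset oct0)) = 2 ^ 7 * 315 := by rw [card_K0]; norm_num
  obtain ⟨Q, hQ⟩ := Sylow.exists_subgroup_card_pow_prime 2 (n := 7)
    (G := ↥(stab23 (toFinset oct0))) (by rw [hK]; exact Dvd.intro _ rfl)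
  have horb : (MulAction.orbit ↥(stab23 (toFinset oct0)) (pt 1)).ncard = 2 ^ 4 := by
    have h1 : MulAction.orbit ↥(stab23 (toFinset oct0)) (pt 1) = ↑((toFinset oct0)ᶜ) := by
      ext a
      rw [Finset.coe_compl, Set.mem_compl_iff, Finset.mem_coe]
      constructor
      · rintro ⟨k, rfl⟩ hmem
        have hk := (mem_stab23.mp k.2).2
        have h2 : (k : Pi24) (pt 1) ∈ (k : Pi24) • toFinset oct0 := by rw [hk]; exact hmem
        exact pt1_notMem_oct0 ((smul_mem_smul_iff _ _ _).mp h2)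
      · intro ha
        obtain ⟨g, hg, e⟩ := K0_trans ha
        exact ⟨⟨g, hg⟩, e⟩
    rw [h1, Set.ncard_coe_finset, Finset.card_compl, card_toFinset, card_GolayPt]
    decide
  have key := sylow_orbit 2 7 4 315 hK (by norm_num) Q hQ (pt 1) horb
  refine ⟨Q.map (stab23 (toFinset oct0)).subtype, ?_, ?_, ?_⟩
  · rintro _ ⟨q, _, rfl⟩
    exact q.2
  · rw [Subgroup.card_map_of_injective (Subgroup.subtype_injective _), hQ]
  · intro a ha
    obtain ⟨g, hg, e⟩ := K0_trans ha
    obtain ⟨q, hq, hqa⟩ := key a ⟨⟨g, hg⟩, e⟩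
    exact ⟨q, ⟨q, hq, rfl⟩, hqa⟩

theorem arith253 : ∀ n < 24, 16 ≤ n → n ∣ 40320 → n % 7 ≤ 2 → n = 16 ∨ n = 21 := by decide

/-- A subgroup of order 40320 of `M23` fixes a duad avoiding `∞` or an octad through `∞`. -/
theorem main0 (H : Subgroup Pi24) (hH : H ≤ Cfsg.Spor.M23) (hcard : Nat.card H = 40320) :
    (∃ s : Finset GolayPt, s.card = 2 ∧ (none : GolayPt) ∉ s ∧ ∀ h ∈ H, h • s = s) ∨
    (∃ o ∈ octads, (none : GolayPt) ∈ o ∧ ∀ h ∈ H, h • o = o) := by
  classical
  obtain ⟨Q0, hQ0K, hQ0c, hQ0t⟩ := exists_Q0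
  obtain ⟨Q1s, hQ1s⟩ := Sylow.exists_subgroup_card_pow_prime 2 (n := 7) (G := ↥H)
    (by rw [hcard]; norm_num)
  have hQ1c : Nat.card (Q1s.map H.subtype) = 2 ^ 7 := by
    rw [Subgroup.card_map_of_injective (Subgroup.subtype_injective _), hQ1s]
  have hQ1H : Q1s.map H.subtype ≤ H := by
    rintro _ ⟨q, _, rfl⟩
    exact q.2
  have hQ0M : Q0 ≤ Cfsg.Spor.M23 := fun q hq => (mem_stab23.mp (hQ0K hq)).1
  have hQ1M : Q1s.map H.subtype ≤ Cfsg.Spor.M23 := hQ1H.trans hH
  have hG : Nat.card ↥Cfsg.Spor.M23 = 2 ^ 7 * 79695 := by rw [M23Gen.card_M23]; norm_num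
  have e0 : Nat.card ↥(Q0.subgroupOf Cfsg.Spor.M23) = 2 ^ 7 := by
    rw [Nat.card_congr (Subgroup.subgroupOfEquivOfLe hQ0M).toEquiv, hQ0c]
  have e1 : Nat.card ↥((Q1s.map H.subtype).subgroupOf Cfsg.Spor.M23) = 2 ^ 7 := by
    rw [Nat.card_congr (Subgroup.subgroupOfEquivOfLe hQ1M).toEquiv, hQ1c]
  obtain ⟨g, hg⟩ := exists_conj_le 2 7 79695 hG (by norm_num) _ _ e0 e1
  obtain ⟨γ, hγM⟩ := g
  have hconj : ∀ q ∈ Q0, γ * q * γ⁻¹ ∈ H := by
    intro q hq
    have h1 := hg ⟨q, hQ0M hq⟩ (by rw [Subgroup.mem_subgroupOf]; exact hq)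
    rw [Subgroup.mem_subgroupOf] at h1
    exact hQ1H h1
  have hO1o : γ • toFinset oct0 ∈ octads :=
    (smul_mem_octads (M23_le_M24 hγM)).mpr (toFinset_mem_octads oct0_mem)
  have hO1x : (none : GolayPt) ∈ γ • toFinset oct0 := (none_mem_smul hγM _).mpr none_mem_oct0
  have htrans : ∀ a ∉ γ • toFinset oct0, ∃ h ∈ H, h (γ (pt 1)) = a := by
    intro a ha
    have ha' : γ⁻¹ a ∉ toFinset oct0 := by
      intro hmem
      apply ha
      have := (smul_mem_smul_iff γ (γ⁻¹ a) (toFinset oct0)).mpr hmem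
      simpa using this
    obtain ⟨q, hq, hqa⟩ := hQ0t _ ha'
    refine ⟨γ * q * γ⁻¹, hconj q hq, ?_⟩
    simp [hqa]
  set b1 := γ (pt 1) with hb1
  set O1 := γ • toFinset oct0 with hO1
  set Ω : Finset GolayPt := Finset.univ.filter (fun a => ∃ h ∈ H, h b1 = a) with hΩ
  have memΩ : ∀ a, a ∈ Ω ↔ ∃ h ∈ H, h b1 = a := by
    intro a; simp [hΩ]
  have hΩinv : ∀ h ∈ H, ∀ a, a ∈ Ω ↔ h a ∈ Ω := by
    intro h hh a
    rw [memΩ, memΩ]
    constructor
    · rintro ⟨k, hk, rfl⟩
      exact ⟨h * k, H.mul_mem hh hk, rfl⟩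
    · rintro ⟨k, hk, e⟩
      refine ⟨h⁻¹ * k, H.mul_mem (H.inv_mem hh) hk, ?_⟩
      simp [e]
  have hb1none : b1 ≠ none := by
    intro h
    have h2 : γ (pt 1) = γ none := by rw [← hb1, h, none_fix hγM]
    have := γ.injective h2
    revert this
    decide
  have hnone : (none : GolayPt) ∉ Ω := by
    rw [memΩ]
    rintro ⟨h, hh, e⟩
    apply hb1none
    exact h.injective (e.trans (none_fix (hH hh)).symm)
  have hsub : O1ᶜ ⊆ Ω := fun a ha => (memΩ a).mpr (htrans a (by simpa using ha))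
  have hdvd : Ω.card ∣ 40320 := by
    have h1 : MulAction.orbit ↥H b1 = ↑Ω := by
      ext a
      rw [Finset.mem_coe, memΩ, MulAction.mem_orbit_iff]
      constructor
      · rintro ⟨k, rfl⟩
        exact ⟨k, k.2, rfl⟩
      · rintro ⟨h, hh, rfl⟩
        exact ⟨⟨h, hh⟩, rfl⟩
    have h2 := MulAction.index_stabilizer ↥H b1
    rw [h1, Set.ncard_coe_finset] at h2
    rw [← h2, ← hcard]
    exact Subgroup.index_dvd_card _
  -- the element of order 7
  obtain ⟨c', hc'⟩ := exists_prime_orderOf_dvd_card' (G := ↥H) 7 (by rw [hcard]; norm_num)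
  obtain ⟨c, hcH⟩ := c'
  have hco : orderOf c = 7 := by rw [← hc', Subgroup.orderOf_mk]
  have hfix := fix_le c (M23_le_M24 (hH hcH)) hco
  have hmod := card_modEq_fixed c 7 (by rw [← hco]; exact pow_orderOf_eq_one c) Ω (hΩinv c hcH)
  have hfixΩ : (Ω.filter fun a => c a = a).card ≤ 2 := by
    have hss : (Ω.filter fun a => c a = a) ⊆ (Finset.univ.filter fun a => c a = a).erase none := by
      intro a ha
      rw [Finset.mem_filter] at ha
      rw [Finset.mem_erase, Finset.mem_filter]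
      exact ⟨fun h => hnone (h ▸ ha.1), Finset.mem_univ _, ha.2⟩
    have h1 := Finset.card_le_card hss
    have h2 : (none : GolayPt) ∈ Finset.univ.filter fun a => c a = a := by
      simp [none_fix (hH hcH)]
    rw [Finset.card_erase_of_mem h2] at h1
    omega
  have hcO1 : O1.card = 8 := by
    rw [hO1, Finset.card_smul_finset, card_toFinset]; decide
  have hge : 16 ≤ Ω.card := by
    have := Finset.card_le_card hsub
    rw [Finset.card_compl, hcO1, card_GolayPt] at this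
    omega
  have hle : Ω.card < 24 := by
    have hss : Ω ⊆ Finset.univ.erase none := fun a ha =>
      Finset.mem_erase.mpr ⟨fun h => hnone (h ▸ ha), Finset.mem_univ _⟩
    have := Finset.card_le_card hss
    rw [Finset.card_erase_of_mem (Finset.mem_univ _), Finset.card_univ, card_GolayPt] at this
    omega
  have hm : Ω.card % 7 ≤ 2 := by
    have := hmod
    unfold Nat.ModEq at this
    rw [this]
    exact (Nat.mod_le _ _).trans hfixΩ
  rcases arith253 _ hle hge hdvd hm with h16 | h21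
  · right
    have hΩeq : O1ᶜ = Ω := Finset.eq_of_subset_of_card_le hsub
      (by rw [h16, Finset.card_compl, hcO1, card_GolayPt])
    have hmemO : ∀ a, a ∈ O1 ↔ a ∉ Ω := by
      intro a; rw [← hΩeq]; simp
    refine ⟨O1, hO1o, hO1x, fun h hh => ?_⟩
    ext a
    rw [← Finset.inv_smul_mem_iff, hmemO, hmemO, Equiv.Perm.smul_def,
      ← hΩinv h⁻¹ (H.inv_mem hh) a]
  · left
    have hins : (insert none Ω).card = 22 := by
      rw [Finset.card_insert_of_notMem hnone, h21]
    refine ⟨(insert none Ω)ᶜ, ?_, ?_, fun h hh => ?_⟩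
    · rw [Finset.card_compl, hins, card_GolayPt]
    · simp
    · have hfixn : ∀ a, h⁻¹ a = none ↔ a = none := by
        intro a
        have h0 : h⁻¹ none = none := by
          rw [Equiv.Perm.inv_eq_iff_eq, none_fix (hH hh)]
        constructor
        · intro e
          exact h⁻¹.injective (e.trans h0.symm)
        · rintro rfl
          exact h0
      ext a
      rw [← Finset.inv_smul_mem_iff, Finset.mem_compl, Finset.mem_compl, Finset.mem_insert,
        Finset.mem_insert, Equiv.Perm.smul_def, hfixn, ← hΩinv h⁻¹ (H.inv_mem hh) a]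

/-- A subgroup of order 40320 of `M23` is the stabiliser of a duad avoiding `∞` or of an octad
through `∞`. -/
theorem main1 (H : Subgroup Pi24) (hH : H ≤ Cfsg.Spor.M23) (hcard : Nat.card H = 40320) :
    (∃ s : Finset GolayPt, s.card = 2 ∧ (none : GolayPt) ∉ s ∧ H = stab23 s) ∨
    (∃ o ∈ octads, (none : GolayPt) ∈ o ∧ H = stab23 o) := by
  rcases main0 H hH hcard with ⟨s, hs, hx, hinv⟩ | ⟨o, ho, hx, hinv⟩
  · left
    refine ⟨s, hs, hx, ?_⟩
    have hle : H ≤ stab23 s := fun h hh => mem_stab23.mpr ⟨hH hh, hinv h hh⟩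
    exact Subgroup.eq_of_le_of_card_ge hle (by rw [card_stab_duad hs hx, hcard])
  · right
    refine ⟨o, ho, hx, ?_⟩
    have hle : H ≤ stab23 o := fun h hh => mem_stab23.mpr ⟨hH hh, hinv h hh⟩
    exact Subgroup.eq_of_le_of_card_ge hle (by rw [card_stab_octad ho hx, hcard])

end Cfsg.Agent.Helper27.Idx253
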