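import Mathlib
import Cfsg.Agent.Lib.Helper27.Idx759a
import Cfsg.Agent.Lib.Helper27.Idx253c
import Cfsg.Agent.Lib.Helper7.K0
import Cfsg.Agent.Lib.Helper7.OctStab
import Cfsg.Agent.Lib.Helper7.Count
import Cfsg.Agent.Lib.Helper26.GolayFacts
import Cfsg.Agent.Lib.Helper26.OctadSplit
import Cfsg.Agent.Lib.Helper26.SubsetTrans

/-!
# Subgroups of small index of `M24`: the `M24` input (helper27)

* fixed points of elements of order 5, 7, 11;
* a subgroup whose order is divisible by `2 ^ 10` contains a Sylow 2-subgroup of an octad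
  stabiliser (`stepA`);
* orders of the stabilisers of small sets;
* the "trio" contradiction (`lemmaB`).
-/

set_option autoImplicit false
set_option linter.unusedSectionVars false
open scoped Pointwise
open Cfsg

namespace Cfsg.Agent.Helper27.Idx759

open Cfsg.Agent.Helper7 Cfsg.Agent.Helper26 Cfsg.Agent.Helper27.Idx253

instance fact2 : Fact (Nat.Prime 2) := ⟨Nat.prime_two⟩
instance fact5 : Fact (Nat.Prime 5) := ⟨by norm_num⟩
instance fact7 : Fact (Nat.Prime 7) := ⟨by norm_num⟩
instance fact11 : Fact (Nat.Prime 11) := ⟨by norm_num⟩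

theorem card_pts : Fintype.card GolayPt = 24 := card_golayPt'

/-! ### Fixed points -/

/-- A nontrivial element of prime order at least 5 of `M24` fixes at most four points. -/
theorem fix_le_four {g : Equiv.Perm GolayPt} (hg : g ∈ M24) (q : ℕ) [hq : Fact q.Prime]
    (hq5 : 5 ≤ q) (hgq : g ^ q = 1) (hne : g ≠ 1) : (fixF g).card ≤ 4 := by
  classical
  by_contra hcon
  push Not at hcon
  obtain ⟨F5, hsub, hcard⟩ := Finset.exists_subset_card_eq (show 5 ≤ (fixF g).card by omega)
  obtain ⟨o, ho, hFo⟩ := exists_octad_of_card_five F5 hcard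
  have hfix : ∀ p ∈ F5, g p = p := fun p hp => mem_fixF.mp (hsub hp)
  have hgo : g • o = o := by
    apply smul_octad_eq hg hfix ho
    rw [Finset.inter_eq_right.mpr hFo, hcard]
  have hgo' := smul_finset_eq_iff.mp hgo
  have hA : ∀ a, a ∈ o \ F5 ↔ g a ∈ o \ F5 := by
    intro a
    rw [Finset.mem_sdiff, Finset.mem_sdiff, ← hgo' a]
    have : a ∈ F5 ↔ g a ∈ F5 := by
      constructor
      · intro h
        rw [hfix a h]; exact h
      · intro h
        have e : g (g a) = g a := hfix _ h
        have : g a = a := g.injective e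
        rw [← this]; exact h
    rw [this]
  have hAc : (o \ F5).card = 3 := by
    rw [Finset.card_sdiff_of_subset hFo, card_of_mem_octads ho, hcard]
  have hsubA := subset_fixF_of_card_lt g q hgq (o \ F5) hA (by rw [hAc]; omega)
  have hall : ∀ p ∈ o, g p = p := by
    intro p hp
    by_cases h : p ∈ F5
    · exact hfix p h
    · exact mem_fixF.mp (hsubA (Finset.mem_sdiff.mpr ⟨hp, h⟩))
  have hmem : g ∈ octFix o := mem_octFix.mpr ⟨hg, hall⟩
  have hsq := (octFix_spec ho).2 g hmem
  have h2 : g ^ 2 = 1 := by rw [pow_two]; exact hsq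
  have hd2 : orderOf g ∣ 2 := orderOf_dvd_of_pow_eq_one h2
  have hdq : orderOf g ∣ q := orderOf_dvd_of_pow_eq_one hgq
  have hcop : Nat.gcd 2 q = 1 := by
    have : Nat.Coprime 2 q := (Nat.coprime_primes Nat.prime_two hq.out).mpr (by omega)
    exact this
  have h1 : orderOf g ∣ 1 := by
    rw [← hcop]
    exact Nat.dvd_gcd hd2 hdq
  exact hne (orderOf_eq_one_iff.mp (Nat.dvd_one.mp h1))

theorem ne_one_of_orderOf {g : Equiv.Perm GolayPt} {q : ℕ} (ho : orderOf g = q) (hq : 2 ≤ q) :
    g ≠ 1 := by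
  rintro rfl
  rw [orderOf_one] at ho
  omega

theorem fix5 {g : Equiv.Perm GolayPt} (hg : g ∈ M24) (ho : orderOf g = 5) :
    (fixF g).card = 4 := by
  have hgq : g ^ 5 = 1 := by rw [← ho]; exact pow_orderOf_eq_one g
  have h1 := fix_le_four hg 5 le_rfl hgq (ne_one_of_orderOf ho (by norm_num))
  have h2 := card_fixF_modEq g 5 hgq
  rw [card_pts] at h2
  unfold Nat.ModEq at h2
  omega

theorem fix11 {g : Equiv.Perm GolayPt} (hg : g ∈ M24) (ho : orderOf g = 11) :
    (fixF g).card = 2 := by
  have hgq : g ^ 11 = 1 := by rw [← ho]; exact pow_orderOf_eq_one g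
  have h1 := fix_le_four hg 11 (by norm_num) hgq (ne_one_of_orderOf ho (by norm_num))
  have h2 := card_fixF_modEq g 11 hgq
  rw [card_pts] at h2
  unfold Nat.ModEq at h2
  omega

theorem fix7 {g : Equiv.Perm GolayPt} (hg : g ∈ M24) (ho : orderOf g = 7) :
    (fixF g).card = 3 := by
  have hgq : g ^ 7 = 1 := by rw [← ho]; exact pow_orderOf_eq_one g
  have h1 : (fixF g).card ≤ 3 := fix_le g hg ho
  have h2 := card_fixF_modEq g 7 hgq
  rw [card_pts] at h2
  unfold Nat.ModEq at h2
  omega

/-- Cauchy, for subgroups of the symmetric group. -/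
theorem exists_orderOf (H : Subgroup (Equiv.Perm GolayPt)) (q : ℕ) [Fact q.Prime]
    (hq : q ∣ Nat.card ↥H) : ∃ g ∈ H, orderOf g = q := by
  obtain ⟨x, hx⟩ := exists_prime_orderOf_dvd_card' q hq
  refine ⟨x.1, x.2, ?_⟩
  rw [← hx]
  exact (Subgroup.orderOf_coe x)

/-! ### Orders of stabilisers -/

theorem card_M24' : Nat.card ↥M24 = 244823040 := card_M24

/-- The stabiliser of a set of at most five points. -/
theorem choose_mul_card_setStabM (s : Finset GolayPt) (hs : s.card ≤ 5) :
    (24).choose s.card * Nat.card ↥(setStabM s) = 244823040 := by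
  have h := card_orbit_mul (G := Equiv.Perm GolayPt) M24 s
  rw [card_M24'] at h
  have h2 : MulAction.orbit ↥M24 s = {t : Finset GolayPt | t.card = s.card} :=
    orbit_of_card_le_five s hs
  rw [h2, ncard_card_eq, card_pts] at h
  exact h

theorem card_setStabM_two {s : Finset GolayPt} (hs : s.card = 2) :
    Nat.card ↥(setStabM s) = 887040 := by
  have h := choose_mul_card_setStabM s (by omega)
  rw [hs] at h
  have : (24).choose 2 = 276 := by decide
  rw [this] at h
  omega

theorem card_setStabM_four {s : Finset GolayPt} (hs : s.card = 4) :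
    Nat.card ↥(setStabM s) = 23040 := by
  have h := choose_mul_card_setStabM s (by omega)
  rw [hs] at h
  have : (24).choose 4 = 10626 := by decide
  rw [this] at h
  omega

/-! ### Step A -/

/-- The octads, as a sub-action. -/
def octSub (Q : Subgroup (Equiv.Perm GolayPt)) (hQ : Q ≤ M24) :
    SubMulAction ↥Q (Finset GolayPt) where
  carrier := octads
  smul_mem' := fun q _ ho => smul_mem_octads (hQ q.2) ho

theorem card_octSub (Q : Subgroup (Equiv.Perm GolayPt)) (hQ : Q ≤ M24) :
    Nat.card ↥(octSub Q hQ) = 759 := by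
  rw [← ncard_octads, ← Nat.card_coe_set_eq]
  rfl

/-- The setwise stabiliser of an octad is transitive on it. -/
theorem setStabM_trans {o : Finset GolayPt} (ho : o ∈ octads) {a b : GolayPt} (ha : a ∈ o)
    (hb : b ∈ o) : ∃ k ∈ setStabM o, k a = b := by
  obtain ⟨σa, hσa, hao, haa⟩ := octad_flag_trans ho a ha
  obtain ⟨σb, hσb, hbo, hbb⟩ := octad_flag_trans ho b hb
  refine ⟨σb * σa⁻¹, ?_, ?_⟩
  · rw [Subgroup.mem_inf]
    refine ⟨M24.mul_mem hσb (M24.inv_mem hσa), ?_⟩
    show (σb * σa⁻¹) • o = o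
    rw [mul_smul, inv_smul_eq_iff.mpr hao.symm, hbo]
  · rw [Equiv.Perm.mul_apply, ← haa]
    simp [hbb]

theorem mem_setStabM' {o : Finset GolayPt} {g : Equiv.Perm GolayPt} :
    g ∈ setStabM o ↔ g ∈ M24 ∧ g • o = o := by
  rw [Subgroup.mem_inf]
  exact Iff.rfl

/-- A subgroup of `M24` of order divisible by `2 ^ 10` stabilises an octad, is transitive on it,
and contains its pointwise stabiliser. -/
theorem stepA (H : Subgroup (Equiv.Perm GolayPt)) (hH : H ≤ M24) (h2 : 2 ^ 10 ∣ Nat.card ↥H) :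
    ∃ o ∈ octads, (∀ a ∈ o, ∀ b ∈ o, ∃ h ∈ H, h • o = o ∧ h a = b) ∧ octFix o ≤ H := by
  classical
  obtain ⟨Q0, hQ0⟩ := Sylow.exists_subgroup_card_pow_prime 2 h2
  set Q : Subgroup (Equiv.Perm GolayPt) := Q0.map H.subtype with hQdef
  have hQcard : Nat.card ↥Q = 2 ^ 10 := by
    rw [hQdef, Subgroup.card_map_of_injective H.subtype_injective, hQ0]
  have hQH : Q ≤ H := by
    rintro _ ⟨q, _, rfl⟩
    exact q.2
  have hQM : Q ≤ M24 := hQH.trans hH
  -- a fixed octad
  have hPG : IsPGroup 2 ↥Q := IsPGroup.of_card hQcard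
  obtain ⟨⟨o, ho⟩, hfix⟩ := hPG.nonempty_fixed_point_of_prime_not_dvd_card ↥(octSub Q hQM)
    (by rw [card_octSub]; norm_num)
  have ho' : o ∈ octads := ho
  have hQo : ∀ q ∈ Q, q • o = o := by
    intro q hq
    have := hfix ⟨q, hq⟩
    exact congrArg Subtype.val this
  have hQK : Q ≤ setStabM o := fun q hq => mem_setStabM'.mpr ⟨hQM hq, hQo q hq⟩
  -- inside the octad stabiliser
  have hK : Nat.card ↥(setStabM o) = 2 ^ 10 * 315 := by
    rw [card_setStabM_octad ho']
    norm_num
  have hQ'' : Nat.card ↥(Q.subgroupOf (setStabM o)) = 2 ^ 10 := by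
    rw [Nat.card_congr (Subgroup.subgroupOfEquivOfLe hQK).toEquiv, hQcard]
  refine ⟨o, ho', ?_, ?_⟩
  · intro a ha b hb
    have horb : (MulAction.orbit ↥(setStabM o) a).ncard = 2 ^ 3 := by
      have h1 : MulAction.orbit ↥(setStabM o) a = ↑o := by
        ext c
        rw [Finset.mem_coe]
        constructor
        · rintro ⟨k, rfl⟩
          have hk := (mem_setStabM'.mp k.2).2
          exact (smul_finset_eq_iff.mp hk a).mp ha
        · intro hc
          obtain ⟨k, hk, e⟩ := setStabM_trans ho' ha hc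
          exact ⟨⟨k, hk⟩, e⟩
      rw [h1, Set.ncard_coe_finset, card_of_mem_octads ho']
      norm_num
    have hbo : b ∈ MulAction.orbit ↥(setStabM o) a := by
      obtain ⟨k, hk, e⟩ := setStabM_trans ho' ha hb
      exact ⟨⟨k, hk⟩, e⟩
    obtain ⟨q, hq, hqa⟩ := sylow_orbit 2 10 3 315 hK (by norm_num) _ hQ'' a horb b hbo
    rw [Subgroup.mem_subgroupOf] at hq
    exact ⟨(q : Equiv.Perm GolayPt), hQH hq, hQo _ hq, hqa⟩
  · -- the pointwise stabiliser is a normal 2-subgroup of the setwise stabiliser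
    have hEK : octFix o ≤ setStabM o := octFix_le_setStabM o
    have hnorm : ((octFix o).subgroupOf (setStabM o)).Normal := by
      constructor
      intro e he k
      rw [Subgroup.mem_subgroupOf] at he ⊢
      rw [mem_octFix] at he ⊢
      have hk := (mem_setStabM.mp k.2)
      refine ⟨M24.mul_mem (M24.mul_mem hk.1 he.1) (M24.inv_mem hk.1), ?_⟩
      intro p hp
      have hp' : (k : Equiv.Perm GolayPt)⁻¹ p ∈ o := by
        have := (hk.2 ((k : Equiv.Perm GolayPt)⁻¹ p))
        rw [← this]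
        simpa using hp
      show ((k : Equiv.Perm GolayPt) * e * (k : Equiv.Perm GolayPt)⁻¹) p = p
      rw [Equiv.Perm.mul_apply, Equiv.Perm.mul_apply, he.2 _ hp']
      simp
    have hEP : IsPGroup 2 ↥((octFix o).subgroupOf (setStabM o)) := by
      apply IsPGroup.of_card (n := 4)
      rw [Nat.card_congr (Subgroup.subgroupOfEquivOfLe hEK).toEquiv, (octFix_spec ho').1]
      norm_num
    have hfac : (Nat.card ↥(setStabM o)).factorization 2 = 10 := by
      rw [hK]
      exact factorization_pow_mul 2 10 315 Nat.prime_two (by norm_num)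
    let P : Sylow 2 ↥(setStabM o) := Sylow.ofCard (Q.subgroupOf (setStabM o)) (by rw [hQ'', hfac])
    have hle := hEP.le_sylow_of_normal P
    intro e he
    have h1 : (⟨e, hEK he⟩ : ↥(setStabM o)) ∈ (octFix o).subgroupOf (setStabM o) := by
      rw [Subgroup.mem_subgroupOf]
      exact he
    have h2 := hle h1
    have h3 : (⟨e, hEK he⟩ : ↥(setStabM o)) ∈ Q.subgroupOf (setStabM o) := h2
    rw [Subgroup.mem_subgroupOf] at h3
    exact hQH h3

/-! ### Lemma B: the trio contradiction -/

/-- A transitive subgroup of `M24` containing an element of order 5, whose point stabiliser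
stabilises an octad through the point, with the octad stabiliser in the subgroup transitive on
the octad, does not exist. -/
theorem lemmaB (H : Subgroup (Equiv.Perm GolayPt)) (hH : H ≤ M24)
    (htr : ∀ a b : GolayPt, ∃ h ∈ H, h a = b)
    (o : Finset GolayPt) (ho : o ∈ octads) (p : GolayPt) (hp : p ∈ o)
    (hinv : ∀ h ∈ H, h p = p → h • o = o)
    (htro : ∀ a ∈ o, ∀ b ∈ o, ∃ h ∈ H, h • o = o ∧ h a = b)
    (g : Equiv.Perm GolayPt) (hg : g ∈ H) (hg5 : orderOf g = 5) : False := by
  classical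
  set Ho : Subgroup (Equiv.Perm GolayPt) := H ⊓ MulAction.stabilizer (Equiv.Perm GolayPt) o
    with hHo
  have hHomem : ∀ h, h ∈ Ho ↔ h ∈ H ∧ h • o = o := by
    intro h
    rw [hHo, Subgroup.mem_inf, MulAction.mem_stabilizer_iff]
  -- (1)
  have e1 := card_orb_mul H p
  have horbH : orb H p = Finset.univ := by
    ext b
    simp only [Finset.mem_univ, iff_true]
    exact mem_orb.mpr (htr p b)
  rw [horbH, Finset.card_univ, card_pts] at e1
  -- (2)
  have e2 := card_orb_mul Ho p
  have horbHo : orb Ho p = o := by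
    ext b
    rw [mem_orb]
    constructor
    · rintro ⟨h, hh, rfl⟩
      exact (smul_finset_eq_iff.mp ((hHomem h).mp hh).2 p).mp hp
    · intro hb
      obtain ⟨h, hh, hho, e⟩ := htro p hp b hb
      exact ⟨h, (hHomem h).mpr ⟨hh, hho⟩, e⟩
  have hstb : stb Ho p = stb H p := by
    ext h
    rw [mem_stb, mem_stb, hHomem]
    constructor
    · rintro ⟨⟨h1, _⟩, h3⟩
      exact ⟨h1, h3⟩
    · rintro ⟨h1, h3⟩
      exact ⟨⟨h1, hinv h h1 h3⟩, h3⟩
  rw [horbHo, card_of_mem_octads ho, hstb] at e2
  -- (3)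
  have e3 := card_orbit_mul (G := Equiv.Perm GolayPt) H o
  rw [← hHo] at e3
  have hpos : 0 < Nat.card ↥(stb H p) := Nat.card_pos
  have h3 : (MulAction.orbit ↥H o).ncard = 3 := by
    rw [← e2, ← e1] at e3
    have : (MulAction.orbit ↥H o).ncard * 8 * Nat.card ↥(stb H p) =
        3 * 8 * Nat.card ↥(stb H p) := by
      rw [mul_assoc, e3]
    have h4 := Nat.eq_of_mul_eq_mul_right hpos this
    omega
  -- (4) the orbit as a finset
  set OO : Finset (Finset GolayPt) := Finset.univ.filter (fun s => ∃ h ∈ H, h • o = s) with hOO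
  have hOOmem : ∀ s, s ∈ OO ↔ ∃ h ∈ H, h • o = s := by
    intro s
    rw [hOO]
    simp
  have hOOcard : OO.card = 3 := by
    rw [← h3, ← Set.ncard_coe_finset]
    congr 1
    ext s
    rw [Finset.mem_coe, hOOmem]
    constructor
    · rintro ⟨h, hh, rfl⟩
      exact ⟨⟨h, hh⟩, rfl⟩
    · rintro ⟨h, rfl⟩
      exact ⟨h.1, h.2, rfl⟩
  -- (5) the element of order five fixes every member
  have hg5' : g ^ 5 = 1 := by rw [← hg5]; exact pow_orderOf_eq_one g
  set σ : Equiv.Perm (Finset GolayPt) := MulAction.toPerm g with hσ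
  have hσ5 : σ ^ 5 = 1 := by
    have : σ = MulAction.toPermHom (Equiv.Perm GolayPt) (Finset GolayPt) g := rfl
    rw [this, ← map_pow, hg5', map_one]
  have hσinv : ∀ s, s ∈ OO ↔ σ s ∈ OO := by
    intro s
    rw [hOOmem, hOOmem]
    constructor
    · rintro ⟨h, hh, rfl⟩
      exact ⟨g * h, H.mul_mem hg hh, by rw [mul_smul]; rfl⟩
    · rintro ⟨h, hh, e⟩
      refine ⟨g⁻¹ * h, H.mul_mem (H.inv_mem hg) hh, ?_⟩
      rw [mul_smul, e]
      show g⁻¹ • (g • s) = s
      rw [inv_smul_smul]
  have hfixall := subset_fixF_of_card_lt σ 5 hσ5 OO hσinv (by rw [hOOcard]; norm_num)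
  have hgs : ∀ s ∈ OO, g • s = s := fun s hs => mem_fixF.mp (hfixall hs)
  -- (6) at least three fixed points in each member
  have hthree : ∀ s ∈ OO, 3 ≤ (s ∩ fixF g).card := by
    intro s hs
    have hc : s.card = 8 := by
      obtain ⟨h, _, rfl⟩ := (hOOmem s).mp hs
      rw [Finset.card_smul_finset, card_of_mem_octads ho]
    have := card_modEq_fixF g 5 hg5' s (smul_finset_eq_iff.mp (hgs s hs))
    rw [hc] at this
    unfold Nat.ModEq at this
    omega
  -- (7) two disjoint members
  obtain ⟨s1, s2, s3, h12, h13, h23, hOOeq⟩ := Finset.card_eq_three.mp hOOcard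
  have hs1 : s1 ∈ OO := by rw [hOOeq]; simp
  have hs2 : s2 ∈ OO := by rw [hOOeq]; simp
  have hs3 : s3 ∈ OO := by rw [hOOeq]; simp
  have hc8 : ∀ s ∈ OO, s.card = 8 := by
    intro s hs
    obtain ⟨h, _, rfl⟩ := (hOOmem s).mp hs
    rw [Finset.card_smul_finset, card_of_mem_octads ho]
  have hcover : (Finset.univ : Finset GolayPt) ⊆ s1 ∪ s2 ∪ s3 := by
    intro x _
    obtain ⟨h, hh, e⟩ := htr p x
    have hx : x ∈ h • o := by rw [← e]; exact apply_mem_smul_finset hp
    have hmem : h • o ∈ OO := (hOOmem _).mpr ⟨h, hh, rfl⟩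
    rw [hOOeq] at hmem
    simp only [Finset.mem_insert, Finset.mem_singleton] at hmem
    rcases hmem with e1 | e1 | e1 <;> rw [e1] at hx <;> simp [hx]
  have hcard24 : 24 ≤ (s1 ∪ s2 ∪ s3).card := by
    have := Finset.card_le_card hcover
    rwa [Finset.card_univ, card_pts] at this
  have hdisj : Disjoint s1 s2 := by
    rw [Finset.disjoint_iff_inter_eq_empty, ← Finset.card_eq_zero]
    have h1 := Finset.card_union_add_card_inter s1 s2
    have h2 := Finset.card_union_le (s1 ∪ s2) s3
    rw [hc8 s1 hs1, hc8 s2 hs2] at h1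
    rw [hc8 s3 hs3] at h2
    omega
  have hF := fix5 (hH hg) hg5
  have hsub : (s1 ∩ fixF g) ∪ (s2 ∩ fixF g) ⊆ fixF g :=
    Finset.union_subset Finset.inter_subset_right Finset.inter_subset_right
  have hd' : Disjoint (s1 ∩ fixF g) (s2 ∩ fixF g) :=
    Finset.disjoint_of_subset_left Finset.inter_subset_left
      (Finset.disjoint_of_subset_right Finset.inter_subset_left hdisj)
  have hle := Finset.card_le_card hsub
  rw [Finset.card_union_of_disjoint hd', hF] at hle
  have := hthree s1 hs1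
  have := hthree s2 hs2
  omega

end Cfsg.Agent.Helper27.Idx759
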