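import Mathlib
import Cfsg.Agent.Lib.Helper27.Idx759b
import Cfsg.Agent.Lib.Helper26.SxStabGroup

/-!
# Subgroups of index 759, 276, 1771 and 253 of `M24` (helper27), internal form
-/

set_option autoImplicit false
set_option linter.unusedSectionVars false
open scoped Pointwise
open Cfsg

namespace Cfsg.Agent.Helper27.Idx759

open Cfsg.Agent.Helper7 Cfsg.Agent.Helper26 Cfsg.Agent.Helper27.Idx253

/-- After `stepA`: the subgroup stabilises the octad or is transitive. -/
theorem dichotomy (H : Subgroup (Equiv.Perm GolayPt)) (o : Finset GolayPt) (ho : o ∈ octads)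
    (htro : ∀ a ∈ o, ∀ b ∈ o, ∃ h ∈ H, h • o = o ∧ h a = b) (hE : octFix o ≤ H) :
    (∀ h ∈ H, h • o = o) ∨ (∀ a b : GolayPt, ∃ h ∈ H, h a = b) := by
  classical
  by_cases hall : ∀ h ∈ H, h • o = o
  · exact Or.inl hall
  · right
    push Not at hall
    obtain ⟨h0, hh0, hne⟩ := hall
    -- a point of `o` moved outside
    obtain ⟨x, hx, hx'⟩ : ∃ x ∈ o, h0 x ∉ o := by
      by_contra hcon
      push Not at hcon
      apply hne
      apply Finset.eq_of_subset_of_card_le
      · intro y hy
        obtain ⟨z, hz, rfl⟩ := Finset.mem_smul_finset.mp hy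
        exact hcon z hz
      · rw [Finset.card_smul_finset]
    have hreach : ∀ y, ∃ h ∈ H, h x = y := by
      intro y
      by_cases hy : y ∈ o
      · obtain ⟨h, hh, _, e⟩ := htro x hx y hy
        exact ⟨h, hh, e⟩
      · obtain ⟨k, hk, e⟩ := octFix_trans ho hx' hy
        exact ⟨k * h0, H.mul_mem (hE hk) hh0, by rw [Equiv.Perm.mul_apply, e]⟩
    intro a b
    obtain ⟨ha, hha, ea⟩ := hreach a
    obtain ⟨hb, hhb, eb⟩ := hreach b
    refine ⟨hb * ha⁻¹, H.mul_mem hhb (H.inv_mem hha), ?_⟩
    rw [Equiv.Perm.mul_apply, ← ea]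
    simp [eb]

theorem octad_nonempty {o : Finset GolayPt} (ho : o ∈ octads) : ∃ p, p ∈ o := by
  have : o.Nonempty := by
    rw [← Finset.card_pos, card_of_mem_octads ho]
    norm_num
  exact this

theorem exists_notMem_octad {o : Finset GolayPt} (ho : o ∈ octads) : ∃ z, z ∉ o := by
  by_contra hcon
  push Not at hcon
  have : o = Finset.univ := Finset.eq_univ_iff_forall.mpr hcon
  have h := card_of_mem_octads ho
  rw [this, Finset.card_univ, card_pts] at h
  omega

theorem card_stb_of_trans (H : Subgroup (Equiv.Perm GolayPt))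
    (htr : ∀ a b : GolayPt, ∃ h ∈ H, h a = b) (p : GolayPt) :
    24 * Nat.card ↥(stb H p) = Nat.card ↥H := by
  have e1 := card_orb_mul H p
  have horbH : orb H p = Finset.univ := by
    ext b
    simp only [Finset.mem_univ, iff_true]
    exact mem_orb.mpr (htr p b)
  rw [horbH, Finset.card_univ, card_pts] at e1
  exact e1

/-- The big orbit of the point stabiliser. -/
theorem trans_setup (H : Subgroup (Equiv.Perm GolayPt)) (o : Finset GolayPt) (ho : o ∈ octads)
    (hE : octFix o ≤ H) (p : GolayPt) (hp : p ∈ o) :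
    ∃ B : Finset GolayPt, (∀ z ∉ o, z ∈ B) ∧ p ∉ B ∧ B.card ∣ Nat.card ↥(stb H p) ∧
      (∀ h ∈ stb H p, h • B = B) ∧ (∀ a ∈ B, ∀ b ∈ B, ∃ h ∈ stb H p, h a = b) ∧
      16 ≤ B.card ∧ B.card ≤ 23 := by
  classical
  obtain ⟨z0, hz0⟩ := exists_notMem_octad ho
  have hEp : octFix o ≤ stb H p := by
    intro e he
    rw [mem_stb]
    exact ⟨hE he, (mem_octFix.mp he).2 p hp⟩
  have h1 : ∀ z ∉ o, z ∈ orb (stb H p) z0 := by
    intro z hz
    obtain ⟨k, hk, e⟩ := octFix_trans ho hz0 hz
    exact mem_orb.mpr ⟨k, hEp hk, e⟩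
  have h2 : p ∉ orb (stb H p) z0 := by
    intro hmem
    obtain ⟨h, hh, e⟩ := mem_orb.mp hmem
    have hhp := (mem_stb.mp hh).2
    have : z0 = p := by
      apply h.injective
      rw [e, hhp]
    rw [this] at hz0
    exact hz0 hp
  have h16 : 16 ≤ (orb (stb H p) z0).card := by
    have hsub : oᶜ ⊆ orb (stb H p) z0 := by
      intro z hz
      exact h1 z (Finset.mem_compl.mp hz)
    have := Finset.card_le_card hsub
    rw [Finset.card_compl, card_pts, card_of_mem_octads ho] at this
    omega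
  have h23 : (orb (stb H p) z0).card ≤ 23 := by
    have hsub : orb (stb H p) z0 ⊆ Finset.univ.erase p := by
      intro z hz
      rw [Finset.mem_erase]
      refine ⟨?_, Finset.mem_univ _⟩
      rintro rfl
      exact h2 hz
    have := Finset.card_le_card hsub
    rw [Finset.card_erase_of_mem (Finset.mem_univ _), Finset.card_univ, card_pts] at this
    omega
  refine ⟨orb (stb H p) z0, h1, h2, orb_card_dvd _ _, ?_, ?_, h16, h23⟩
  · intro h hh
    exact smul_finset_eq_iff.mpr (fun a => orb_inv _ _ hh a)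
  · intro a ha b hb
    obtain ⟨ka, hka, ea⟩ := mem_orb.mp ha
    obtain ⟨kb, hkb, eb⟩ := mem_orb.mp hb
    refine ⟨kb * ka⁻¹, (stb H p).mul_mem hkb ((stb H p).inv_mem hka), ?_⟩
    rw [Equiv.Perm.mul_apply, ← ea]
    simp [eb]

/-- If the point stabiliser stabilises a set, it stabilises the complement. -/
theorem smul_compl_eq {g : Equiv.Perm GolayPt} {B : Finset GolayPt} (h : g • B = B) :
    g • Bᶜ = Bᶜ := by
  rw [smul_finset_eq_iff] at h ⊢
  intro a
  rw [Finset.mem_compl, Finset.mem_compl, h a]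

/-- The case of a big orbit of length 16. -/
theorem case16 (H : Subgroup (Equiv.Perm GolayPt)) (hH : H ≤ M24)
    (htr : ∀ a b : GolayPt, ∃ h ∈ H, h a = b) (o : Finset GolayPt) (ho : o ∈ octads)
    (htro : ∀ a ∈ o, ∀ b ∈ o, ∃ h ∈ H, h • o = o ∧ h a = b) (p : GolayPt) (hp : p ∈ o)
    (B : Finset GolayPt) (hB1 : ∀ z ∉ o, z ∈ B) (hBinv : ∀ h ∈ stb H p, h • B = B)
    (hB16 : B.card = 16) (h5 : 5 ∣ Nat.card ↥H) : False := by
  classical
  have hBo : B = oᶜ := by
    symm
    apply Finset.eq_of_subset_of_card_le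
    · intro z hz
      exact hB1 z (Finset.mem_compl.mp hz)
    · rw [Finset.card_compl, card_pts, card_of_mem_octads ho, hB16]
  have hinv : ∀ h ∈ H, h p = p → h • o = o := by
    intro h hh hhp
    have := smul_compl_eq (hBinv h (mem_stb.mpr ⟨hh, hhp⟩))
    rw [hBo, compl_compl] at this
    exact this
  obtain ⟨g, hg, hg5⟩ := exists_orderOf H 5 h5
  exact lemmaB H hH htr o ho p hp hinv htro g hg hg5

/-- The case of a big orbit of length 21. -/
theorem case21 (H : Subgroup (Equiv.Perm GolayPt)) (hH : H ≤ M24)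
    (htr : ∀ a b : GolayPt, ∃ h ∈ H, h a = b) (p : GolayPt)
    (B : Finset GolayPt) (hpB : p ∉ B) (hBinv : ∀ h ∈ stb H p, h • B = B)
    (hBtr : ∀ a ∈ B, ∀ b ∈ B, ∃ h ∈ stb H p, h a = b)
    (hB21 : B.card = 21) (h5 : 5 ∣ Nat.card ↥H) : False := by
  classical
  obtain ⟨g, hg, hg5⟩ := exists_orderOf H 5 h5
  have hg5' : g ^ 5 = 1 := by rw [← hg5]; exact pow_orderOf_eq_one g
  have hTc : (Bᶜ).card = 3 := by rw [Finset.card_compl, card_pts, hB21]
  apply no_fix_succ H htr p Bᶜ (Finset.mem_compl.mpr hpB)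
    (fun h hh hhp => smul_compl_eq (hBinv h (mem_stb.mpr ⟨hh, hhp⟩))) ?_ ?_ ?_ g hg 5 hg5' ?_ ?_
  · intro a ha b hb
    rw [Finset.mem_compl, not_not] at ha hb
    obtain ⟨h, hh, e⟩ := hBtr a ha b hb
    exact ⟨h, (mem_stb.mp hh).1, (mem_stb.mp hh).2, e⟩
  · rw [hTc, card_pts]; norm_num
  · rw [hTc]; norm_num
  · rw [hTc]; norm_num
  · rw [hTc, fix5 (hH hg) hg5]

theorem arith16_21 (n : ℕ) (hn : n = 13440 ∨ n = 40320) :
    ∀ m, 16 ≤ m → m ≤ 23 → m ∣ n → m % 7 ≤ 2 → m = 16 ∨ m = 21 := by
  rcases hn with rfl | rfl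
  · intro m h1 h2
    interval_cases m <;> decide
  · intro m h1 h2
    interval_cases m <;> decide

/-- The transitive case for orders 322560 and 967680. -/
theorem trans_false (H : Subgroup (Equiv.Perm GolayPt)) (hH : H ≤ M24)
    (htr : ∀ a b : GolayPt, ∃ h ∈ H, h a = b) (o : Finset GolayPt) (ho : o ∈ octads)
    (htro : ∀ a ∈ o, ∀ b ∈ o, ∃ h ∈ H, h • o = o ∧ h a = b) (hE : octFix o ≤ H)
    (hcard : Nat.card ↥H = 24 * 13440 ∨ Nat.card ↥H = 24 * 40320) : False := by
  classical
  obtain ⟨p, hp⟩ := octad_nonempty ho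
  obtain ⟨B, hB1, hpB, hBdvd, hBinv, hBtr, hB16, hB23⟩ := trans_setup H o ho hE p hp
  have hc := card_stb_of_trans H htr p
  have hn : Nat.card ↥(stb H p) = 13440 ∨ Nat.card ↥(stb H p) = 40320 := by
    rcases hcard with h | h <;> rw [h] at hc <;> omega
  have h5 : 5 ∣ Nat.card ↥H := by
    rcases hcard with h | h <;> rw [h] <;> norm_num
  have h7 : 7 ∣ Nat.card ↥(stb H p) := by
    rcases hn with h | h <;> rw [h] <;> norm_num
  -- an element of order 7 in the point stabiliser
  obtain ⟨g7, hg7, ho7⟩ := exists_orderOf (stb H p) 7 h7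
  have hg7' : g7 ^ 7 = 1 := by rw [← ho7]; exact pow_orderOf_eq_one g7
  have hg7M : g7 ∈ M24 := hH (mem_stb.mp hg7).1
  have hfix := fix7 hg7M ho7
  have hmod := card_modEq_fixF g7 7 hg7' B (smul_finset_eq_iff.mp (hBinv g7 hg7))
  have hle : (B ∩ fixF g7).card ≤ 2 := by
    have hsub : B ∩ fixF g7 ⊆ (fixF g7).erase p := by
      intro z hz
      rw [Finset.mem_inter] at hz
      rw [Finset.mem_erase]
      refine ⟨?_, hz.2⟩
      rintro rfl
      exact hpB hz.1
    have := Finset.card_le_card hsub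
    rw [Finset.card_erase_of_mem (mem_fixF.mpr (mem_stb.mp hg7).2), hfix] at this
    exact this
  have hB7 : B.card % 7 ≤ 2 := by
    unfold Nat.ModEq at hmod
    rw [hmod]
    exact le_trans (Nat.mod_le _ _) hle
  rcases arith16_21 _ hn B.card hB16 hB23 hBdvd hB7 with h | h
  · exact case16 H hH htr o ho htro p hp B hB1 hBinv h h5
  · exact case21 H hH htr p B hpB hBinv hBtr h h5

/-- Subgroups of order 322560 are octad stabilisers. -/
theorem part759 (H : Subgroup (Equiv.Perm GolayPt)) (hH : H ≤ M24)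
    (hcard : Nat.card ↥H = 322560) : ∃ o ∈ octads, H = setStabM o := by
  obtain ⟨o, ho, htro, hE⟩ := stepA H hH (by rw [hcard]; norm_num)
  rcases dichotomy H o ho htro hE with hall | htr
  · refine ⟨o, ho, ?_⟩
    have hle : H ≤ setStabM o := fun h hh => mem_setStabM'.mpr ⟨hH hh, hall h hh⟩
    exact Subgroup.eq_of_le_of_card_ge hle (by rw [card_setStabM_octad ho, hcard])
  · exact (trans_false H hH htr o ho htro hE (Or.inl (by rw [hcard]))).elim

/-- There is no subgroup of order 967680. -/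
theorem part253 (H : Subgroup (Equiv.Perm GolayPt)) (hH : H ≤ M24)
    (hcard : Nat.card ↥H = 967680) : False := by
  obtain ⟨o, ho, htro, hE⟩ := stepA H hH (by rw [hcard]; norm_num)
  rcases dichotomy H o ho htro hE with hall | htr
  · have hle : H ≤ setStabM o := fun h hh => mem_setStabM'.mpr ⟨hH hh, hall h hh⟩
    have := Subgroup.card_le_of_le hle
    rw [card_setStabM_octad ho, hcard] at this
    omega
  · exact trans_false H hH htr o ho htro hE (Or.inr (by rw [hcard]))

/-! ### Index 276 -/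

theorem arith276 : ∀ m, m ≤ 24 → 3 ≤ m → m ∣ 887040 → m % 11 ≤ 2 → m % 7 ≤ 3 →
    m = 22 ∨ m = 24 := by
  intro m h1 h2
  interval_cases m <;> decide

theorem arith276' : ∀ m, m ≤ 23 → 3 ≤ m → m ∣ 36960 → m % 11 ≤ 1 → m % 7 ≤ 2 → m = 22 := by
  intro m h1 h2
  interval_cases m <;> decide

/-- Subgroups of order 887040 are duad stabilisers. -/
theorem part276 (H : Subgroup (Equiv.Perm GolayPt)) (hH : H ≤ M24)
    (hcard : Nat.card ↥H = 887040) : ∃ s : Finset GolayPt, s.card = 2 ∧ H = setStabM s := by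
  classical
  obtain ⟨g11, hg11, ho11⟩ := exists_orderOf H 11 (by rw [hcard]; norm_num)
  obtain ⟨g7, hg7, ho7⟩ := exists_orderOf H 7 (by rw [hcard]; norm_num)
  have hg11' : g11 ^ 11 = 1 := by rw [← ho11]; exact pow_orderOf_eq_one g11
  have hg7' : g7 ^ 7 = 1 := by rw [← ho7]; exact pow_orderOf_eq_one g7
  have hf11 := fix11 (hH hg11) ho11
  have hf7 := fix7 (hH hg7) ho7
  -- a point moved by `g11`
  obtain ⟨c, hc⟩ : ∃ c, c ∉ fixF g11 := by
    by_contra hcon
    push Not at hcon
    have : fixF g11 = Finset.univ := Finset.eq_univ_iff_forall.mpr hcon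
    rw [this, Finset.card_univ, card_pts] at hf11
    omega
  set O := orb H c with hO
  have hOinv : ∀ h ∈ H, h • O = O := fun h hh =>
    smul_finset_eq_iff.mpr (fun a => orb_inv _ _ hh a)
  have hO3 : 3 ≤ O.card := by
    by_contra hlt
    push Not at hlt
    have := subset_fixF_of_card_lt g11 11 hg11' O (smul_finset_eq_iff.mp (hOinv g11 hg11))
      (by omega)
    exact hc (this (self_mem_orb H c))
  have hO24 : O.card ≤ 24 := by
    have := Finset.card_le_univ O
    rwa [card_pts] at this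
  have hm11 : O.card % 11 ≤ 2 := by
    have h := card_modEq_fixF g11 11 hg11' O (smul_finset_eq_iff.mp (hOinv g11 hg11))
    unfold Nat.ModEq at h
    rw [h]
    refine le_trans (Nat.mod_le _ _) ?_
    rw [← hf11]
    exact Finset.card_le_card Finset.inter_subset_right
  have hm7 : O.card % 7 ≤ 3 := by
    have h := card_modEq_fixF g7 7 hg7' O (smul_finset_eq_iff.mp (hOinv g7 hg7))
    unfold Nat.ModEq at h
    rw [h]
    refine le_trans (Nat.mod_le _ _) ?_
    rw [← hf7]
    exact Finset.card_le_card Finset.inter_subset_right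
  have hdvd : O.card ∣ 887040 := by
    rw [← hcard]
    exact orb_card_dvd H c
  rcases arith276 O.card hO24 hO3 hdvd hm11 hm7 with h22 | h24
  · -- the complement is an invariant duad
    refine ⟨Oᶜ, by rw [Finset.card_compl, card_pts, h22], ?_⟩
    have hle : H ≤ setStabM Oᶜ := fun h hh =>
      mem_setStabM'.mpr ⟨hH hh, smul_compl_eq (hOinv h hh)⟩
    exact Subgroup.eq_of_le_of_card_ge hle (by
      rw [card_setStabM_two (by rw [Finset.card_compl, card_pts, h22]), hcard])
  · -- the transitive case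
    exfalso
    have hOuniv : O = Finset.univ := by
      apply Finset.eq_univ_of_card
      rw [h24, card_pts]
    have htr : ∀ a b : GolayPt, ∃ h ∈ H, h a = b := by
      intro a b
      have ha : a ∈ O := by rw [hOuniv]; exact Finset.mem_univ _
      have hb : b ∈ O := by rw [hOuniv]; exact Finset.mem_univ _
      obtain ⟨ka, hka, ea⟩ := mem_orb.mp ha
      obtain ⟨kb, hkb, eb⟩ := mem_orb.mp hb
      refine ⟨kb * ka⁻¹, H.mul_mem hkb (H.inv_mem hka), ?_⟩
      rw [Equiv.Perm.mul_apply, ← ea]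
      simp [eb]
    -- a fixed point of `g11`
    obtain ⟨p, hp⟩ : ∃ p, p ∈ fixF g11 := by
      have : (fixF g11).Nonempty := by
        rw [← Finset.card_pos, hf11]
        norm_num
      exact this
    have hcs := card_stb_of_trans H htr p
    rw [hcard] at hcs
    have hn : Nat.card ↥(stb H p) = 36960 := by omega
    have hg11p : g11 ∈ stb H p := mem_stb.mpr ⟨hg11, mem_fixF.mp hp⟩
    obtain ⟨k7, hk7, hok7⟩ := exists_orderOf (stb H p) 7 (by rw [hn]; norm_num)
    have hk7' : k7 ^ 7 = 1 := by rw [← hok7]; exact pow_orderOf_eq_one k7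
    have hk7H : k7 ∈ H := (mem_stb.mp hk7).1
    have hfk7 := fix7 (hH hk7H) hok7
    set O' := orb (stb H p) c with hO'
    have hO'inv : ∀ h ∈ stb H p, h • O' = O' := fun h hh =>
      smul_finset_eq_iff.mpr (fun a => orb_inv _ _ hh a)
    have hpO' : p ∉ O' := by
      intro hmem
      obtain ⟨h, hh, e⟩ := mem_orb.mp hmem
      have hhp := (mem_stb.mp hh).2
      have : c = p := by
        apply h.injective
        rw [e, hhp]
      rw [this] at hc
      exact hc hp
    have hO'3 : 3 ≤ O'.card := by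
      by_contra hlt
      push Not at hlt
      have := subset_fixF_of_card_lt g11 11 hg11' O'
        (smul_finset_eq_iff.mp (hO'inv g11 hg11p)) (by omega)
      exact hc (this (self_mem_orb _ c))
    have hO'23 : O'.card ≤ 23 := by
      have hsub : O' ⊆ Finset.univ.erase p := by
        intro z hz
        rw [Finset.mem_erase]
        refine ⟨?_, Finset.mem_univ _⟩
        rintro rfl
        exact hpO' hz
      have := Finset.card_le_card hsub
      rw [Finset.card_erase_of_mem (Finset.mem_univ _), Finset.card_univ, card_pts] at this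
      omega
    have hm11' : O'.card % 11 ≤ 1 := by
      have h := card_modEq_fixF g11 11 hg11' O' (smul_finset_eq_iff.mp (hO'inv g11 hg11p))
      unfold Nat.ModEq at h
      rw [h]
      refine le_trans (Nat.mod_le _ _) ?_
      have hsub : O' ∩ fixF g11 ⊆ (fixF g11).erase p := by
        intro z hz
        rw [Finset.mem_inter] at hz
        rw [Finset.mem_erase]
        refine ⟨?_, hz.2⟩
        rintro rfl
        exact hpO' hz.1
      have := Finset.card_le_card hsub
      rw [Finset.card_erase_of_mem hp, hf11] at this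
      exact this
    have hm7' : O'.card % 7 ≤ 2 := by
      have h := card_modEq_fixF k7 7 hk7' O' (smul_finset_eq_iff.mp (hO'inv k7 hk7))
      unfold Nat.ModEq at h
      rw [h]
      refine le_trans (Nat.mod_le _ _) ?_
      have hsub : O' ∩ fixF k7 ⊆ (fixF k7).erase p := by
        intro z hz
        rw [Finset.mem_inter] at hz
        rw [Finset.mem_erase]
        refine ⟨?_, hz.2⟩
        rintro rfl
        exact hpO' hz.1
      have := Finset.card_le_card hsub
      rw [Finset.card_erase_of_mem (mem_fixF.mpr (mem_stb.mp hk7).2), hfk7] at this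
      exact this
    have hdvd' : O'.card ∣ 36960 := by
      rw [← hn]
      exact orb_card_dvd _ c
    have h22 := arith276' O'.card hO'23 hO'3 hdvd' hm11' hm7'
    have hTc : (O'ᶜ).card = 2 := by rw [Finset.card_compl, card_pts, h22]
    apply no_fix_succ H htr p O'ᶜ (Finset.mem_compl.mpr hpO')
      (fun h hh hhp => smul_compl_eq (hO'inv h (mem_stb.mpr ⟨hh, hhp⟩))) ?_ ?_ ?_ k7 hk7H 7 hk7'
      ?_ ?_
    · intro a ha b hb
      rw [Finset.mem_compl, not_not] at ha hb
      obtain ⟨ka, hka, ea⟩ := mem_orb.mp ha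
      obtain ⟨kb, hkb, eb⟩ := mem_orb.mp hb
      have hmem : kb * ka⁻¹ ∈ stb H p := (stb H p).mul_mem hkb ((stb H p).inv_mem hka)
      refine ⟨kb * ka⁻¹, (mem_stb.mp hmem).1, (mem_stb.mp hmem).2, ?_⟩
      rw [Equiv.Perm.mul_apply, ← ea]
      simp [eb]
    · rw [hTc, card_pts]; norm_num
    · rw [hTc]
    · rw [hTc]; norm_num
    · rw [hTc, hfk7]

end Cfsg.Agent.Helper27.Idx759
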