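import Mathlib
import Cfsg.Agent.Lib.Helper27.Idx759c

/-!
# Subgroups of index 1771 of `M24` are sextet stabilisers (helper27), internal form
-/

set_option autoImplicit false
set_option linter.unusedSectionVars false
open scoped Pointwise
open Cfsg

namespace Cfsg.Agent.Helper27.Idx759

open Cfsg.Agent.Helper7 Cfsg.Agent.Helper26 Cfsg.Agent.Helper27.Idx253

/-- Stabilisers in `M24`, as subgroups of the symmetric group. -/
theorem stabilizer_map_subtype {β : Type*} [MulAction (Equiv.Perm GolayPt) β] (X : β) :
    (MulAction.stabilizer ↥M24 X).map M24.subtype =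
      M24 ⊓ MulAction.stabilizer (Equiv.Perm GolayPt) X := by
  ext g
  rw [Subgroup.mem_map, Subgroup.mem_inf]
  constructor
  · rintro ⟨x, hx, rfl⟩
    refine ⟨x.2, ?_⟩
    rw [MulAction.mem_stabilizer_iff] at hx ⊢
    exact hx
  · rintro ⟨h1, h2⟩
    refine ⟨⟨g, h1⟩, ?_, rfl⟩
    rw [MulAction.mem_stabilizer_iff] at h2 ⊢
    exact h2

theorem card_sextetStab {S : Finset (Finset GolayPt)} (hS : S ∈ sextets) :
    Nat.card ↥(M24 ⊓ MulAction.stabilizer (Equiv.Perm GolayPt) S) = 138240 := by
  rw [← stabilizer_map_subtype, Subgroup.card_map_of_injective M24.subtype_injective]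
  exact card_stab_sextet hS

/-- The final identification: a transitive subgroup of order 138240 whose point stabiliser
stabilises a tetrad and is transitive outside it is the stabiliser of the sextet of that tetrad. -/
theorem sextet_of_tetrad (H : Subgroup (Equiv.Perm GolayPt)) (hH : H ≤ M24)
    (htr : ∀ a b : GolayPt, ∃ h ∈ H, h a = b) (hcard : Nat.card ↥H = 138240)
    (p : GolayPt) (T : Finset GolayPt) (hpT : p ∈ T) (hT4 : T.card = 4)
    (hinv : ∀ h ∈ H, h p = p → h • T = T)
    (htrC : ∀ a ∉ T, ∀ b ∉ T, ∃ h ∈ H, h p = p ∧ h a = b) :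
    H = M24 ⊓ MulAction.stabilizer (Equiv.Perm GolayPt) (sx T) := by
  classical
  have hblock := block_lemma H htr p T hpT hinv htrC (by rw [hT4, card_pts]; norm_num)
  -- the stabiliser of the tetrad in `H`
  set HT : Subgroup (Equiv.Perm GolayPt) := H ⊓ MulAction.stabilizer (Equiv.Perm GolayPt) T
    with hHT
  have hHTmem : ∀ h, h ∈ HT ↔ h ∈ H ∧ h • T = T := by
    intro h
    rw [hHT, Subgroup.mem_inf, MulAction.mem_stabilizer_iff]
  have e1 := card_orb_mul HT p
  have horb : orb HT p = T := by
    ext b
    rw [mem_orb]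
    constructor
    · rintro ⟨h, hh, rfl⟩
      exact (smul_finset_eq_iff.mp ((hHTmem h).mp hh).2 p).mp hpT
    · intro hb
      obtain ⟨k, hk, e⟩ := htr p b
      refine ⟨k, (hHTmem k).mpr ⟨hk, hblock k hk p hpT (by rw [e]; exact hb)⟩, e⟩
  have hstb : stb HT p = stb H p := by
    ext h
    rw [mem_stb, mem_stb, hHTmem]
    constructor
    · rintro ⟨⟨h1, _⟩, h3⟩
      exact ⟨h1, h3⟩
    · rintro ⟨h1, h3⟩
      exact ⟨⟨h1, hinv h h1 h3⟩, h3⟩
  rw [horb, hT4, hstb] at e1
  have e2 := card_stb_of_trans H htr p
  rw [hcard] at e2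
  have hHTcard : Nat.card ↥HT = 23040 := by omega
  have hHTle : HT ≤ setStabM T := by
    intro h hh
    rw [hHTmem] at hh
    exact mem_setStabM'.mpr ⟨hH hh.1, hh.2⟩
  have hHTeq : HT = setStabM T :=
    Subgroup.eq_of_le_of_card_ge hHTle (by rw [card_setStabM_four hT4, hHTcard])
  have hST : setStabM T ≤ H := by
    rw [← hHTeq]
    exact inf_le_left
  -- every translate of the tetrad lies in the sextet
  have key : ∀ h ∈ H, h • T ∈ sx T := by
    intro h hh
    by_cases hx : h p ∈ T
    · rw [hblock h hh p hpT hx]
      exact mem_sx_self T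
    · obtain ⟨ox, ⟨hox, hxox⟩, _⟩ := existsUnique_octsOver hT4 hx
      rw [mem_octsOver] at hox
      have hEH : octFix ox ≤ H := by
        intro e he
        apply hST
        rw [mem_octFix] at he
        refine mem_setStabM'.mpr ⟨he.1, ?_⟩
        rw [smul_finset_eq_iff]
        intro a
        constructor
        · intro ha
          rw [he.2 a (hox.2 ha)]
          exact ha
        · intro ha
          have h1 : e (e a) = e a := he.2 _ (hox.2 ha)
          have h2 : e a = a := e.injective h1
          rw [← h2]
          exact ha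
      -- (i)
      have hdisj : ∀ z ∈ h • T, z ∉ T := by
        intro z hz hzT
        rw [mem_smul_finset_iff] at hz
        have h1 : h • T = T := hblock h hh (h⁻¹ z) hz (by simpa using hzT)
        apply hx
        rw [← h1]
        exact apply_mem_smul_finset hpT
      -- (ii)
      have hsub : h • T ⊆ ox := by
        by_contra hcon
        rw [Finset.not_subset] at hcon
        obtain ⟨z, hz, hzo⟩ := hcon
        have hall : oxᶜ ⊆ h • T := by
          intro w hw
          rw [Finset.mem_compl] at hw
          obtain ⟨e, he, hew⟩ := octFix_trans hox.1 hzo hw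
          have heH : e ∈ H := hEH he
          have hex : e (h p) = h p := (mem_octFix.mp he).2 _ hxox
          have h1 : (h⁻¹ * e * h) • T = T := by
            apply hinv _ (H.mul_mem (H.mul_mem (H.inv_mem hh) heH) hh)
            rw [Equiv.Perm.mul_apply, Equiv.Perm.mul_apply, hex]
            simp
          rw [mul_smul, mul_smul, inv_smul_eq_iff] at h1
          rw [← hew]
          exact (smul_finset_eq_iff.mp h1 z).mp hz
        have := Finset.card_le_card hall
        rw [Finset.card_compl, card_pts, card_of_mem_octads hox.1, Finset.card_smul_finset,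
          hT4] at this
        omega
      -- (iii)
      have heq : h • T = ox \ T := by
        apply Finset.eq_of_subset_of_card_le
        · intro z hz
          exact Finset.mem_sdiff.mpr ⟨hsub hz, hdisj z hz⟩
        · rw [Finset.card_sdiff_of_subset hox.2, card_of_mem_octads hox.1, hT4,
            Finset.card_smul_finset, hT4]
      rw [mem_sx]
      right
      exact ⟨ox, mem_octsOver.mpr hox, heq.symm⟩
  have hS := sx_mem_sextets hT4
  have hstabS : ∀ h ∈ H, h • sx T = sx T := by
    intro h hh
    have h1 : h • sx T ∈ sextets := smul_mem_sextets (hH hh) hS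
    have h2 : h • T ∈ h • sx T := Finset.smul_mem_smul_finset (mem_sx_self T)
    have h3 := sextet_eq_sx h1 h2
    rw [h3, sx_eq_of_mem hT4 (key h hh)]
  have hle : H ≤ M24 ⊓ MulAction.stabilizer (Equiv.Perm GolayPt) (sx T) := by
    intro h hh
    rw [Subgroup.mem_inf]
    exact ⟨hH hh, MulAction.mem_stabilizer_iff.mpr (hstabS h hh)⟩
  exact Subgroup.eq_of_le_of_card_ge hle (by rw [card_sextetStab hS, hcard])

theorem arith1771 : ∀ m, 16 ≤ m → m ≤ 23 → m ∣ 5760 → m = 16 ∨ m = 18 ∨ m = 20 := by
  intro m h1 h2
  interval_cases m <;> decide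

/-- Subgroups of order 138240 are sextet stabilisers. -/
theorem part1771 (H : Subgroup (Equiv.Perm GolayPt)) (hH : H ≤ M24)
    (hcard : Nat.card ↥H = 138240) :
    ∃ S ∈ sextets, H = M24 ⊓ MulAction.stabilizer (Equiv.Perm GolayPt) S := by
  classical
  obtain ⟨o, ho, htro, hE⟩ := stepA H hH (by rw [hcard]; norm_num)
  rcases dichotomy H o ho htro hE with hall | htr
  · exfalso
    have hle : H ≤ setStabM o := fun h hh => mem_setStabM'.mpr ⟨hH hh, hall h hh⟩
    have := Subgroup.card_dvd_of_le hle
    rw [card_setStabM_octad ho, hcard] at this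
    revert this
    decide
  · obtain ⟨p, hp⟩ := octad_nonempty ho
    obtain ⟨B, hB1, hpB, hBdvd, hBinv, hBtr, hB16, hB23⟩ := trans_setup H o ho hE p hp
    have hc := card_stb_of_trans H htr p
    rw [hcard] at hc
    have hn : Nat.card ↥(stb H p) = 5760 := by omega
    rw [hn] at hBdvd
    have h5 : 5 ∣ Nat.card ↥H := by rw [hcard]; norm_num
    have hBo : ∀ z, z ∈ Bᶜ → z ∈ o := by
      intro z hz
      rw [Finset.mem_compl] at hz
      by_contra hzo
      exact hz (hB1 z hzo)
    rcases arith1771 B.card hB16 hB23 hBdvd with h | h | h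
    · exact (case16 H hH htr o ho htro p hp B hB1 hBinv h h5).elim
    · -- the complement has six points and lies in the octad
      exfalso
      have hWc : (Bᶜ).card = 6 := by rw [Finset.card_compl, card_pts, h]
      have hstab : ∀ k ∈ stb H p, k • o = o := by
        intro k hk
        have hkW : k • Bᶜ = Bᶜ := smul_compl_eq (hBinv k hk)
        have hko : k • o ∈ octads := Cfsg.Agent.Helper7.smul_mem_octads (hH (mem_stb.mp hk).1) ho
        apply octad_eq_of_inter hko ho
        have hsub : Bᶜ ⊆ k • o ∩ o := by
          intro z hz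
          rw [Finset.mem_inter]
          refine ⟨?_, hBo z hz⟩
          rw [← hkW] at hz
          obtain ⟨w, hw, rfl⟩ := Finset.mem_smul_finset.mp hz
          exact Finset.smul_mem_smul_finset (hBo w hw)
        have := Finset.card_le_card hsub
        rw [hWc] at this
        omega
      -- a point of `B` in the octad
      obtain ⟨a, haB, hao⟩ : ∃ a ∈ B, a ∈ o := by
        by_contra hcon
        push Not at hcon
        have hsub : B ⊆ oᶜ := fun z hz => Finset.mem_compl.mpr (hcon z hz)
        have := Finset.card_le_card hsub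
        rw [Finset.card_compl, card_pts, card_of_mem_octads ho, h] at this
        omega
      obtain ⟨z0, hz0⟩ := exists_notMem_octad ho
      obtain ⟨k, hk, e⟩ := hBtr a haB z0 (hB1 z0 hz0)
      apply hz0
      rw [← e]
      exact (smul_finset_eq_iff.mp (hstab k hk) a).mp hao
    · -- the tetrad
      have hTc : (Bᶜ).card = 4 := by rw [Finset.card_compl, card_pts, h]
      refine ⟨sx Bᶜ, sx_mem_sextets hTc, ?_⟩
      apply sextet_of_tetrad H hH htr hcard p Bᶜ (Finset.mem_compl.mpr hpB) hTc
      · intro k hk hkp
        exact smul_compl_eq (hBinv k (mem_stb.mpr ⟨hk, hkp⟩))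
      · intro a ha b hb
        rw [Finset.mem_compl, not_not] at ha hb
        obtain ⟨k, hk, e⟩ := hBtr a ha b hb
        exact ⟨k, (mem_stb.mp hk).1, (mem_stb.mp hk).2, e⟩

end Cfsg.Agent.Helper27.Idx759
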