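import Mathlib
import Cfsg.Prelude.Def_SporadicCombinatorics

set_option autoImplicit false

/-! # Monomial automorphisms of a linear code

Generalities on the pairs `(σ, c)` of a coordinate permutation and a vector of nonzero scalars whose
monomial map preserves a subspace `C` of `α → F`. -/

namespace Cfsg.Agent.Helper27.Mono

open Cfsg

variable {α : Type*} {F : Type*} [Field F]

/-- The monomial map of `(σ, c)` preserves the code `C`. -/
def Pres (C : Submodule F (α → F)) (σ : Equiv.Perm α) (c : α → Fˣ) : Prop :=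
  ∀ x ∈ C, Cfsg.monomialMap σ c x ∈ C

/-- The monomial map as a linear map. -/
def monoLin (σ : Equiv.Perm α) (c : α → Fˣ) : (α → F) →ₗ[F] (α → F) where
  toFun := Cfsg.monomialMap σ c
  map_add' x y := by
    funext i
    simp [Cfsg.monomialMap, mul_add]
  map_smul' a x := by
    funext i
    simp [Cfsg.monomialMap, mul_left_comm]

theorem monoLin_apply (σ : Equiv.Perm α) (c : α → Fˣ) (x : α → F) :
    monoLin σ c x = Cfsg.monomialMap σ c x := rfl

/-- It suffices to check a spanning set. -/
theorem pres_of_span {C : Submodule F (α → F)} {S : Set (α → F)} (hC : C = Submodule.span F S)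
    {σ : Equiv.Perm α} {c : α → Fˣ} (h : ∀ s ∈ S, Cfsg.monomialMap σ c s ∈ C) : Pres C σ c := by
  have hle : C ≤ C.comap (monoLin σ c) := by
    conv_lhs => rw [hC]
    rw [Submodule.span_le]
    intro s hs
    exact h s hs
  intro x hx
  exact hle hx

theorem monomialMap_comp (σ τ : Equiv.Perm α) (c e : α → Fˣ) (x : α → F) :
    Cfsg.monomialMap σ c (Cfsg.monomialMap τ e x) =
      Cfsg.monomialMap (σ * τ) (fun i => c i * e (σ.symm i)) x := by
  funext i
  simp [Cfsg.monomialMap, mul_assoc, Equiv.Perm.mul_def]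

theorem monomialMap_one (x : α → F) : Cfsg.monomialMap 1 (fun _ => (1 : Fˣ)) x = x := by
  funext i
  simp only [Cfsg.monomialMap, Units.val_one, one_mul]
  rfl

/-- The permutation parts of the monomial automorphisms, as a submonoid. -/
def Tm (C : Submodule F (α → F)) : Submonoid (Equiv.Perm α) where
  carrier := {σ | ∃ c, Pres C σ c}
  mul_mem' := by
    rintro σ τ ⟨c, hc⟩ ⟨e, he⟩
    refine ⟨fun i => c i * e (σ.symm i), fun x hx => ?_⟩
    rw [← monomialMap_comp]
    exact hc _ (he x hx)
  one_mem' := ⟨fun _ => 1, fun x hx => by rw [monomialMap_one]; exact hx⟩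

/-- The permutation parts of the monomial automorphisms, as a subgroup. -/
def T [Finite α] (C : Submodule F (α → F)) : Subgroup (Equiv.Perm α) :=
  { Tm C with
    inv_mem' := by
      intro σ hσ
      have h1 : σ⁻¹ = σ ^ (orderOf σ - 1) := by
        apply inv_eq_of_mul_eq_one_left
        rw [← pow_succ, Nat.sub_add_cancel (orderOf_pos σ), pow_orderOf_eq_one]
      rw [h1]
      exact (Tm C).pow_mem hσ _ }

theorem mem_T_iff [Finite α] (C : Submodule F (α → F)) (σ : Equiv.Perm α) :
    σ ∈ T C ↔ ∃ c, Pres C σ c := Iff.rfl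

theorem pres_smul (C : Submodule F (α → F)) (σ : Equiv.Perm α) (c : α → Fˣ) (u : Fˣ)
    (h : Pres C σ c) : Pres C σ (fun i => u * c i) := by
  intro x hx
  have : Cfsg.monomialMap σ (fun i => u * c i) x = (u : F) • Cfsg.monomialMap σ c x := by
    funext i
    simp [Cfsg.monomialMap, mul_assoc]
  rw [this]
  exact Submodule.smul_mem _ _ (h x hx)

theorem monomialMap_injective (σ : Equiv.Perm α) (c : α → Fˣ) :
    Function.Injective (Cfsg.monomialMap (F := F) σ c) := by
  intro x y h
  funext i
  have := congrFun h (σ i)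
  simp only [Cfsg.monomialMap, Equiv.symm_apply_apply] at this
  exact (c (σ i)).isUnit.mul_left_cancel this

theorem pres_div (C : Submodule F (α → F)) [Finite ↥C] (σ : Equiv.Perm α) (c c' : α → Fˣ)
    (h : Pres C σ c) (h' : Pres C σ c') : Pres C 1 (fun i => c' i / c i) := by
  let f : ↥C → ↥C := fun x => ⟨Cfsg.monomialMap σ c x.1, h x.1 x.2⟩
  have hinj : Function.Injective f := by
    intro x y hxy
    apply Subtype.ext
    exact monomialMap_injective σ c (congrArg Subtype.val hxy)
  have hsurj := Finite.injective_iff_surjective.mp hinj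
  intro y hy
  obtain ⟨x, hx⟩ := hsurj ⟨y, hy⟩
  have hx' : Cfsg.monomialMap σ c x.1 = y := congrArg Subtype.val hx
  have : Cfsg.monomialMap 1 (fun i => c' i / c i) y = Cfsg.monomialMap σ c' x.1 := by
    rw [← hx']
    funext i
    have e : (Equiv.symm (1 : Equiv.Perm α)) i = i := rfl
    simp only [Cfsg.monomialMap]
    rw [e, div_eq_mul_inv, Units.val_mul, mul_assoc, ← mul_assoc (((c i)⁻¹ : Fˣ) : F),
      Units.inv_mul, one_mul]
  rw [this]
  exact h' x.1 x.2

/-- A chosen vector of scalars for a permutation part. -/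
noncomputable def chosen [Finite α] (C : Submodule F (α → F)) (σ : ↥(T C)) : α → Fˣ :=
  Classical.choose σ.2

theorem chosen_spec [Finite α] (C : Submodule F (α → F)) (σ : ↥(T C)) :
    Pres C σ.1 (chosen C σ) := Classical.choose_spec σ.2

/-- If the diagonal automorphisms are scalar, the monomial automorphisms are the pairs of a
permutation part and a scalar. -/
noncomputable def autEquiv [Finite α] (C : Submodule F (α → F)) [Finite ↥C]
    (hdiag : ∀ c : α → Fˣ, Pres C 1 c → ∀ i j, c i = c j) (a0 : α) :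
    {f : Equiv.Perm α × (α → Fˣ) // ∀ x ∈ C, Cfsg.monomialMap f.1 f.2 x ∈ C} ≃ ↥(T C) × Fˣ where
  toFun f := (⟨f.1.1, ⟨f.1.2, f.2⟩⟩, f.1.2 a0 / chosen C ⟨f.1.1, ⟨f.1.2, f.2⟩⟩ a0)
  invFun p := ⟨(p.1.1, fun i => p.2 * chosen C p.1 i), pres_smul C _ _ _ (chosen_spec C p.1)⟩
  left_inv := by
    rintro ⟨⟨σ, c⟩, h⟩
    apply Subtype.ext
    refine Prod.ext rfl ?_
    funext i
    have hd := hdiag _ (pres_div C σ (chosen C ⟨σ, ⟨c, h⟩⟩) c (chosen_spec C ⟨σ, ⟨c, h⟩⟩) h) a0 i
    simp only at hd ⊢
    rw [hd, div_mul_cancel]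
  right_inv := by
    rintro ⟨σ, u⟩
    refine Prod.ext rfl ?_
    simp only
    rw [mul_div_assoc, div_self', mul_one]

end Cfsg.Agent.Helper27.Mono
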