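import Mathlib
import Cfsg.Prelude.Def_SporadicCombinatorics

set_option autoImplicit false
set_option maxRecDepth 1000000

/-! # A computational model of the ternary code of length 12 -/

namespace Cfsg.Agent.Helper27.TG

open Cfsg

theorem mem_tetracode_iff (t : Fin 4 → ZMod 3) :
    t ∈ tetracode ↔ ∃ a b : ZMod 3, a • ![0, 1, 1, 1] + b • ![1, 0, 1, 2] = t := by
  unfold tetracode
  rw [Submodule.mem_span_pair]

/-- Decidable form of the membership conditions. -/
def IsW (x : ArrayPt → ZMod 3) : Prop :=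
  ∃ s : ZMod 3, (∀ i : Fin 4, ∑ r : ZMod 3, x (i, r) = -s) ∧
    ∀ a b : ZMod 3,
      ∑ i : Fin 4, x (i, (a • ![0, 1, 1, 1] + b • ![1, 0, 1, 2] : Fin 4 → ZMod 3) i) = s

instance (x : ArrayPt → ZMod 3) : Decidable (IsW x) := by unfold IsW; infer_instance

theorem isWord_iff (x : ArrayPt → ZMod 3) : x ∈ ternaryGolayCode ↔ IsW x := by
  change IsTernaryGolayWord x ↔ _
  unfold IsTernaryGolayWord IsW
  constructor
  · rintro ⟨s, h1, h2⟩
    exact ⟨s, h1, fun a b => h2 _ ((mem_tetracode_iff _).mpr ⟨a, b, rfl⟩)⟩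
  · rintro ⟨s, h1, h2⟩
    refine ⟨s, h1, fun t ht => ?_⟩
    obtain ⟨a, b, rfl⟩ := (mem_tetracode_iff t).mp ht
    exact h2 a b

/-! ### Indexing the twelve positions -/

/-- The index `0 ≤ j < 12` of a position. -/
def aidx (p : ArrayPt) : ℕ := 3 * p.1.val + p.2.val

/-- The position of index `j`. -/
def apt (j : ℕ) : ArrayPt := (⟨j / 3 % 4, Nat.mod_lt _ (by norm_num)⟩, ((j % 3 : ℕ) : ZMod 3))

theorem aidx_lt (p : ArrayPt) : aidx p < 12 := by
  unfold aidx
  have h1 := p.1.isLt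
  have h2 : p.2.val < 3 := ZMod.val_lt p.2
  omega

theorem apt_aidx : ∀ p : ArrayPt, apt (aidx p) = p := by decide

theorem aidx_apt : ∀ j < 12, aidx (apt j) = j := by decide

theorem aidx_injective : Function.Injective aidx := fun p q h => by
  rw [← apt_aidx p, ← apt_aidx q, h]

/-! ### A systematic basis -/

def Btbl : List (List ℕ) :=
  [[1, 0, 0, 0, 0, 1, 0, 0, 1, 1, 1, 2],
   [0, 1, 0, 0, 0, 1, 0, 2, 2, 2, 0, 2],
   [0, 0, 1, 0, 0, 1, 0, 1, 0, 2, 1, 1],
   [0, 0, 0, 1, 0, 2, 0, 2, 1, 2, 1, 0],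
   [0, 0, 0, 0, 1, 2, 0, 1, 2, 0, 1, 2],
   [0, 0, 0, 0, 0, 0, 1, 1, 1, 2, 2, 2]]

/-- Entry `(k, j)` of the generator matrix. -/
def bent (k j : ℕ) : ℕ := (Btbl.getD k []).getD j 0

/-- The `k`-th basis word. -/
def bvec (k : ℕ) : ArrayPt → ZMod 3 := fun p => ((bent k (aidx p) : ℕ) : ZMod 3)

theorem bvec_mem : ∀ k < 6, bvec k ∈ ternaryGolayCode := by
  intro k hk
  rw [isWord_iff]
  interval_cases k <;> decide

/-- The information positions. -/
def info : Fin 6 → ArrayPt := ![(0, 0), (0, 1), (0, 2), (1, 0), (1, 1), (2, 0)]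

theorem bvec_info : ∀ k l : Fin 6, bvec k.val (info l) = if k = l then 1 else 0 := by decide

/-- A word vanishing on the information set. -/
def mk (y5 y7 y8 y9 y10 y11 : ZMod 3) : ArrayPt → ZMod 3 := fun p =>
  match aidx p with
  | 5 => y5
  | 7 => y7
  | 8 => y8
  | 9 => y9
  | 10 => y10
  | 11 => y11
  | _ => 0

theorem mk_spec : ∀ y5 y7 y8 y9 y10 y11 : ZMod 3, IsW (mk y5 y7 y8 y9 y10 y11) →
    y5 = 0 ∧ y7 = 0 ∧ y8 = 0 ∧ y9 = 0 ∧ y10 = 0 ∧ y11 = 0 := by
  decide +kernel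

theorem eq_mk (x : ArrayPt → ZMod 3) (h : ∀ l : Fin 6, x (info l) = 0) :
    x = mk (x (1, 2)) (x (2, 1)) (x (2, 2)) (x (3, 0)) (x (3, 1)) (x (3, 2)) := by
  have h0 := h 0
  have h1 := h 1
  have h2 := h 2
  have h3 := h 3
  have h4 := h 4
  have h5 := h 5
  simp only [info] at h0 h1 h2 h3 h4 h5
  funext p
  obtain ⟨i, r⟩ := p
  fin_cases i <;> fin_cases r <;> first | rfl | (simp only [mk, aidx]; assumption)

/-- A code word vanishing on the information set is zero. -/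
theorem eq_zero_of_info {x : ArrayPt → ZMod 3} (hx : x ∈ ternaryGolayCode)
    (h : ∀ l : Fin 6, x (info l) = 0) : x = 0 := by
  have e := eq_mk x h
  rw [isWord_iff, e] at hx
  obtain ⟨a5, a7, a8, a9, a10, a11⟩ := mk_spec _ _ _ _ _ _ hx
  rw [e, a5, a7, a8, a9, a10, a11]
  funext p
  simp only [mk, Pi.zero_apply]
  split <;> rfl

/-- Every code word is the combination of the basis words given by its information symbols. -/
theorem eq_sum_of_mem {x : ArrayPt → ZMod 3} (hx : x ∈ ternaryGolayCode) :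
    x = ∑ k : Fin 6, x (info k) • bvec k.val := by
  have hmem : ∑ k : Fin 6, x (info k) • bvec k.val ∈ ternaryGolayCode :=
    Submodule.sum_mem _ fun k _ => Submodule.smul_mem _ _ (bvec_mem k.val k.isLt)
  have hy := Submodule.sub_mem _ hx hmem
  have := eq_zero_of_info hy (by
    intro l
    simp only [Pi.sub_apply, Finset.sum_apply, Pi.smul_apply, smul_eq_mul, bvec_info]
    simp)
  exact sub_eq_zero.mp this

theorem mem_iff {x : ArrayPt → ZMod 3} :
    x ∈ ternaryGolayCode ↔ ∃ a : Fin 6 → ZMod 3, x = ∑ k : Fin 6, a k • bvec k.val := by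
  constructor
  · intro hx
    exact ⟨fun k => x (info k), eq_sum_of_mem hx⟩
  · rintro ⟨a, rfl⟩
    exact Submodule.sum_mem _ fun k _ => Submodule.smul_mem _ _ (bvec_mem k.val k.isLt)

end Cfsg.Agent.Helper27.TG
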