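import Mathlib
import Cfsg.Prelude.Def_SporadicCombinatorics
import Cfsg.Agent.Lib.Helper27.TGolay

set_option autoImplicit false
set_option maxRecDepth 1000000

/-! # Enumeration of the 729 words of the ternary code of length 12 -/

namespace Cfsg.Agent.Helper27.TG

open Cfsg

/-- The `k`-th ternary digit of `n`. -/
def dig (n k : ℕ) : ℕ := n / 3 ^ k % 3

/-- Coordinate `j` of the `n`-th code word, as a natural number `< 3`. -/
def coordN (n j : ℕ) : ℕ :=
  (dig n 0 * bent 0 j + dig n 1 * bent 1 j + dig n 2 * bent 2 j + dig n 3 * bent 3 j +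
    dig n 4 * bent 4 j + dig n 5 * bent 5 j) % 3

/-- The `n`-th code word. -/
def wordN (n : ℕ) : ArrayPt → ZMod 3 := fun p => ((coordN n (aidx p) : ℕ) : ZMod 3)

theorem coordN_lt (n j : ℕ) : coordN n j < 3 := Nat.mod_lt _ (by norm_num)

theorem wordN_eq (n : ℕ) :
    wordN n = ∑ k : Fin 6, ((dig n k.val : ℕ) : ZMod 3) • bvec k.val := by
  funext p
  simp only [wordN, coordN, Finset.sum_apply, Pi.smul_apply, smul_eq_mul, bvec, Fin.sum_univ_six,
    ZMod.natCast_mod]
  push_cast
  rfl

theorem wordN_mem (n : ℕ) : wordN n ∈ ternaryGolayCode := by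
  rw [wordN_eq]
  exact mem_iff.mpr ⟨_, rfl⟩

theorem wordN_info (n : ℕ) (l : Fin 6) : wordN n (info l) = ((dig n l.val : ℕ) : ZMod 3) := by
  rw [wordN_eq]
  simp only [Finset.sum_apply, Pi.smul_apply, smul_eq_mul, bvec_info]
  simp

theorem exists_wordN {x : ArrayPt → ZMod 3} (hx : x ∈ ternaryGolayCode) :
    ∃ n < 729, x = wordN n := by
  have h0 := ZMod.val_lt (x (info 0))
  have h1 := ZMod.val_lt (x (info 1))
  have h2 := ZMod.val_lt (x (info 2))
  have h3 := ZMod.val_lt (x (info 3))
  have h4 := ZMod.val_lt (x (info 4))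
  have h5 := ZMod.val_lt (x (info 5))
  refine ⟨(x (info 0)).val + 3 * (x (info 1)).val + 9 * (x (info 2)).val +
    27 * (x (info 3)).val + 81 * (x (info 4)).val + 243 * (x (info 5)).val, by omega, ?_⟩
  have key : ∀ (a : ZMod 3) (d : ℕ), d = a.val → a = ((d : ℕ) : ZMod 3) := by
    intro a d hd
    rw [hd, ZMod.natCast_zmod_val]
  have hd : ∀ k : Fin 6, x (info k) = ((dig ((x (info 0)).val + 3 * (x (info 1)).val +
      9 * (x (info 2)).val + 27 * (x (info 3)).val + 81 * (x (info 4)).val +
      243 * (x (info 5)).val) k.val : ℕ) : ZMod 3) := by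
    intro k
    apply key
    unfold dig
    fin_cases k
    · show _ / 3 ^ 0 % 3 = (x (info 0)).val
      norm_num; omega
    · show _ / 3 ^ 1 % 3 = (x (info 1)).val
      norm_num; omega
    · show _ / 3 ^ 2 % 3 = (x (info 2)).val
      norm_num; omega
    · show _ / 3 ^ 3 % 3 = (x (info 3)).val
      norm_num; omega
    · show _ / 3 ^ 4 % 3 = (x (info 4)).val
      norm_num; omega
    · show _ / 3 ^ 5 % 3 = (x (info 5)).val
      norm_num; omega
  rw [wordN_eq]
  conv_lhs => rw [eq_sum_of_mem hx]
  apply Finset.sum_congr rfl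
  intro k _
  rw [← hd k]

theorem dig_lt (n k : ℕ) : dig n k < 3 := Nat.mod_lt _ (by norm_num)

theorem wordN_injOn {n m : ℕ} (hn : n < 729) (hm : m < 729) (h : wordN n = wordN m) : n = m := by
  have key : ∀ l : Fin 6, dig n l.val = dig m l.val := by
    intro l
    have := congrFun h (info l)
    rw [wordN_info, wordN_info] at this
    have h1 := dig_lt n l.val
    have h2 := dig_lt m l.val
    have := (ZMod.natCast_eq_natCast_iff' _ _ _).mp this
    rw [Nat.mod_eq_of_lt h1, Nat.mod_eq_of_lt h2] at this
    exact this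
  have k0 := key 0
  have k1 := key 1
  have k2 := key 2
  have k3 := key 3
  have k4 := key 4
  have k5 := key 5
  unfold dig at k0 k1 k2 k3 k4 k5
  norm_num at k0 k1 k2 k3 k4 k5
  omega

/-! ### Supports as 12-bit masks -/

/-- The set of positions encoded by the low 12 bits of `m`. -/
def toFS (m : ℕ) : Finset ArrayPt := Finset.univ.filter fun p => m.testBit (aidx p) = true

theorem mem_toFS {m : ℕ} {p : ArrayPt} : p ∈ toFS m ↔ m.testBit (aidx p) = true := by
  simp [toFS]

theorem card_filter_range (N : ℕ) (P : ℕ → Prop) [DecidablePred P] :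
    ((Finset.range N).filter P).card = ((List.range N).filter (fun j => decide (P j))).length := by
  rfl

theorem card_filter_aidx (P : ℕ → Prop) [DecidablePred P] :
    (Finset.univ.filter (fun p : ArrayPt => P (aidx p))).card =
      ((List.range 12).filter (fun j => decide (P j))).length := by
  rw [← card_filter_range]
  apply Finset.card_bij (fun p _ => aidx p)
  · intro p hp
    simp only [Finset.mem_filter, Finset.mem_univ, true_and, Finset.mem_range] at hp ⊢
    exact ⟨aidx_lt p, hp⟩
  · intro p _ q _ h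
    exact aidx_injective h
  · intro j hj
    simp only [Finset.mem_filter, Finset.mem_range] at hj
    refine ⟨apt j, ?_, aidx_apt j hj.1⟩
    simp only [Finset.mem_filter, Finset.mem_univ, true_and]
    rw [aidx_apt j hj.1]; exact hj.2

/-- Number of set bits among the low 12. -/
def pop12 (m : ℕ) : ℕ := ((List.range 12).filter (fun j => m.testBit j)).length

theorem card_toFS (m : ℕ) : (toFS m).card = pop12 m := by
  unfold toFS pop12
  rw [card_filter_aidx (fun j => m.testBit j = true)]
  congr 1
  apply List.filter_congr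
  intro j _
  simp

/-- The weight of the `n`-th code word. -/
def wtN (n : ℕ) : ℕ := ((List.range 12).filter (fun j => coordN n j != 0)).length

theorem wordN_ne_zero_iff (n : ℕ) (p : ArrayPt) : wordN n p ≠ 0 ↔ coordN n (aidx p) ≠ 0 := by
  unfold wordN
  rw [Ne, Ne, ZMod.natCast_eq_zero_iff]
  have := coordN_lt n (aidx p)
  constructor
  · intro h h0; rw [h0] at h; exact h (dvd_zero _)
  · intro h hd
    exact h (Nat.eq_zero_of_dvd_of_lt hd this)

theorem card_support_wordN (n : ℕ) : (ternarySupport (wordN n)).card = wtN n := by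
  unfold ternarySupport wtN
  have : (Finset.univ.filter fun a => wordN n a ≠ 0) =
      Finset.univ.filter (fun p : ArrayPt => coordN n (aidx p) ≠ 0) := by
    apply Finset.filter_congr
    intro p _
    exact wordN_ne_zero_iff n p
  rw [this, card_filter_aidx (fun j => coordN n j ≠ 0)]
  congr 1
  apply List.filter_congr
  intro j _
  show decide (coordN n j ≠ 0) = (coordN n j != 0)
  by_cases h : coordN n j = 0 <;> simp [h]

/-- The support mask of the `n`-th code word. -/
def suppN (n : ℕ) : ℕ :=
  (List.range 12).foldr (fun j acc => if coordN n j != 0 then acc + 2 ^ j else acc) 0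

/-! ### Counting code words with a decidable property -/

theorem ncard_code_filter (P : (ArrayPt → ZMod 3) → Prop) (Q : ℕ → Bool)
    (h : ∀ n < 729, P (wordN n) ↔ Q n = true) :
    {x : ArrayPt → ZMod 3 | x ∈ ternaryGolayCode ∧ P x}.ncard =
      ((List.range 729).filter Q).length := by
  have h1 : {x : ArrayPt → ZMod 3 | x ∈ ternaryGolayCode ∧ P x} =
      wordN '' (↑((List.range 729).filter Q).toFinset : Set ℕ) := by
    ext x
    simp only [Set.mem_ofPred_eq, Set.mem_image, Finset.mem_coe, List.mem_toFinset, List.mem_filter,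
      List.mem_range]
    constructor
    · rintro ⟨hx, hP⟩
      obtain ⟨n, hn, rfl⟩ := exists_wordN hx
      exact ⟨n, ⟨hn, (h n hn).mp hP⟩, rfl⟩
    · rintro ⟨n, ⟨hn, hQ⟩, rfl⟩
      exact ⟨wordN_mem n, (h n hn).mpr hQ⟩
  rw [h1, Set.InjOn.ncard_image, Set.ncard_coe_finset,
    List.toFinset_card_of_nodup (List.nodup_range.filter _)]
  intro a ha b hb hab
  simp only [Finset.mem_coe, List.mem_toFinset, List.mem_filter, List.mem_range] at ha hb
  exact wordN_injOn ha.1 hb.1 hab

end Cfsg.Agent.Helper27.TG
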