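import Mathlib
import Cfsg.Prelude.Def_SporadicCombinatorics
import Cfsg.Agent.Lib.Helper27.TGEnum

set_option autoImplicit false
set_option maxRecDepth 1000000

/-! # Subsets of the twelve positions as 12-bit masks -/

namespace Cfsg.Agent.Helper27.TG

open Cfsg

/-- The mask of a subset. -/
def maskOf (s : Finset ArrayPt) : ℕ := Nat.ofBits fun i : Fin 12 => decide (apt i ∈ s)

theorem testBit_maskOf (s : Finset ArrayPt) (i : ℕ) :
    (maskOf s).testBit i = (decide (i < 12) && decide (apt i ∈ s)) := by
  unfold maskOf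
  rw [Nat.testBit_ofBits]
  split_ifs with h <;> simp [h]

theorem maskOf_lt (s : Finset ArrayPt) : maskOf s < 2 ^ 12 := Nat.ofBits_lt_two_pow _

theorem toFS_maskOf (s : Finset ArrayPt) : toFS (maskOf s) = s := by
  ext p
  simp [mem_toFS, testBit_maskOf, aidx_lt, apt_aidx]

theorem toFS_inj {a b : ℕ} (ha : a < 2 ^ 12) (hb : b < 2 ^ 12) (h : toFS a = toFS b) : a = b := by
  apply Nat.eq_of_testBit_eq
  intro i
  by_cases hi : i < 12
  · have := Finset.ext_iff.mp h (apt i)
    simp only [mem_toFS, aidx_apt i hi] at this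
    exact Bool.eq_iff_iff.mpr this
  · have h12 : 2 ^ 12 ≤ 2 ^ i := Nat.pow_le_pow_right (by norm_num) (by omega)
    rw [Nat.testBit_lt_two_pow (lt_of_lt_of_le ha h12),
      Nat.testBit_lt_two_pow (lt_of_lt_of_le hb h12)]

theorem toFS_subset_iff {a b : ℕ} (ha : a < 2 ^ 12) : toFS a ⊆ toFS b ↔ b &&& a = a := by
  constructor
  · intro h
    apply Nat.eq_of_testBit_eq
    intro i
    rw [Nat.testBit_and]
    by_cases hi : i < 12
    · have := @h (apt i)
      simp only [mem_toFS, aidx_apt i hi] at this
      cases hb : b.testBit i <;> cases hA : a.testBit i <;> simp_all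
    · have h12 : 2 ^ 12 ≤ 2 ^ i := Nat.pow_le_pow_right (by norm_num) (by omega)
      rw [Nat.testBit_lt_two_pow (lt_of_lt_of_le ha h12)]
      simp
  · intro h p hp
    rw [mem_toFS] at hp ⊢
    rw [← h, Nat.testBit_and] at hp
    simp only [Bool.and_eq_true] at hp
    exact hp.1

theorem card_maskOf (s : Finset ArrayPt) : pop12 (maskOf s) = s.card := by
  rw [← card_toFS, toFS_maskOf]

/-! ### Supports of code words -/

theorem testBit_suppN :
    (List.range 729).all (fun n => (List.range 12).all
      (fun j => (suppN n).testBit j == (coordN n j != 0))) = true := by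
  decide +kernel

theorem suppN_lt : (List.range 729).all (fun n => decide (suppN n < 4096)) = true := by
  decide +kernel

theorem support_wordN {n : ℕ} (hn : n < 729) : ternarySupport (wordN n) = toFS (suppN n) := by
  ext p
  unfold ternarySupport
  simp only [Finset.mem_filter, Finset.mem_univ, true_and, mem_toFS]
  rw [wordN_ne_zero_iff]
  have h := List.all_eq_true.mp (List.all_eq_true.mp testBit_suppN n (List.mem_range.mpr hn))
    (aidx p) (List.mem_range.mpr (aidx_lt p))
  rw [beq_iff_eq] at h
  rw [h]
  simp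

theorem suppN_lt' {n : ℕ} (hn : n < 729) : suppN n < 2 ^ 12 := by
  have := List.all_eq_true.mp suppN_lt n (List.mem_range.mpr hn)
  simpa using this

end Cfsg.Agent.Helper27.TG
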