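import Mathlib
import Cfsg.Prelude.Def_Spor_Mathieu
import Cfsg.Agent.Lib.Helper27.Enum
import Cfsg.Agent.Lib.Helper27.TGMask
import Cfsg.Agent.Lib.Helper27.Monomial
import Cfsg.Agent.S1592
import Cfsg.Agent.S1593
import Cfsg.Agent.S1594

/-!
# The action of `M12` on the twelve positions of the ternary code

The dodecad of squares is identified with the 4 × 3 array so that the hexads on the dodecad
(6-point intersections with octads) become the supports of the weight-6 words of the length-12
ternary code. The resulting homomorphism `rho : M12 →* Perm ArrayPt` lands in the permutation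
parts of the monomial automorphisms of the ternary code.
-/

set_option autoImplicit false
set_option maxRecDepth 1000000
open scoped Pointwise
open Cfsg

namespace Cfsg.Agent.Helper27.M12Cover

open Cfsg.Agent.Helper27 Cfsg.Agent.Helper27.TG Cfsg.Agent.Helper27.Mono
open Cfsg.Agent.S1592 (hexL)
open Cfsg.Agent.S1594 (Hx mem_Hx pullF testBit_pullF)

/-- The mask of the dodecad of squares. -/
def dM : ℕ := 340831

theorem D_eq : Cfsg.Spor.squareDodecad = toFinset dM := by
  rw [Cfsg.Spor.squareDodecad, qrWord_eq_ofMask, support₂_ofMask]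
  rfl

/-- Position `j` of the array corresponds to the residue `gL[j]`. -/
def gL : List ℕ := [0, 1, 2, 3, 4, 12, 13, 8, 9, 18, 6, 16]

/-- The residue `i` of the dodecad corresponds to position `bL[i]` of the array. -/
def bL : List ℕ := [0, 1, 2, 3, 4, 0, 10, 0, 7, 8, 0, 0, 5, 6, 0, 0, 11, 0, 9, 0, 0, 0, 0, 0]

def gam (a : ArrayPt) : GolayPt := pt (gL.getD (aidx a) 0)

def bet (p : GolayPt) : ArrayPt := apt (bL.getD (idx p) 0)

theorem bet_gam : ∀ a : ArrayPt, bet (gam a) = a := by decide

theorem gam_mem : ∀ a : ArrayPt, dM.testBit (idx (gam a)) = true := by decide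

theorem gam_bet : ∀ p : GolayPt, dM.testBit (idx p) = true → gam (bet p) = p := by decide

theorem idx_gam : ∀ a : ArrayPt, idx (gam a) = gL.getD (aidx a) 0 := by decide

theorem gam_mem_D (a : ArrayPt) : gam a ∈ toFinset dM := mem_toFinset.mpr (gam_mem a)

/-- The 12-bit mask of the image under `bet` of a subset of the dodecad. -/
def down (m : ℕ) : ℕ := pullF (fun j => gL.getD j 0) m

theorem image_bet {m : ℕ} (hm : m &&& dM = m) : (toFinset m).image bet = toFS (down m) := by
  have hsub : ∀ p, p ∈ toFinset m → dM.testBit (idx p) = true := by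
    intro p hp
    rw [mem_toFinset, ← hm, Nat.testBit_and, Bool.and_eq_true] at hp
    exact hp.2
  ext a
  rw [Finset.mem_image, mem_toFS, down, testBit_pullF]
  simp only [aidx_lt, decide_true, Bool.true_and]
  rw [← idx_gam]
  constructor
  · rintro ⟨p, hp, rfl⟩
    rw [gam_bet p (hsub p hp)]
    exact mem_toFinset.mp hp
  · intro h
    exact ⟨gam a, mem_toFinset.mpr h, bet_gam a⟩

theorem image_gam_image_bet {s : Finset GolayPt} (hs : s ⊆ toFinset dM) :
    (s.image bet).image gam = s := by
  rw [Finset.image_image]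
  conv_rhs => rw [← Finset.image_id (s := s)]
  apply Finset.image_congr
  intro p hp
  exact gam_bet p (mem_toFinset.mp (hs hp))

theorem image_bet_image_gam (h : Finset ArrayPt) : (h.image gam).image bet = h := by
  rw [Finset.image_image]
  conv_rhs => rw [← Finset.image_id (s := h)]
  apply Finset.image_congr
  intro a _
  exact bet_gam a

/-! ### The two hexad systems correspond -/

theorem hexB_check : octadList.all (fun o => pop (o &&& dM) != 6 || hexL.contains (down (o &&& dM)))
    = true := by decide +kernel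

theorem hexA_check : hexL.all (fun k => octadList.any (fun o => pop (o &&& dM) == 6 &&
    down (o &&& dM) == k)) = true := by decide +kernel

theorem and_and_self (o d : ℕ) : (o &&& d) &&& d = o &&& d := by
  rw [Nat.land_assoc, Nat.and_self]

/-- Hexads on the dodecad go to hexads of the ternary code. -/
theorem image_bet_mem {s : Finset GolayPt} (hs : s ∈ hexadsOn (toFinset dM)) :
    s.image bet ∈ Hx := by
  obtain ⟨hc, o, ho, rfl⟩ := hs
  obtain ⟨mo, hmo, rfl⟩ := mem_octads_iff'.mp ho
  rw [← toFinset_and, card_toFinset] at hc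
  rw [← toFinset_and, image_bet (and_and_self mo dM), mem_Hx]
  have h1 := List.all_eq_true.mp hexB_check mo hmo
  simp only [hc, bne_self_eq_false, Bool.false_or, List.contains_iff_mem] at h1
  exact ⟨_, h1, rfl⟩

/-- Hexads of the ternary code come from hexads on the dodecad. -/
theorem image_gam_mem {h : Finset ArrayPt} (hh : h ∈ Hx) :
    h.image gam ∈ hexadsOn (toFinset dM) := by
  obtain ⟨k, hk, rfl⟩ := mem_Hx.mp hh
  have h1 := List.all_eq_true.mp hexA_check k hk
  rw [List.any_eq_true] at h1
  obtain ⟨o, ho, h2⟩ := h1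
  simp only [Bool.and_eq_true, beq_iff_eq] at h2
  have h3 : (toFinset (o &&& dM)).image bet = toFS k := by
    rw [image_bet (and_and_self o dM), h2.2]
  have hsub : toFinset (o &&& dM) ⊆ toFinset dM := by
    rw [toFinset_and]; exact Finset.inter_subset_right
  rw [← h3, image_gam_image_bet hsub]
  refine ⟨?_, toFinset o, toFinset_mem_octads ho, (toFinset_and _ _).symm⟩
  rw [card_toFinset]; exact h2.1

/-! ### The action of `M12` -/

theorem mem_M12 {g : Equiv.Perm GolayPt} :
    g ∈ Cfsg.Spor.M12 ↔ g ∈ M24 ∧ g • toFinset dM = toFinset dM := by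
  rw [Cfsg.Spor.M12, Subgroup.mem_inf, D_eq]
  exact Iff.rfl

theorem apply_mem_D {g : Equiv.Perm GolayPt} (hg : g ∈ Cfsg.Spor.M12) {p : GolayPt}
    (hp : p ∈ toFinset dM) : g p ∈ toFinset dM := by
  have h := (mem_M12.mp hg).2
  rw [← h]
  exact (smul_mem_smul_iff g p _).mpr hp

theorem smul_mem_hexadsOn {g : Equiv.Perm GolayPt} (hg : g ∈ Cfsg.Spor.M12) {s : Finset GolayPt}
    (hs : s ∈ hexadsOn (toFinset dM)) : g • s ∈ hexadsOn (toFinset dM) := by
  obtain ⟨hc, o, ho, rfl⟩ := hs
  have h := mem_M12.mp hg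
  refine ⟨by rw [Finset.card_smul_finset]; exact hc, g • o, (smul_mem_octads h.1).mpr ho, ?_⟩
  rw [Finset.smul_finset_inter, h.2]

/-- The action on the array, as a function. -/
def rhoFun (m : Equiv.Perm GolayPt) (a : ArrayPt) : ArrayPt := bet (m (gam a))

theorem rhoFun_mul {m n : Equiv.Perm GolayPt} (hn : n ∈ Cfsg.Spor.M12) (a : ArrayPt) :
    rhoFun (m * n) a = rhoFun m (rhoFun n a) := by
  unfold rhoFun
  rw [gam_bet _ (mem_toFinset.mp (apply_mem_D hn (gam_mem_D a)))]
  rfl

theorem rhoFun_one (a : ArrayPt) : rhoFun 1 a = a := bet_gam a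

/-- The action of `M12` on the array. -/
def rho : ↥Cfsg.Spor.M12 →* Equiv.Perm ArrayPt where
  toFun m :=
    { toFun := rhoFun m.1
      invFun := rhoFun (m.1)⁻¹
      left_inv := fun a => by
        rw [← rhoFun_mul m.2, inv_mul_cancel, rhoFun_one]
      right_inv := fun a => by
        rw [← rhoFun_mul (Cfsg.Spor.M12.inv_mem m.2), mul_inv_cancel, rhoFun_one] }
  map_one' := by
    apply Equiv.ext
    intro a
    exact rhoFun_one a
  map_mul' m n := by
    apply Equiv.ext
    intro a
    exact rhoFun_mul (m := m.1) n.2 a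

theorem rho_apply (m : ↥Cfsg.Spor.M12) (a : ArrayPt) : rho m a = bet (m.1 (gam a)) := rfl

theorem rho_smul (m : ↥Cfsg.Spor.M12) (h : Finset ArrayPt) :
    rho m • h = ((m.1 • h.image gam)).image bet := by
  ext a
  simp only [Finset.mem_smul_finset, Finset.mem_image, Equiv.Perm.smul_def]
  constructor
  · rintro ⟨b, hb, rfl⟩
    exact ⟨m.1 (gam b), ⟨gam b, ⟨b, hb, rfl⟩, rfl⟩, rfl⟩
  · rintro ⟨_, ⟨_, ⟨b, hb, rfl⟩, rfl⟩, rfl⟩
    exact ⟨b, hb, rfl⟩

theorem rho_mem_aut (m : ↥Cfsg.Spor.M12) : rho m ∈ setSystemAut Hx := by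
  rw [MulAction.mem_stabilizer_iff]
  have hsub : rho m • Hx ⊆ Hx := by
    rintro _ ⟨h, hh, rfl⟩
    show rho m • h ∈ Hx
    rw [rho_smul]
    exact image_bet_mem (smul_mem_hexadsOn m.2 (image_gam_mem hh))
  have hfin : Hx.Finite := Set.toFinite _
  apply Set.eq_of_subset_of_ncard_le hsub _ hfin
  rw [← Set.image_smul, Set.ncard_image_of_injective _ (MulAction.injective (rho m))]

/-- Every element of `M12` lifts to a monomial automorphism of the ternary code. -/
theorem exists_pres (m : ↥Cfsg.Spor.M12) :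
    ∃ c : ArrayPt → (ZMod 3)ˣ, Pres ternaryGolayCode (rho m) c := by
  have h := Cfsg.Agent.S1594.result.2
  have h2 : rho m ∈ (setSystemAut Hx : Set (Equiv.Perm ArrayPt)) := rho_mem_aut m
  have h3 : rho m ∈ {σ : Equiv.Perm ArrayPt | ∃ c : ArrayPt → (ZMod 3)ˣ,
      ∀ x ∈ ternaryGolayCode, Cfsg.monomialMap σ c x ∈ ternaryGolayCode} := by
    rw [h]; exact h2
  exact h3

end Cfsg.Agent.Helper27.M12Cover
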