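import Mathlib
import Cfsg.Prelude.Def_Spor_Mathieu
import Cfsg.Prelude.Def_KGroupFacts
import Cfsg.Agent.Lib.Helper27.M12CoverA

/-!
# The double cover of `M12`

The group of the monomial automorphisms of the length-12 ternary code, fibred over `M12` by the
action of `M12` on the twelve positions, is a stem extension of `M12` with kernel of order 2.
-/

set_option autoImplicit false
set_option maxRecDepth 1000000
open scoped Pointwise commutatorElement
open Cfsg

namespace Cfsg.Agent.Helper27.M12Cover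

open Cfsg.Agent.Helper27 Cfsg.Agent.Helper27.TG Cfsg.Agent.Helper27.Mono
open Cfsg.Agent.S1594 (C pres_of_tables mkPerm12 checkInv12 cOf presOK)

/-- The ambient space of the ternary code. -/
abbrev V : Type := ArrayPt → ZMod 3

/-- Its linear automorphisms. -/
abbrev LinEq : Type := V ≃ₗ[ZMod 3] V

instance : Finite LinEq :=
  Finite.of_injective (fun f : LinEq => (f : V → V)) DFunLike.coe_injective

/-- The monomial map as a linear automorphism. -/
noncomputable def monoEquiv (σ : Equiv.Perm ArrayPt) (c : ArrayPt → (ZMod 3)ˣ) : LinEq :=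
  LinearEquiv.ofBijective (monoLin σ c)
    ⟨monomialMap_injective σ c, Finite.injective_iff_surjective.mp (monomialMap_injective σ c)⟩

theorem monoEquiv_apply (σ : Equiv.Perm ArrayPt) (c : ArrayPt → (ZMod 3)ˣ) (x : V) :
    monoEquiv σ c x = Cfsg.monomialMap σ c x := rfl

theorem monomialMap_inv (σ : Equiv.Perm ArrayPt) (c : ArrayPt → (ZMod 3)ˣ) (x : V) :
    Cfsg.monomialMap σ c (Cfsg.monomialMap σ⁻¹ (fun i => (c (σ i))⁻¹) x) = x := by
  rw [monomialMap_comp, mul_inv_cancel]
  have : (fun i => c i * (c (σ (σ.symm i)))⁻¹) = fun _ => (1 : (ZMod 3)ˣ) := by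
    funext i
    rw [Equiv.apply_symm_apply, mul_inv_cancel]
  rw [this, monomialMap_one]

/-- The fibre product of the monomial automorphisms of the ternary code with `M12`. -/
def Gam : Subgroup (LinEq × ↥Cfsg.Spor.M12) where
  carrier := {p | ∃ c : ArrayPt → (ZMod 3)ˣ, Pres C (rho p.2) c ∧
    ∀ x, p.1 x = Cfsg.monomialMap (rho p.2) c x}
  mul_mem' := by
    rintro p q ⟨c, hc, hL⟩ ⟨e, he, hM⟩
    refine ⟨fun i => c i * e ((rho p.2).symm i), ?_, ?_⟩
    · intro x hx
      rw [Prod.snd_mul, map_mul, ← monomialMap_comp]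
      exact hc _ (he x hx)
    · intro x
      rw [Prod.snd_mul, map_mul, ← monomialMap_comp, ← hM, ← hL]
      rfl
  one_mem' := by
    refine ⟨fun _ => 1, ?_, ?_⟩
    · intro x hx
      rw [Prod.snd_one, map_one, monomialMap_one]
      exact hx
    · intro x
      rw [Prod.snd_one, map_one, monomialMap_one]
      rfl
  inv_mem' := by
    rintro p ⟨c, hc, hL⟩
    have key : ∀ x, p.1⁻¹ x = Cfsg.monomialMap (rho p.2)⁻¹ (fun i => (c (rho p.2 i))⁻¹) x := by
      intro x
      apply p.1.injective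
      rw [hL (Cfsg.monomialMap _ _ x), monomialMap_inv]
      show (p.1 * p.1⁻¹) x = x
      rw [mul_inv_cancel]
      rfl
    refine ⟨fun i => (c (rho p.2 i))⁻¹, ?_, ?_⟩
    · intro y hy
      rw [Prod.snd_inv, map_inv, ← key]
      let f : ↥C → ↥C := fun x => ⟨p.1 x.1, by rw [hL]; exact hc x.1 x.2⟩
      have hinj : Function.Injective f := by
        intro x x' hxx
        apply Subtype.ext
        exact p.1.injective (congrArg Subtype.val hxx)
      obtain ⟨x, hx⟩ := Finite.injective_iff_surjective.mp hinj ⟨y, hy⟩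
      have hx' : p.1 x.1 = y := congrArg Subtype.val hx
      rw [← hx']
      have : p.1⁻¹ (p.1 x.1) = x.1 := by
        show (p.1⁻¹ * p.1) x.1 = x.1
        rw [inv_mul_cancel]
        rfl
      rw [this]
      exact x.2
    · intro x
      rw [Prod.snd_inv, map_inv]
      exact key x

theorem mem_Gam {p : LinEq × ↥Cfsg.Spor.M12} :
    p ∈ Gam ↔ ∃ c : ArrayPt → (ZMod 3)ˣ, Pres C (rho p.2) c ∧
      ∀ x, p.1 x = Cfsg.monomialMap (rho p.2) c x := Iff.rfl

/-- The projection to `M12`. -/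
def sig : ↥Gam →* ↥Cfsg.Spor.M12 :=
  (MonoidHom.snd LinEq ↥Cfsg.Spor.M12).comp Gam.subtype

theorem sig_apply (g : ↥Gam) : sig g = g.1.2 := rfl

theorem sig_surjective : Function.Surjective sig := by
  intro m
  obtain ⟨c, hc⟩ := exists_pres m
  exact ⟨⟨(monoEquiv (rho m) c, m), ⟨c, hc, fun _ => rfl⟩⟩, rfl⟩

theorem monomialMap_neg_one (x : V) :
    Cfsg.monomialMap 1 (fun _ => (-1 : (ZMod 3)ˣ)) x = -x := by
  funext i
  simp only [Cfsg.monomialMap, Units.val_neg, Units.val_one, neg_one_mul, Pi.neg_apply]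
  rfl

/-- The central element `-1`. -/
def negG : ↥Gam :=
  ⟨(LinearEquiv.neg (ZMod 3), 1), ⟨fun _ => -1, by
    intro x hx
    show Cfsg.monomialMap (rho 1) _ x ∈ C
    rw [map_one, monomialMap_neg_one]
    exact C.neg_mem hx, by
    intro x
    show -x = Cfsg.monomialMap (rho 1) _ x
    rw [map_one, monomialMap_neg_one]⟩⟩

theorem negG_fst (x : V) : negG.1.1 x = -x := rfl

theorem negG_snd : negG.1.2 = 1 := rfl

theorem ker_cases {g : ↥Gam} (hg : g ∈ sig.ker) : g = 1 ∨ g = negG := by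
  obtain ⟨⟨L, m⟩, c, hc, hL⟩ := g
  have hm : m = 1 := hg
  subst hm
  simp only [map_one] at hc hL
  rcases Cfsg.Agent.S1593.result c hc with h | h
  · left
    apply Subtype.ext
    refine Prod.ext (LinearEquiv.ext fun x => ?_) rfl
    show L x = x
    rw [hL x]
    have : c = fun _ => 1 := funext h
    rw [this, monomialMap_one]
  · right
    apply Subtype.ext
    refine Prod.ext (LinearEquiv.ext fun x => ?_) rfl
    show L x = -x
    rw [hL x]
    have : c = fun _ => -1 := funext h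
    rw [this, monomialMap_neg_one]

theorem negG_central (g : ↥Gam) : g * negG = negG * g := by
  apply Subtype.ext
  refine Prod.ext (LinearEquiv.ext fun x => ?_) ?_
  · show g.1.1 (-x) = -(g.1.1 x)
    exact map_neg _ _
  · show g.1.2 * 1 = 1 * g.1.2
    rw [mul_one, one_mul]

theorem ker_le_center : sig.ker ≤ Subgroup.center ↥Gam := by
  intro g hg
  rw [Subgroup.mem_center_iff]
  intro h
  rcases ker_cases hg with rfl | rfl
  · rw [mul_one, one_mul]
  · exact negG_central h

theorem negG_mem_ker : negG ∈ sig.ker := by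
  rw [MonoidHom.mem_ker]
  rfl

theorem negG_sq : negG ^ 2 = 1 := by
  rw [pow_two]
  apply Subtype.ext
  refine Prod.ext (LinearEquiv.ext fun x => ?_) ?_
  · show -(-x) = x
    exact neg_neg x
  · show (1 : ↥Cfsg.Spor.M12) * 1 = 1
    rw [mul_one]

theorem negG_ne_one : negG ≠ 1 := by
  intro h
  have h1 : negG.1.1 (fun _ => 1) = (1 : ↥Gam).1.1 (fun _ => 1) := by rw [h]
  have h2 := congrFun h1 (0, 0)
  have h3 : (-1 : ZMod 3) = 1 := h2
  exact absurd h3 (by decide)

theorem orderOf_negG : orderOf negG = 2 := orderOf_eq_prime negG_sq negG_ne_one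

theorem ker_eq : sig.ker = Subgroup.zpowers negG := by
  apply le_antisymm
  · intro g hg
    rcases ker_cases hg with rfl | rfl
    · exact Subgroup.one_mem _
    · exact Subgroup.mem_zpowers _
  · rw [Subgroup.zpowers_le]
    exact negG_mem_ker

theorem card_ker : Nat.card ↥sig.ker = 2 := by
  rw [ker_eq, Nat.card_zpowers, orderOf_negG]

/-! ### Two anticommuting lifts of commuting involutions -/

def T1 : ℕ := 651245563028962197159478659450418563
def T2 : ℕ := 234249750152592018640560974786236998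
def S1 : ℕ := 153379984481720483
def S2 : ℕ := 216211448867852586

theorem hT1 : checkInv T1 T1 = true := by decide +kernel
theorem hT2 : checkInv T2 T2 = true := by decide +kernel
theorem hS1 : checkInv12 S1 S1 = true := by decide +kernel
theorem hS2 : checkInv12 S2 S2 = true := by decide +kernel

theorem mem1 : mkPerm T1 T1 hT1 ∈ Cfsg.Spor.M12 := by
  rw [mem_M12]
  refine ⟨mkPerm_mem_M24 T1 T1 hT1 (by decide +kernel), ?_⟩
  rw [← toFinset_permMask]
  exact congrArg toFinset (by decide +kernel : permMask T1 dM = dM)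

theorem mem2 : mkPerm T2 T2 hT2 ∈ Cfsg.Spor.M12 := by
  rw [mem_M12]
  refine ⟨mkPerm_mem_M24 T2 T2 hT2 (by decide +kernel), ?_⟩
  rw [← toFinset_permMask]
  exact congrArg toFinset (by decide +kernel : permMask T2 dM = dM)

/-- The two involutions of `M12`. -/
def t1 : ↥Cfsg.Spor.M12 := ⟨mkPerm T1 T1 hT1, mem1⟩
def t2 : ↥Cfsg.Spor.M12 := ⟨mkPerm T2 T2 hT2, mem2⟩

theorem rho_t1 : rho t1 = mkPerm12 S1 S1 hS1 := by
  apply Equiv.ext
  have : ∀ a : ArrayPt, bet (mkPerm T1 T1 hT1 (gam a)) = mkPerm12 S1 S1 hS1 a := by decide +kernel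
  exact this

theorem rho_t2 : rho t2 = mkPerm12 S2 S2 hS2 := by
  apply Equiv.ext
  have : ∀ a : ArrayPt, bet (mkPerm T2 T2 hT2 (gam a)) = mkPerm12 S2 S2 hS2 a := by decide +kernel
  exact this

theorem t_comm : t1 * t2 = t2 * t1 := by
  apply Subtype.ext
  apply Equiv.ext
  have : ∀ p : GolayPt, mkPerm T1 T1 hT1 (mkPerm T2 T2 hT2 p) =
      mkPerm T2 T2 hT2 (mkPerm T1 T1 hT1 p) := by decide +kernel
  exact this

/-- The lifts. -/
noncomputable def L1 : ↥Gam :=
  ⟨(monoEquiv (mkPerm12 S1 S1 hS1) (cOf 1619), t1), ⟨cOf 1619, by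
    show Pres C (rho t1) _
    rw [rho_t1]
    exact pres_of_tables hS1 (by decide +kernel), by
    intro x
    show _ = Cfsg.monomialMap (rho t1) _ x
    rw [rho_t1]
    rfl⟩⟩

noncomputable def L2 : ↥Gam :=
  ⟨(monoEquiv (mkPerm12 S2 S2 hS2) (cOf 1644), t2), ⟨cOf 1644, by
    show Pres C (rho t2) _
    rw [rho_t2]
    exact pres_of_tables hS2 (by decide +kernel), by
    intro x
    show _ = Cfsg.monomialMap (rho t2) _ x
    rw [rho_t2]
    rfl⟩⟩

theorem symm_comm : ∀ i : ArrayPt, (mkPerm12 S2 S2 hS2).symm ((mkPerm12 S1 S1 hS1).symm i) =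
    (mkPerm12 S1 S1 hS1).symm ((mkPerm12 S2 S2 hS2).symm i) := by decide +kernel

theorem sign_anti : ∀ i : ArrayPt,
    ((cOf 1619 i : (ZMod 3)ˣ) : ZMod 3) * (cOf 1644 ((mkPerm12 S1 S1 hS1).symm i) : (ZMod 3)ˣ) =
      -(((cOf 1644 i : (ZMod 3)ˣ) : ZMod 3) * (cOf 1619 ((mkPerm12 S2 S2 hS2).symm i) : (ZMod 3)ˣ)) := by
  decide +kernel

theorem L_anti : L1 * L2 = negG * L2 * L1 := by
  apply Subtype.ext
  refine Prod.ext (LinearEquiv.ext fun x => ?_) ?_
  · funext i
    show ((cOf 1619 i : (ZMod 3)ˣ) : ZMod 3) * (((cOf 1644 ((mkPerm12 S1 S1 hS1).symm i) : (ZMod 3)ˣ) : ZMod 3) *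
        x ((mkPerm12 S2 S2 hS2).symm ((mkPerm12 S1 S1 hS1).symm i))) =
      -(((cOf 1644 i : (ZMod 3)ˣ) : ZMod 3) * (((cOf 1619 ((mkPerm12 S2 S2 hS2).symm i) : (ZMod 3)ˣ) : ZMod 3) *
        x ((mkPerm12 S1 S1 hS1).symm ((mkPerm12 S2 S2 hS2).symm i))))
    rw [symm_comm i]
    linear_combination (x ((mkPerm12 S1 S1 hS1).symm ((mkPerm12 S2 S2 hS2).symm i))) * sign_anti i
  · show t1 * t2 = 1 * t2 * t1
    rw [one_mul, t_comm]

theorem negG_mem_commutator : negG ∈ commutator ↥Gam := by
  have h : ⁅L1, L2⁆ = negG := by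
    rw [commutatorElement_def, L_anti]
    group
  rw [← h, commutator_def]
  exact Subgroup.commutator_mem_commutator (Subgroup.mem_top _) (Subgroup.mem_top _)

theorem ker_le_commutator : sig.ker ≤ commutator ↥Gam := by
  intro g hg
  rcases ker_cases hg with rfl | rfl
  · exact Subgroup.one_mem _
  · exact negG_mem_commutator

/-- The double cover of `M12`: a finite stem extension of `M12` with kernel of order 2. -/
theorem exists_double_cover_M12 : ∃ (Γ : Type) (_ : Group Γ) (_ : Finite Γ)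
    (σ : Γ →* ↥Cfsg.Spor.M12), Cfsg.IsStemExtension σ ∧
      Nonempty (σ.ker ≃* Multiplicative (ZMod 2)) := by
  refine ⟨↥Gam, inferInstance, inferInstance, sig, ⟨sig_surjective, ker_le_center,
    ker_le_commutator⟩, ?_⟩
  have h2 : Nat.card (Multiplicative (ZMod 2)) = 2 := by
    rw [Nat.card_eq_fintype_card, Fintype.card_multiplicative, ZMod.card]
  have : Fact (Nat.Prime 2) := ⟨Nat.prime_two⟩
  exact ⟨mulEquivOfPrimeCardEq (p := 2) card_ker h2⟩

end Cfsg.Agent.Helper27.M12Cover
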