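import Mathlib

/-! Data for the outer automorphism group of `M12` (generated). -/

set_option autoImplicit false

namespace Cfsg.Agent.Helper27.M12Out

/-- Table of the involution centralising the cube twist in `M12`. -/
def zL : List ℕ := [3, 12, 13, 0, 16, 19, 9, 11, 18, 6, 17, 7, 1, 2, 20, 23, 4, 10, 8, 5, 14, 22, 21, 15]

/-- Straight-line program over `[y, d, z, y⁻¹, d⁻¹]`. -/
def oProg : List (ℕ × ℕ) := [(1, 0), (5, 2), (2, 3), (7, 2), (0, 2), (9, 3), (10, 2), (5, 0), (12, 2), (1, 3), (14, 2), (0, 0), (16, 2), (3, 2), (4, 3), (19, 2), (3, 3), (21, 2), (3, 4), (3, 1), (0, 1), (25, 3), (10, 1), (27, 2), (28, 3), (29, 2), (30, 4), (1, 2), (32, 0), (33, 2), (34, 4), (35, 0), (36, 2), (37, 0), (38, 4), (1, 1), (40, 0), (14, 3), (23, 4), (32, 3), (44, 1), (45, 2), (46, 3), (47, 2), (48, 3), (17, 3), (50, 1),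 (51, 2), (52, 3), (53, 2), (54, 3), (16, 4), (9, 4), (57, 3), (58, 1), (59, 2), (60, 3), (61, 1), (62, 2), (6, 0), (64, 1), (65, 1), (66, 2), (67, 3), (68, 3), (69, 2), (7, 1), (71, 2), (72, 3), (73, 1), (74, 1), (75, 2), (76, 3), (77, 1), (2, 0), (79, 1), (80, 2), (81, 0), (82, 2), (83, 3), (84, 2), (85, 0), (86, 0), (40, 2), (88, 3), (89, 1), (90, 2), (91, 3), (92, 2), (93, 3), (94, 4), (6, 3), (96, 1), (97, 2), (98, 3), (99, 2), (100, 3), (101, 1), (25, 0), (103, 1), (104, 2), (105, 0), (106, 2), (107, 4), (108, 0), (109, 2), (79, 2), (111, 4), (112, 0), (113, 1), (114, 2), (115, 3), (116, 3), (117, 4), (25, 2), (119, 3), (120, 2), (121, 4), (122, 3), (123, 2), (124, 0), (125, 0), (126, 2), (34, 0), (128, 2), (129, 0), (130, 0), (131, 1), (132, 2), (133, 0), (72, 0), (135, 1), (136, 2), (137, 0), (138,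 0), (139, 2), (140, 0), (141, 0), (18, 3), (143, 4), (144, 0), (145, 2), (146, 3), (147, 2), (148, 3), (149, 2), (150, 4), (50, 2), (152, 4), (153, 0), (154, 2), (155, 0), (156, 4), (157, 3), (158, 2), (159, 3), (9, 0), (161, 1), (162, 1), (163, 2), (164, 0), (165, 2), (166, 0), (167, 2), (168, 4), (169, 3), (41, 2), (171, 0), (172, 2), (173, 0), (174, 0), (175, 1), (176, 2), (177, 0), (178, 2), (121, 3), (180, 2), (181, 4), (182, 4), (183, 3), (184, 2), (185, 3), (0, 3), (4, 4), (20, 4), (189, 3), (190, 1), (191, 2), (192, 3), (193, 1), (194, 2), (195, 0), (18, 4), (197, 3), (198, 1), (199, 2), (200, 3), (201, 1), (202, 2), (203, 0), (15, 4), (205, 3), (206, 1), (207, 2), (208, 3), (209, 1), (210, 2), (211, 0), (16, 1), (213, 2), (214, 3), (215, 1), (216, 2), (217, 3), (218, 1), (219, 2), (220, 0), (22, 0),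 (222, 2), (223, 4), (224, 0), (225, 2), (226, 0), (227, 4), (228, 3), (14, 1), (230, 2), (231, 0), (232, 0), (233, 2), (234, 0), (235, 2), (236, 0), (237, 1), (238, 0), (153, 4), (240, 0), (241, 2), (242, 0), (243, 1), (244, 0), (164, 3), (246, 1), (247, 2), (248, 0), (249, 4), (152, 0), (251, 2), (252, 3), (253, 1), (254, 1), (255, 2), (24, 2), (257, 0), (258, 0), (259, 2), (260, 0), (261, 2), (262, 0), (263, 1), (264, 0), (2, 4), (266, 4), (57, 4)]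

def lvTabs0 : List (List ℕ) := [[1, 18, 3, 0, 12, 15, 4, 14, 9, 8, 19, 17, 6, 2, 11, 23, 16, 10, 13, 7, 21, 20, 22, 5], [2, 9, 8, 3, 18, 22, 4, 10, 6, 0, 14, 23, 1, 12, 17, 15, 13, 19, 16, 20, 11, 7, 21, 5], [3, 12, 13, 0, 16, 19, 9, 11, 18, 6, 17, 7, 1, 2, 20, 23, 4, 10, 8, 5, 14, 22, 21, 15], [4, 18, 16, 6, 13, 21, 8, 20, 12, 0, 5, 23, 2, 1, 11, 7, 3, 15, 9, 17, 22, 14, 19, 10], [6, 1, 3, 0, 9, 15, 18, 22, 13, 12, 11, 14, 2, 4, 17, 23, 8, 20, 16, 10, 5, 21, 19, 7], [8, 6, 1, 0, 4, 5, 9, 20, 3, 18, 14, 21, 2, 16, 19, 23, 13, 11, 12, 10, 7, 22, 15, 17], [9, 1, 4, 0, 16, 20, 13, 11, 12, 3, 10, 15, 8, 18, 7, 23, 6, 21, 2, 17, 5, 19, 14, 22], [12, 2, 6, 0, 18, 7, 13, 21, 3, 1, 22, 5, 4, 8, 11, 23, 16, 17, 9, 20, 10, 19, 15, 14], [13, 6, 18, 0, 8, 21, 16, 17, 9, 3, 20, 15, 12, 1, 10, 23, 2, 5, 4, 14, 7, 11, 22,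 19], [16, 2, 1, 0, 12, 5, 8, 14, 13, 3, 21, 15, 9, 6, 20, 23, 4, 7, 18, 22, 10, 17, 19, 11], [18, 3, 9, 0, 4, 22, 8, 20, 16, 13, 10, 19, 6, 12, 5, 23, 1, 14, 2, 7, 15, 17, 11, 21]]

def lvTargets0 : List ℕ := [0, 1, 2, 3, 4, 6, 8, 9, 12, 13, 16, 18]

def lvWords0 : List (List ℕ) := [[], [0], [1], [2], [3], [4], [5], [6], [7], [8], [9], [10]]

def lvTabs1 : List (List ℕ) := [[0, 2, 4, 6, 8, 10, 12, 14, 16, 18, 20, 22, 1, 3, 5, 7, 9, 11, 13, 15, 17, 19, 21, 23], [0, 3, 2, 13, 9, 15, 1, 5, 6, 18, 10, 20, 16, 8, 11, 19, 4, 7, 12, 17, 22, 14, 21, 23], [0, 4, 8, 12, 16, 20, 1, 5, 9, 13, 17, 21, 2, 6, 10, 14, 18, 22, 3, 7, 11, 15, 19, 23], [0, 6, 4, 3, 18, 7, 2, 10, 12, 13, 20, 17, 9, 16, 22, 15, 8, 14, 1, 11, 21, 5, 19, 23], [0, 8, 18, 9, 6, 17, 3, 15, 2, 13, 21, 11, 1, 4, 5, 22, 16, 10, 12, 20, 7, 14, 19, 23],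 [0, 9, 3, 13, 1, 22, 12, 14, 8, 6, 15, 21, 4, 16, 20, 19, 18, 17, 2, 11, 5, 10, 7, 23], [0, 12, 1, 13, 2, 14, 3, 15, 4, 16, 5, 17, 6, 18, 7, 19, 8, 20, 9, 21, 10, 22, 11, 23], [0, 13, 12, 6, 4, 19, 2, 10, 9, 1, 14, 15, 16, 18, 11, 7, 3, 22, 8, 21, 20, 17, 5, 23], [0, 16, 13, 18, 12, 11, 6, 7, 4, 3, 19, 22, 2, 8, 10, 21, 9, 20, 1, 17, 14, 5, 15, 23], [0, 18, 6, 3, 2, 21, 1, 5, 16, 12, 7, 19, 8, 9, 17, 15, 13, 11, 4, 22, 10, 20, 14, 23]]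

def lvTargets1 : List ℕ := [1, 2, 3, 4, 6, 8, 9, 12, 13, 16, 18]

def lvWords1 : List (List ℕ) := [[], [0], [1], [2], [3], [4], [5], [6], [7], [8], [9]]

def lvTabs2 : List (List ℕ) := [[0, 1, 3, 4, 16, 23, 13, 5, 12, 9, 21, 14, 6, 8, 11, 10, 2, 20, 18, 7, 17, 22, 15, 19], [0, 1, 4, 8, 2, 7, 13, 20, 16, 12, 14, 21, 6, 18, 23, 11, 9, 15, 3, 10, 22, 17, 19, 5], [0, 1, 6, 18, 13, 5, 16, 11, 9, 2, 7, 17, 4, 3, 20, 21, 8, 22, 12, 15, 19, 14, 10, 23], [0, 1, 8, 4, 18, 5, 9, 22, 6, 16, 17, 10, 3, 12, 15, 20, 2, 7, 13, 14, 21, 19, 11, 23], [0, 1, 9, 13, 12, 5, 2, 10, 16, 8, 22, 7, 18, 4, 21, 19, 6, 11, 3, 20, 14, 15, 17, 23], [0, 1, 12, 13, 4, 7, 6, 21, 9, 2, 19, 5, 8, 16, 23, 22, 18, 14, 3, 10, 17, 11, 15, 20], [0, 1, 13, 18, 3, 17, 8, 20, 6, 16, 21, 5, 2, 9, 23, 7, 4, 19, 12, 11, 10, 22, 14, 15], [0, 1, 16, 12,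 3, 5, 8, 17, 2, 6, 11, 22, 13, 18, 19, 14, 9, 10, 4, 21, 15, 20, 7, 23], [0, 1, 18, 8, 2, 19, 3, 11, 13, 4, 23, 22, 12, 6, 20, 14, 16, 7, 9, 5, 21, 15, 17, 10]]

def lvTargets2 : List ℕ := [2, 3, 4, 6, 8, 9, 12, 13, 16, 18]

def lvWords2 : List (List ℕ) := [[], [0], [1], [2], [3], [4], [5], [6], [7], [8]]

def lvTabs3 : List (List ℕ) := [[0, 1, 2, 4, 13, 21, 12, 22, 6, 3, 23, 10, 16, 9, 15, 14, 8, 11, 18, 20, 5, 19, 7, 17], [0, 1, 2, 6, 13, 7, 4, 15, 16, 8, 5, 14, 12, 3, 23, 10, 18, 19, 9, 17, 22, 11, 20, 21], [0, 1, 2, 8, 3, 10, 6, 19, 9, 4, 15, 14, 16, 18, 22, 17, 13, 5, 12, 7, 11, 23, 20, 21], [0, 1, 2, 9, 3, 20, 8, 22, 16, 13, 11, 17, 6, 4, 15, 14, 12, 23, 18, 21, 19, 5, 7, 10], [0, 1, 2, 12, 4, 19, 8, 10, 6, 18, 7, 11, 3, 16, 20, 15, 13, 17, 9, 5, 14, 21, 23, 22], [0, 1, 2, 13, 6, 10, 3, 5, 9, 18, 15,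 21, 12, 4, 11, 7, 8, 19, 16, 17, 22, 23, 20, 14], [0, 1, 2, 16, 4, 20, 18, 22, 9, 6, 23, 17, 13, 3, 5, 21, 12, 11, 8, 14, 19, 15, 10, 7], [0, 1, 2, 18, 3, 22, 4, 21, 12, 9, 20, 5, 13, 16, 7, 23, 8, 14, 6, 11, 10, 17, 19, 15]]

def lvTargets3 : List ℕ := [3, 4, 6, 8, 9, 12, 13, 16, 18]

def lvWords3 : List (List ℕ) := [[], [0], [1], [2], [3], [4], [5], [6], [7]]

def lvTabs4 : List (List ℕ) := [[0, 1, 2, 3, 6, 14, 12, 22, 13, 4, 11, 7, 9, 16, 5, 21, 18, 23, 8, 20, 15, 19, 10, 17], [0, 1, 2, 3, 8, 17, 18, 15, 12, 13, 19, 21, 16, 6, 23, 10, 4, 5, 9, 7, 11, 22, 20, 14], [0, 1, 2, 3, 9, 14, 4, 11, 18, 12, 22, 10, 6, 8, 5, 20, 13, 23, 16, 21, 19, 15, 7, 17], [0, 1, 2, 3, 12, 5, 9, 10, 16, 6, 7, 22, 4, 18, 14, 19, 8, 17, 13, 15, 21, 20, 11, 23], [0, 1, 2, 3, 13, 23, 8, 21, 9, 16, 20, 19, 18, 12, 17, 11, 6, 14, 4,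 22, 7, 10, 15, 5], [0, 1, 2, 3, 16, 17, 13, 19, 4, 18, 15, 20, 8, 9, 23, 7, 12, 5, 6, 10, 22, 11, 21, 14], [0, 1, 2, 3, 18, 23, 16, 20, 6, 8, 21, 15, 13, 4, 17, 22, 9, 14, 12, 11, 10, 7, 19, 5]]

def lvTargets4 : List ℕ := [4, 6, 8, 9, 12, 13, 16, 18]

def lvWords4 : List (List ℕ) := [[], [0], [1], [2], [3], [4], [5], [6]]

/-- The elements of `M12` with prescribed images of `0` and of four points of a cycle of the cube twist. -/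
def candL : List (List ℕ) := [[0, 1, 2, 3, 4, 5, 6, 7, 8, 9, 10, 11, 12, 13, 14, 15, 16, 17, 18, 19, 20, 21, 22, 23], [0, 18, 6, 3, 2, 21, 1, 5, 16, 12, 7, 19, 8, 9, 17, 15, 13, 11, 4, 22, 10, 20, 14, 23], [0, 4, 1, 3, 6, 20, 18, 21, 13, 8, 5, 22, 16, 12, 11, 15, 9, 19, 2, 14, 7, 10, 17, 23], [0, 2, 18, 3, 1, 10, 4, 20, 9, 16, 21, 14, 13, 8, 19, 15, 12, 22, 6, 17, 5, 7, 11, 23], [0, 6, 4, 3, 18, 7, 2, 10, 12, 13, 20, 17, 9, 16, 22, 15, 8, 14, 1, 11, 21, 5, 19, 23], [0, 8, 9, 1, 13, 23, 3, 7, 18, 12, 17, 20, 2, 4, 19, 21, 6, 14, 16, 15, 11, 10, 5, 22], [0, 16, 12, 18, 9, 23, 3, 5, 4, 8, 11, 10, 6, 2, 22, 20, 1, 17, 13, 15, 19, 7, 21, 14], [0, 13, 8, 4, 12, 23, 3, 21, 2, 16, 19, 7, 1, 6, 14, 10, 18, 11, 9, 15, 22, 5, 20, 17], [0, 9, 16, 2, 8, 23, 3, 20, 6, 13, 22, 5, 18, 1, 17, 7, 4, 19, 12, 15, 14, 21, 10,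 11], [0, 12, 13, 6, 16, 23, 3, 10, 1, 9, 14, 21, 4, 18, 11, 5, 2, 22, 8, 15, 17, 20, 7, 19], [3, 1, 2, 9, 4, 15, 0, 17, 12, 6, 20, 22, 16, 8, 7, 19, 13, 21, 18, 23, 10, 14, 11, 5], [3, 18, 6, 12, 2, 15, 0, 11, 8, 1, 10, 14, 13, 16, 5, 22, 9, 20, 4, 23, 7, 17, 19, 21], [3, 4, 1, 8, 6, 15, 0, 19, 16, 18, 7, 17, 9, 13, 21, 14, 12, 10, 2, 23, 5, 11, 22, 20], [3, 2, 18, 16, 1, 15, 0, 22, 13, 4, 5, 11, 12, 9, 20, 17, 8, 7, 6, 23, 21, 19, 14, 10], [3, 6, 4, 13, 18, 15, 0, 14, 9, 2, 21, 19, 8, 12, 10, 11, 16, 5, 1, 23, 20, 22, 17, 7], [3, 8, 9, 0, 13, 22, 12, 19, 4, 1, 11, 5, 18, 6, 10, 23, 2, 7, 16, 21, 17, 14, 20, 15], [3, 16, 12, 0, 9, 14, 8, 22, 2, 18, 19, 21, 4, 1, 7, 23, 6, 5, 13, 20, 11, 17, 10, 15], [3, 13, 8, 0, 12, 17, 16, 14, 6, 4, 22, 20, 2, 18, 5, 23, 1, 21, 9, 10, 19, 11, 7, 15], [3, 9, 16, 0, 8, 11,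 13, 17, 1, 2, 14, 10, 6, 4, 21, 23, 18, 20, 12, 7, 22, 19, 5, 15], [3, 12, 13, 0, 16, 19, 9, 11, 18, 6, 17, 7, 1, 2, 20, 23, 4, 10, 8, 5, 14, 22, 21, 15]]

/-- An element of `M12` with fixed points on the dodecad and none on its complement. -/
def t4L : List ℕ := [6, 3, 16, 0, 1, 11, 9, 5, 12, 8, 21, 17, 4, 13, 10, 23, 2, 19, 18, 20, 15, 22, 14, 7]

end Cfsg.Agent.Helper27.M12Out
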