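import Mathlib
import Cfsg.Prelude.Def_Spor_Mathieu
import Cfsg.Agent.Lib.Helper7.M24Order
import Cfsg.Agent.Lib.Helper7.M12
import Cfsg.Agent.Lib.Helper27.M12Faithful
import Cfsg.Agent.Lib.Helper27.M24Aut2
import Cfsg.Agent.Lib.Helper27.M12OutData

/-!
# Permutation-level lemmas for the automorphisms of `M12`

`M12` is the stabiliser in `M24` of the dodecad of squares. It is generated by `y : t ↦ 2t`
(order 11), the cube twist `d` (order 5, `d y d⁻¹ = y³`) and the involution `z` centralising `d`.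
By sharp 5-transitivity, the elements of `M12` intertwining `y` and `y³` are the `y^b d`, and `z`
is the only involution of `M12` commuting with `d`. The map `t ↦ -1/t` swaps the dodecad with
its complement and normalises `M12`.
-/

set_option autoImplicit false
set_option maxRecDepth 1000000
set_option synthInstance.maxSize 4000
set_option synthInstance.maxHeartbeats 400000
open scoped Pointwise
open Cfsg

namespace Cfsg.Agent.Helper27.M12Out

open Cfsg.Agent.Helper7 Cfsg.Agent.Helper27 Cfsg.Agent.Helper27.OutAut Cfsg.Agent.Helper27.M24Aut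

/-! ### The group -/

/-- The mask of the dodecad of squares. -/
def dM : ℕ := 340831

theorem D_eq : Cfsg.Spor.squareDodecad = ofMask dM := by
  rw [Cfsg.Spor.squareDodecad, qrWord_eq, support₂_decW]
  rfl

theorem D_mem : ofMask dM ∈ dodecads := by
  rw [mem_dodecads_iff]
  exact ⟨(ofMask_mem_iff _ (by decide)).mpr (by decide +kernel), by rw [card_ofMask']; decide +kernel⟩

theorem M12_eq : Cfsg.Spor.M12 = setStab (ofMask dM) := by
  rw [Cfsg.Spor.M12, D_eq]

theorem mem_M12 {g : Equiv.Perm GolayPt} :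
    g ∈ Cfsg.Spor.M12 ↔ g ∈ M24 ∧ g • ofMask dM = ofMask dM := by
  rw [M12_eq]; exact mem_setStab

theorem card_M12 : Nat.card ↥Cfsg.Spor.M12 = 95040 := by
  rw [M12_eq]; exact card_setStab_dodecad D_mem

theorem M12_le : Cfsg.Spor.M12 ≤ M24 := fun _ hg => (mem_M12.mp hg).1

theorem mem_M12_of_tab {σ : Equiv.Perm GolayPt} {l : List ℕ} (h : Tab σ l) (hl : l.length = 24)
    (hm : σ ∈ M24) (hd : pm l dM = dM) : σ ∈ Cfsg.Spor.M12 := by
  rw [mem_M12]
  refine ⟨hm, ?_⟩
  rw [smul_ofMask h, ← pm_eq l hl, hd]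

/-- Elements of `M12` preserve the dodecad pointwise-setwise. -/
theorem apply_mem_D {g : Equiv.Perm GolayPt} (hg : g ∈ Cfsg.Spor.M12) (x : GolayPt) :
    g x ∈ ofMask dM ↔ x ∈ ofMask dM := by
  rw [M12_eq] at hg
  exact setStab_mem_iff hg x

theorem mem_D_pt (i : ℕ) (hi : i < 24) : pt i ∈ ofMask dM ↔ dM.testBit i = true := by
  rw [mem_ofMask, idx_pt i hi]

/-! ### The generators -/

def zP : Equiv.Perm GolayPt where
  toFun := funOf zL
  invFun := funOf zL
  left_inv := by unfold Function.LeftInverse; decide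
  right_inv := by unfold Function.RightInverse Function.LeftInverse; decide

theorem tab_z : Tab zP zL := by unfold Tab; decide

theorem z_mem24 : zP ∈ M24 := mem_M24_of_tab tab_z (by decide +kernel)

theorem z_mem : zP ∈ Cfsg.Spor.M12 := mem_M12_of_tab tab_z rfl z_mem24 (by decide +kernel)

theorem y_mem12 : yP ∈ Cfsg.Spor.M12 := mem_M12_of_tab tab_y rfl y_mem (by decide +kernel)

theorem d_mem12 : cubeTwist ∈ Cfsg.Spor.M12 :=
  mem_M12_of_tab tab_cubeTwist rfl cubeTwist_mem (by decide +kernel)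

/-- The initial tables of the straight-line program. -/
def initT : List (List ℕ) := [yL, lCubeTwist, zL, yiL, lCubeTwistInv]

theorem good_init (K : Subgroup (Equiv.Perm GolayPt)) (h1 : yP ∈ K) (h2 : cubeTwist ∈ K)
    (h3 : zP ∈ K) : GoodTabs K initT := by
  intro l hl
  simp only [initT, List.mem_cons, List.not_mem_nil, or_false] at hl
  rcases hl with rfl | rfl | rfl | rfl | rfl
  · exact ⟨_, h1, tab_y, rfl⟩
  · exact ⟨_, h2, tab_cubeTwist, rfl⟩
  · exact ⟨_, h3, tab_z, rfl⟩
  · exact ⟨_, K.inv_mem h1, tab_yi, rfl⟩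
  · exact ⟨_, K.inv_mem h2, tab_cubeTwist.inv (by decide), rfl⟩

/-- All tables used below. -/
def usedTabs : List (List ℕ) :=
  lvTabs0 ++ lvTabs1 ++ lvTabs2 ++ lvTabs3 ++ lvTabs4 ++ candL ++ [t4L]

theorem usedTabs_sub : ∀ l ∈ usedTabs, l ∈ slpTabs oProg initT := by
  decide +kernel

theorem good_used (K : Subgroup (Equiv.Perm GolayPt)) (h1 : yP ∈ K) (h2 : cubeTwist ∈ K)
    (h3 : zP ∈ K) : GoodTabs K usedTabs :=
  (goodTabs_slp oProg initT (good_init K h1 h2 h3)).subset usedTabs_sub

/-! ### Generation -/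

section
variable (K : Subgroup (Equiv.Perm GolayPt)) (h1 : yP ∈ K) (h2 : cubeTwist ∈ K) (h3 : zP ∈ K)
include h1 h2 h3

theorem lv0 : ∀ q ∈ lvTargets0, q < 24 ∧ ∃ g ∈ stabL K ([].map pt), g (pt 0) = pt q :=
  reach_targets (((good_used K h1 h2 h3).subset (tabs' := lvTabs0) (by decide)).stabL []
    (by decide) (by decide)) 0 (by decide) lvWords0 lvTargets0 (by decide +kernel)

theorem lv1 : ∀ q ∈ lvTargets1, q < 24 ∧ ∃ g ∈ stabL K ([0].map pt), g (pt 1) = pt q :=
  reach_targets (((good_used K h1 h2 h3).subset (tabs' := lvTabs1) (by decide)).stabL [0]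
    (by decide) (by decide)) 1 (by decide) lvWords1 lvTargets1 (by decide +kernel)

theorem lv2 : ∀ q ∈ lvTargets2, q < 24 ∧ ∃ g ∈ stabL K ([0, 1].map pt), g (pt 2) = pt q :=
  reach_targets (((good_used K h1 h2 h3).subset (tabs' := lvTabs2) (by decide)).stabL [0, 1]
    (by decide) (by decide)) 2 (by decide) lvWords2 lvTargets2 (by decide +kernel)

theorem lv3 : ∀ q ∈ lvTargets3, q < 24 ∧ ∃ g ∈ stabL K ([0, 1, 2].map pt), g (pt 3) = pt q :=
  reach_targets (((good_used K h1 h2 h3).subset (tabs' := lvTabs3) (by decide)).stabL [0, 1, 2]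
    (by decide) (by decide)) 3 (by decide) lvWords3 lvTargets3 (by decide +kernel)

theorem lv4 : ∀ q ∈ lvTargets4, q < 24 ∧ ∃ g ∈ stabL K ([0, 1, 2, 3].map pt), g (pt 4) = pt q :=
  reach_targets (((good_used K h1 h2 h3).subset (tabs' := lvTabs4) (by decide)).stabL [0, 1, 2, 3]
    (by decide) (by decide)) 4 (by decide) lvWords4 lvTargets4 (by decide +kernel)

theorem m12_lower : 95040 ≤ Nat.card K := by
  have s0 := lower_step K [] 0 lvTargets0 12 (by decide) (lv0 K h1 h2 h3)
  have s1 := lower_step K [0] 1 lvTargets1 11 (by decide) (lv1 K h1 h2 h3)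
  have s2 := lower_step K [0, 1] 2 lvTargets2 10 (by decide) (lv2 K h1 h2 h3)
  have s3 := lower_step K [0, 1, 2] 3 lvTargets3 9 (by decide) (lv3 K h1 h2 h3)
  have s4 := lower_step K [0, 1, 2, 3] 4 lvTargets4 8 (by decide) (lv4 K h1 h2 h3)
  have s5 : 1 ≤ Nat.card ↥(stabL K (([0, 1, 2, 3] ++ [4]).map pt)) := Nat.card_pos
  have e0 : Nat.card ↥(stabL K (([] : List ℕ).map pt)) = Nat.card K := rfl
  simp only [List.nil_append, List.cons_append] at s0 s1 s2 s3 s4 s5
  omega

end

/-- The three elements generate `M12`. -/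
theorem closure_eq_M12 : Subgroup.closure {yP, cubeTwist, zP} = Cfsg.Spor.M12 := by
  have hle : Subgroup.closure {yP, cubeTwist, zP} ≤ Cfsg.Spor.M12 := by
    rw [Subgroup.closure_le]
    rintro x (rfl | rfl | rfl)
    · exact y_mem12
    · exact d_mem12
    · exact z_mem
  have hcard := m12_lower (Subgroup.closure {yP, cubeTwist, zP})
    (Subgroup.subset_closure (by simp)) (Subgroup.subset_closure (by simp))
    (Subgroup.subset_closure (by simp))
  apply Subgroup.eq_of_le_of_card_ge hle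
  rw [card_M12]
  exact hcard

theorem good_M12 : GoodTabs Cfsg.Spor.M12 usedTabs := good_used _ y_mem12 d_mem12 z_mem

/-! ### Sharp 5-transitivity -/

/-- Two elements of `M12` agreeing on five points of the dodecad are equal. -/
theorem eq_of_agree {g σ : Equiv.Perm GolayPt} (hg : g ∈ Cfsg.Spor.M12) (hσ : σ ∈ Cfsg.Spor.M12)
    (T : Finset GolayPt) (hT : 5 ≤ T.card) (hTd : T ⊆ ofMask dM) (h : ∀ x ∈ T, g x = σ x) :
    g = σ := by
  have hu : σ⁻¹ * g = 1 := by
    apply eq_one_of_fix_five D_mem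
      (M24.mul_mem (M24.inv_mem (mem_M12.mp hσ).1) (mem_M12.mp hg).1) _ T hT hTd
    · intro x hx
      rw [Equiv.Perm.mul_apply, h x hx]; simp
    · rw [mul_smul, (mem_M12.mp hg).2, inv_smul_eq_iff, (mem_M12.mp hσ).2]
  calc g = σ * (σ⁻¹ * g) := by group
    _ = σ := by rw [hu, mul_one]

/-- Images propagate along an intertwining relation. -/
theorem propagate {g a a' : Equiv.Perm GolayPt} {A A' : List ℕ} (hA : Tab a A) (hA' : Tab a' A')
    (hg : g * a = a' * g) {i j : ℕ} (hi : i < 24) (hj : j < 24) (h : g (pt i) = pt j) :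
    g (pt (A.getD i 0)) = pt (A'.getD j 0) := by
  have h1 := congrArg (fun f : Equiv.Perm GolayPt => f (pt i)) hg
  simp only [Equiv.Perm.mul_apply] at h1
  rw [hA.apply i hi, h, hA'.apply j hj] at h1
  exact h1

theorem pt_inj {i j : ℕ} (hi : i < 24) (hj : j < 24) (h : pt i = pt j) : i = j := by
  have := congrArg idx h
  rwa [idx_pt i hi, idx_pt j hj] at this

theorem sameT_of_eq {σ : Equiv.Perm GolayPt} {l m : List ℕ} (h1 : Tab σ l) (h2 : Tab σ m) :
    sameT l m = true := by
  rw [sameT, List.all_eq_true]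
  intro i hi
  rw [List.mem_range] at hi
  have e1 := h1 (pt i)
  have e2 := h2 (pt i)
  rw [idx_pt i hi] at e1 e2
  rw [← e1, ← e2]
  exact beq_self_eq_true _

/-! ### The elements intertwining `y` and `y³` -/

/-- The table of `y³`. -/
def y3L : List ℕ := powT yL 3

/-- The table of `y^b d`. -/
def candY (b : ℕ) : List ℕ := mulTab (powT yL b) lCubeTwist

theorem tab_y3 : Tab (yP ^ 3) y3L := powT_tab tab_y rfl 3

theorem tab_candY (b : ℕ) : Tab (yP ^ b * cubeTwist) (candY b) :=
  (powT_tab tab_y rfl b).mul tab_cubeTwist rfl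

theorem chkY : ∀ q < 24, dM.testBit q = true → y3L.getD q 0 ≠ q → ∃ b < 11,
    (candY b).getD 1 0 = q ∧ (candY b).getD 2 0 = y3L.getD q 0 ∧
    (candY b).getD 4 0 = y3L.getD (y3L.getD q 0) 0 ∧
    (candY b).getD 8 0 = y3L.getD (y3L.getD (y3L.getD q 0) 0) 0 ∧
    (candY b).getD 16 0 = y3L.getD (y3L.getD (y3L.getD (y3L.getD q 0) 0) 0) 0 := by
  decide +kernel

theorem five_card {a b c d e : GolayPt} (h : [a, b, c, d, e].Nodup) :
    5 ≤ ({a, b, c, d, e} : Finset GolayPt).card := by
  have : ({a, b, c, d, e} : Finset GolayPt) = [a, b, c, d, e].toFinset := by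
    ext x; simp
  rw [this, List.toFinset_card_of_nodup h]
  rfl

/-- An element of `M12` conjugating `y` to `y³` is `y^b d` for some `b`. -/
theorem eq_pow_mul_d {g : Equiv.Perm GolayPt} (hg : g ∈ Cfsg.Spor.M12)
    (hrel : g * yP = yP ^ 3 * g) : ∃ b : ℕ, g = yP ^ b * cubeTwist := by
  have hq : idx (g (pt 1)) < 24 := idx_lt _
  have h0 : g (pt 1) = pt (idx (g (pt 1))) := (pt_idx _).symm
  generalize idx (g (pt 1)) = q at hq h0
  have hqD : dM.testBit q = true := by
    rw [← mem_D_pt q hq, ← h0, apply_mem_D hg, mem_D_pt 1 (by norm_num)]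
    decide
  have q1 := tab_y3.lt q hq
  have q2 := tab_y3.lt _ q1
  have q3 := tab_y3.lt _ q2
  have e1 := propagate tab_y tab_y3 hrel (by norm_num) hq h0
  have e2 := propagate tab_y tab_y3 hrel (by decide) q1 e1
  have e3 := propagate tab_y tab_y3 hrel (by decide) q2 e2
  have e4 := propagate tab_y tab_y3 hrel (by decide) q3 e3
  have hne : y3L.getD q 0 ≠ q := by
    intro h
    change g (pt 2) = pt (y3L.getD q 0) at e1
    rw [h, ← h0] at e1
    have := g.injective e1
    revert this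
    decide
  obtain ⟨b, _, c0, c1, c2, c3, c4⟩ := chkY q hq hqD hne
  refine ⟨b, ?_⟩
  have hσ : yP ^ b * cubeTwist ∈ Cfsg.Spor.M12 :=
    (Cfsg.Spor.M12).mul_mem ((Cfsg.Spor.M12).pow_mem y_mem12 b) d_mem12
  have hT := tab_candY b
  apply eq_of_agree hg hσ {pt 1, pt 2, pt 4, pt 8, pt 16} (five_card (by decide)) (by decide)
  intro x hx
  simp only [Finset.mem_insert, Finset.mem_singleton] at hx
  rcases hx with rfl | rfl | rfl | rfl | rfl
  · rw [h0, hT.apply 1 (by norm_num), c0]
  · rw [hT.apply 2 (by norm_num), c1]; exact e1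
  · rw [hT.apply 4 (by norm_num), c2]; exact e2
  · rw [hT.apply 8 (by norm_num), c3]; exact e3
  · rw [hT.apply 16 (by norm_num), c4]; exact e4

/-! ### The involution centralising `d` -/

theorem chkZ1 : ∀ a < 24, ∀ q < 24, dM.testBit a = true → lCubeTwist.getD a 0 = a →
    dM.testBit q = true → lCubeTwist.getD q 0 ≠ q → ∃ l ∈ candL,
    l.getD 0 0 = a ∧ l.getD 1 0 = q ∧ l.getD 18 0 = lCubeTwist.getD q 0 ∧
    l.getD 4 0 = lCubeTwist.getD (lCubeTwist.getD q 0) 0 ∧
    l.getD 2 0 = lCubeTwist.getD (lCubeTwist.getD (lCubeTwist.getD q 0) 0) 0 := by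
  decide +kernel

theorem chkZ2 : ∀ l ∈ candL, sameT (mulTab l lCubeTwist) (mulTab lCubeTwist l) = true →
    sameT (mulTab l l) idTab = true → sameT l idTab = false → sameT l zL = true := by
  decide +kernel

/-- The only involution of `M12` commuting with `d` is `z`. -/
theorem eq_z {g : Equiv.Perm GolayPt} (hg : g ∈ Cfsg.Spor.M12)
    (hrel : g * cubeTwist = cubeTwist * g) (h2 : g * g = 1) (h1 : g ≠ 1) : g = zP := by
  have ha : idx (g (pt 0)) < 24 := idx_lt _
  have ha0 : g (pt 0) = pt (idx (g (pt 0))) := (pt_idx _).symm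
  generalize idx (g (pt 0)) = a at ha ha0
  have hq : idx (g (pt 1)) < 24 := idx_lt _
  have h0 : g (pt 1) = pt (idx (g (pt 1))) := (pt_idx _).symm
  generalize idx (g (pt 1)) = q at hq h0
  have haD : dM.testBit a = true := by
    rw [← mem_D_pt a ha, ← ha0, apply_mem_D hg, mem_D_pt 0 (by norm_num)]
    decide
  have hqD : dM.testBit q = true := by
    rw [← mem_D_pt q hq, ← h0, apply_mem_D hg, mem_D_pt 1 (by norm_num)]
    decide
  have hafix : lCubeTwist.getD a 0 = a := by
    have e := propagate tab_cubeTwist tab_cubeTwist hrel (by norm_num) ha ha0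
    change g (pt 0) = pt (lCubeTwist.getD a 0) at e
    rw [ha0] at e
    exact (pt_inj ha (tab_cubeTwist.lt a ha) e).symm
  have q1 := tab_cubeTwist.lt q hq
  have q2 := tab_cubeTwist.lt _ q1
  have e1 := propagate tab_cubeTwist tab_cubeTwist hrel (by norm_num) hq h0
  have e2 := propagate tab_cubeTwist tab_cubeTwist hrel (by decide) q1 e1
  have e3 := propagate tab_cubeTwist tab_cubeTwist hrel (by decide) q2 e2
  have hne : lCubeTwist.getD q 0 ≠ q := by
    intro h
    change g (pt 18) = pt (lCubeTwist.getD q 0) at e1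
    rw [h, ← h0] at e1
    have := g.injective e1
    revert this
    decide
  obtain ⟨l, hl, c0, c1, c2, c3, c4⟩ := chkZ1 a ha q hq haD hafix hqD hne
  obtain ⟨σ, hσ, hT, hlen⟩ := good_M12 l (by
    simp only [usedTabs, List.mem_append]
    exact Or.inl (Or.inr hl))
  have hgσ : g = σ := by
    apply eq_of_agree hg hσ {pt 0, pt 1, pt 18, pt 4, pt 2} (five_card (by decide)) (by decide)
    intro x hx
    simp only [Finset.mem_insert, Finset.mem_singleton] at hx
    rcases hx with rfl | rfl | rfl | rfl | rfl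
    · rw [ha0, hT.apply 0 (by norm_num), c0]
    · rw [h0, hT.apply 1 (by norm_num), c1]
    · rw [hT.apply 18 (by norm_num), c2]; exact e1
    · rw [hT.apply 4 (by norm_num), c3]; exact e2
    · rw [hT.apply 2 (by norm_num), c4]; exact e3
  rw [← hgσ] at hT
  have t1 : sameT (mulTab l lCubeTwist) (mulTab lCubeTwist l) = true := by
    have := hT.mul tab_cubeTwist rfl
    rw [hrel] at this
    exact sameT_of_eq this (tab_cubeTwist.mul hT hlen)
  have t2 : sameT (mulTab l l) idTab = true := by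
    have := hT.mul hT hlen
    rw [h2] at this
    exact sameT_of_eq this tab_one
  have t3 : sameT l idTab = false := by
    by_contra hcon
    rw [Bool.not_eq_false] at hcon
    exact h1 (sameT_spec hT tab_one hcon)
  exact sameT_spec hT tab_z (chkZ2 l hl t1 t2 t3)

/-! ### The outer automorphism -/

theorem gamma_swap (y : GolayPt) : projInv y ∈ ofMask dM ↔ y ∉ ofMask dM := by
  rw [mem_ofMask, mem_ofMask, tab_projInv y]
  revert y
  decide

theorem smul_eq_of_forall {σ : Equiv.Perm GolayPt} {d : Finset GolayPt}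
    (h : ∀ x ∈ d, σ x ∈ d) : σ • d = d := by
  apply Finset.eq_of_subset_of_card_le
  · intro y hy
    rw [smul_finset_eq, Finset.mem_image] at hy
    obtain ⟨x, hx, rfl⟩ := hy
    exact h x hx
  · rw [smul_finset_eq, Finset.card_image_of_injective _ σ.injective]

theorem projInv_inv : projInv⁻¹ = projInv := inv_eq_of_mul_eq_one_left g_sq

/-- Conjugation by `t ↦ -1/t` preserves `M12`. -/
theorem conj_mem {g : Equiv.Perm GolayPt} (hg : g ∈ Cfsg.Spor.M12) :
    projInv * g * projInv⁻¹ ∈ Cfsg.Spor.M12 := by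
  rw [mem_M12]
  refine ⟨M24.mul_mem (M24.mul_mem projInv_mem (mem_M12.mp hg).1) (M24.inv_mem projInv_mem), ?_⟩
  apply smul_eq_of_forall
  intro x hx
  rw [Equiv.Perm.mul_apply, Equiv.Perm.mul_apply, gamma_swap, apply_mem_D hg, projInv_inv]
  intro h
  exact (gamma_swap x).mp h hx

/-- The element with fixed points on the dodecad only. -/
theorem exists_t4 : ∃ t ∈ Cfsg.Spor.M12, Tab t t4L :=by
  obtain ⟨σ, hσ, hT, _⟩ := good_M12 t4L (by simp [usedTabs])
  exact ⟨σ, hσ, hT⟩

theorem t4_fix : t4L.getD 13 0 = 13 ∧ ∀ i < 24, t4L.getD i 0 = i → dM.testBit i = true := by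
  decide +kernel

/-- No element of `M12` induces the same automorphism as `t ↦ -1/t`. -/
theorem not_inner_aux (h : Equiv.Perm GolayPt) (hh : h ∈ Cfsg.Spor.M12)
    (hconj : ∀ t ∈ Cfsg.Spor.M12, projInv * t * projInv⁻¹ = h * t * h⁻¹) : False := by
  obtain ⟨t, ht, hT⟩ := exists_t4
  have hc : (h⁻¹ * projInv) * t = t * (h⁻¹ * projInv) := by
    have e := hconj t ht
    have e2 : projInv * t = h * t * h⁻¹ * projInv := by rw [← e]; group
    calc h⁻¹ * projInv * t = h⁻¹ * (projInv * t) := by group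
      _ = h⁻¹ * (h * t * h⁻¹ * projInv) := by rw [e2]
      _ = t * (h⁻¹ * projInv) := by group
  have hfix : t (pt 13) = pt 13 := hT.fix 13 (by norm_num) t4_fix.1
  have hx : t ((h⁻¹ * projInv) (pt 13)) = (h⁻¹ * projInv) (pt 13) := by
    have := congrArg (fun f : Equiv.Perm GolayPt => f (pt 13)) hc
    simp only [Equiv.Perm.mul_apply] at this
    rw [hfix] at this
    simpa only [Equiv.Perm.mul_apply] using this.symm
  have hnot : (h⁻¹ * projInv) (pt 13) ∉ ofMask dM := by
    rw [Equiv.Perm.mul_apply, apply_mem_D ((Cfsg.Spor.M12).inv_mem hh), gamma_swap, not_not]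
    decide
  apply hnot
  have hi : idx ((h⁻¹ * projInv) (pt 13)) < 24 := idx_lt _
  have hp : (h⁻¹ * projInv) (pt 13) = pt (idx ((h⁻¹ * projInv) (pt 13))) := (pt_idx _).symm
  generalize idx ((h⁻¹ * projInv) (pt 13)) = i at hi hp
  rw [hp] at hx ⊢
  rw [hT.apply i hi] at hx
  rw [mem_D_pt i hi]
  exact t4_fix.2 i hi (pt_inj (hT.lt i hi) hi hx)

end Cfsg.Agent.Helper27.M12Out
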