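import Mathlib
import Cfsg.Prelude.Def_KGroupFacts
import Cfsg.Agent.Lib.Helper27.OutAut

/-!
# Outer automorphism groups of order two

Complements to `OutAut`: the reduction of the exponent for an arbitrary property of
automorphisms stable under inner twists, and a criterion for `|Out G| = 2`.
-/

set_option autoImplicit false

namespace Cfsg.Agent.Helper27.OutAut

section Abstract2

variable {G : Type*} [Group G]

theorem inner_iff_mem (φ : G ≃* G) : Inner φ ↔ (φ : MulAut G) ∈ Cfsg.Inn G := by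
  constructor
  · rintro ⟨g, hg⟩
    exact ⟨g, MulEquiv.ext (fun t => by rw [MulAut.conj_apply, hg])⟩
  · rintro ⟨g, hg⟩
    refine ⟨g, fun t => ?_⟩
    rw [← hg, MulAut.conj_apply]

/-- Criterion for an outer automorphism group of order two. -/
theorem card_out_eq_two (τ : MulAut G) (hτ : ¬ Inner τ)
    (h : ∀ φ : MulAut G, Inner φ ∨ Inner (φ * τ)) : Nat.card (Cfsg.Out G) = 2 := by
  show (Cfsg.Inn G).index = 2
  rw [Subgroup.index_eq_two_iff]
  refine ⟨τ, fun b => ?_⟩
  by_cases hb : b ∈ Cfsg.Inn G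
  · right
    refine ⟨hb, fun hbt => hτ ?_⟩
    have := (Cfsg.Inn G).mul_mem ((Cfsg.Inn G).inv_mem hb) hbt
    rw [inv_mul_cancel_left] at this
    exact (inner_iff_mem τ).mpr this
  · left
    refine ⟨?_, hb⟩
    rcases h b with h1 | h1
    · exact absurd ((inner_iff_mem b).mp h1) hb
    · exact (inner_iff_mem _).mp h1

/-- Reduction of the exponent with an element normalising `⟨t⟩`, for a property of
automorphisms that is stable under inner twists. -/
theorem pred_of_pow (P : (G ≃* G) → Prop) (hP : ∀ (a : G) (φ : G ≃* G), P (tw a φ) → P φ)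
    (t ν : G) (r p : ℕ) (hp : 1 < p) (ht : orderOf t = p)
    (hν : ν * t * ν⁻¹ = t ^ r)
    (harith : ∀ k < p, k ≠ 0 → ∃ j : ℕ, (r ^ j * k) % p = 1 ∨ (r ^ j * k) % p = p - 1)
    (hpm : ∀ φ : G ≃* G, (φ t = t ∨ φ t = t⁻¹) → P φ)
    (φ : G ≃* G) (k : ℕ) (hX : φ t = t ^ k) : P φ := by
  have hνj : ∀ j : ℕ, ν ^ j * t * (ν ^ j)⁻¹ = t ^ (r ^ j) := by
    intro j
    induction j with
    | zero => simp
    | succ j ih =>
      have : ν ^ (j + 1) * t * (ν ^ (j + 1))⁻¹ = ν * (ν ^ j * t * (ν ^ j)⁻¹) * ν⁻¹ := by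
        rw [pow_succ']; group
      rw [this, ih, ← conj_pow, hν, ← pow_mul, pow_succ']
  have ht1 : t ≠ 1 := by
    intro h
    rw [h, orderOf_one] at ht
    omega
  have hk0 : k % p ≠ 0 := by
    intro h
    have h1 : t ^ k = 1 := by
      rw [← pow_mod_orderOf, ht, h, pow_zero]
    rw [h1] at hX
    have : φ t = φ 1 := by rw [hX, map_one]
    exact ht1 (φ.injective this)
  obtain ⟨j, hj⟩ := harith (k % p) (Nat.mod_lt _ (by omega)) hk0
  have e : (r ^ j * k) % p = (r ^ j * (k % p)) % p := by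
    rw [Nat.mul_mod, Nat.mul_mod (r ^ j) (k % p), Nat.mod_mod]
  rw [← e] at hj
  apply hP (ν ^ j) φ
  apply hpm
  have h1 : tw (ν ^ j) φ t = t ^ ((r ^ j * k) % p) := by
    rw [tw_apply, hX, ← conj_pow, hνj j, ← pow_mul]
    conv_rhs => rw [← ht, pow_mod_orderOf]
  rcases hj with h | h
  · left; rw [h1, h, pow_one]
  · right
    rw [h1, h]
    apply eq_inv_of_mul_eq_one_left
    rw [← pow_succ, Nat.sub_add_cancel (by omega), ← ht, pow_orderOf_eq_one]

/-- If `d x d⁻¹ = x³`, `x¹¹ = 1` and `d' = x^b d`, then conjugating `d'` by `x^(6b)` gives `d`. -/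
theorem conj_normalise3 {x d : G} (h : d * x = x ^ 3 * d) (h11 : x ^ 11 = 1) (b : ℕ) :
    x ^ (6 * b) * (x ^ b * d) * (x ^ (6 * b))⁻¹ = d := by
  have h1 : d * x * d⁻¹ = x ^ 3 := by rw [h]; group
  have h2 : ∀ n : ℕ, d * x ^ n = x ^ (3 * n) * d := by
    intro n
    have : d * x ^ n * d⁻¹ = x ^ (3 * n) := by rw [← conj_pow, h1, ← pow_mul]
    rw [← this]; group
  rw [mul_inv_eq_iff_eq_mul, h2 (6 * b), ← mul_assoc (x ^ (6 * b)), ← pow_add]
  congr 1
  have e : 3 * (6 * b) = 6 * b + b + 11 * b := by ring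
  rw [e, pow_add (x) (6 * b + b), pow_mul x 11, h11, one_pow, mul_one]

end Abstract2

end Cfsg.Agent.Helper27.OutAut
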