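import Mathlib
import Cfsg.Prelude.Def_SporadicCombinatorics
import Cfsg.Agent.Lib.Helper27.Quartets

set_option autoImplicit false
set_option maxRecDepth 1000000

namespace Cfsg.Agent.Helper27

open Cfsg
open scoped Pointwise

/-- The family of subsets encoded by a list of masks. -/
def toQ (c : List ℕ) : Finset (Finset GolayPt) := (c.map toFinset).toFinset

theorem mem_toQ {c : List ℕ} {t : Finset GolayPt} : t ∈ toQ c ↔ ∃ m ∈ c, toFinset m = t := by
  unfold toQ
  rw [List.mem_toFinset, List.mem_map]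

theorem toQ_perm {c c' : List ℕ} (h : c.Perm c') : toQ c = toQ c' :=
  List.toFinset_eq_of_perm _ _ (h.map _)

theorem toQ_sort4 (c : List ℕ) : toQ (sort4 c) = toQ c :=
  toQ_perm (List.perm_insertionSort _ _)

/-! ### Validity of the listed quartets -/

theorem sub3_lt {m : ℕ} (hm : m ∈ sub3) : m < 2 ^ 24 := subs0_lt (mem_sub3_iff.mp hm).1

theorem card_of_sub3 {m : ℕ} (hm : m ∈ sub3) : (toFinset m).card = 3 := by
  rw [card_toFinset, (mem_sub3_iff.mp hm).2]

theorem subset_of_subs0 {m : ℕ} (hm : m ∈ subs0) : toFinset m ⊆ toFinset dod0 := by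
  rw [toFinset_subset_iff (subs0_lt hm), Nat.and_comm]
  exact subs0_and hm

theorem or_mem_subs0 {a b : ℕ} (ha : a ∈ subs0) (hb : b ∈ subs0) : a ||| b ∈ subs0 := by
  apply mem_subs0_of_and
  rw [Nat.and_or_distrib_right, subs0_and ha, subs0_and hb]

/-- Mask-level form of the hexad condition. -/
theorem union_hexad_iff {a b : ℕ} (ha : a ∈ subs0) (hb : b ∈ subs0) :
    toFinset a ∪ toFinset b ∈ hexadsOn (toFinset dod0) ↔ isHexF (a ||| b) = true := by
  rw [isHexF_iff (or_mem_subs0 ha hb), mem_hexadsOn_base, ← toFinset_or]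
  constructor
  · rintro ⟨mh, hmh, e⟩
    have := toFinset_inj (subs0_lt (or_mem_subs0 ha hb)) (hexadList_lt hmh) e
    rw [this]; exact hmh
  · intro h
    exact ⟨_, h, rfl⟩

theorem toQ_four (m1 m2 m3 m4 : ℕ) :
    toQ [m1, m2, m3, m4] = {toFinset m1, toFinset m2, toFinset m3, toFinset m4} := by
  ext t
  simp only [mem_toQ, List.mem_cons, List.not_mem_nil, or_false, Finset.mem_insert,
    Finset.mem_singleton]
  constructor
  · rintro ⟨m, (rfl | rfl | rfl | rfl), rfl⟩ <;> simp
  · rintro (rfl | rfl | rfl | rfl)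
    · exact ⟨m1, Or.inl rfl, rfl⟩
    · exact ⟨m2, Or.inr (Or.inl rfl), rfl⟩
    · exact ⟨m3, Or.inr (Or.inr (Or.inl rfl)), rfl⟩
    · exact ⟨m4, Or.inr (Or.inr (Or.inr rfl)), rfl⟩

theorem quartet_valid_aux {m1 m2 m3 m4 : ℕ} (h : quartetOK [m1, m2, m3, m4] = true) :
    toQ [m1, m2, m3, m4] ∈ quartets (toFinset dod0) := by
  unfold quartetOK at h
  simp only [Bool.and_eq_true, decide_eq_true_eq, beq_iff_eq] at h
  obtain ⟨⟨⟨⟨⟨⟨⟨⟨⟨⟨⟨⟨⟨⟨⟨⟨l12, l23⟩, l34⟩, p1⟩, p2⟩, p3⟩, p4⟩, s1⟩, s2⟩, s3⟩, s4⟩, h12⟩, h13⟩, h14⟩,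
    h23⟩, h24⟩, h34⟩ := h
  have b1 := mem_subs0_of_and s1
  have b2 := mem_subs0_of_and s2
  have b3 := mem_subs0_of_and s3
  have b4 := mem_subs0_of_and s4
  have u12 := (union_hexad_iff b1 b2).mpr h12
  have u13 := (union_hexad_iff b1 b3).mpr h13
  have u14 := (union_hexad_iff b1 b4).mpr h14
  have u23 := (union_hexad_iff b2 b3).mpr h23
  have u24 := (union_hexad_iff b2 b4).mpr h24
  have u34 := (union_hexad_iff b3 b4).mpr h34
  have n12 : toFinset m1 ≠ toFinset m2 := fun e =>
    absurd (toFinset_inj (subs0_lt b1) (subs0_lt b2) e) (by omega)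
  have n13 : toFinset m1 ≠ toFinset m3 := fun e =>
    absurd (toFinset_inj (subs0_lt b1) (subs0_lt b3) e) (by omega)
  have n14 : toFinset m1 ≠ toFinset m4 := fun e =>
    absurd (toFinset_inj (subs0_lt b1) (subs0_lt b4) e) (by omega)
  have n23 : toFinset m2 ≠ toFinset m3 := fun e =>
    absurd (toFinset_inj (subs0_lt b2) (subs0_lt b3) e) (by omega)
  have n24 : toFinset m2 ≠ toFinset m4 := fun e =>
    absurd (toFinset_inj (subs0_lt b2) (subs0_lt b4) e) (by omega)
  have n34 : toFinset m3 ≠ toFinset m4 := fun e =>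
    absurd (toFinset_inj (subs0_lt b3) (subs0_lt b4) e) (by omega)
  rw [toQ_four]
  refine ⟨?_, ?_, ?_⟩
  · rw [Finset.card_insert_of_notMem, Finset.card_insert_of_notMem, Finset.card_insert_of_notMem,
      Finset.card_singleton]
    · simpa using n34
    · simp only [Finset.mem_insert, Finset.mem_singleton, not_or]; exact ⟨n23, n24⟩
    · simp only [Finset.mem_insert, Finset.mem_singleton, not_or]; exact ⟨n12, n13, n14⟩
  · intro t ht
    simp only [Finset.mem_insert, Finset.mem_singleton] at ht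
    rcases ht with rfl | rfl | rfl | rfl
    · exact ⟨by rw [card_toFinset, p1], subset_of_subs0 b1⟩
    · exact ⟨by rw [card_toFinset, p2], subset_of_subs0 b2⟩
    · exact ⟨by rw [card_toFinset, p3], subset_of_subs0 b3⟩
    · exact ⟨by rw [card_toFinset, p4], subset_of_subs0 b4⟩
  · intro t ht u hu htu
    simp only [Finset.mem_insert, Finset.mem_singleton] at ht hu
    rcases ht with rfl | rfl | rfl | rfl <;> rcases hu with rfl | rfl | rfl | rfl
    · exact absurd rfl htu
    · exact u12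
    · exact u13
    · exact u14
    · rw [Finset.union_comm]; exact u12
    · exact absurd rfl htu
    · exact u23
    · exact u24
    · rw [Finset.union_comm]; exact u13
    · rw [Finset.union_comm]; exact u23
    · exact absurd rfl htu
    · exact u34
    · rw [Finset.union_comm]; exact u14
    · rw [Finset.union_comm]; exact u24
    · rw [Finset.union_comm]; exact u34
    · exact absurd rfl htu

theorem quartet_valid {c : List ℕ} (hc : c ∈ quartetList) : toQ c ∈ quartets (toFinset dod0) := by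
  have hok := List.all_eq_true.mp quartetList_ok c hc
  unfold quartetList at hc
  rw [List.mem_map] at hc
  obtain ⟨k, _, rfl⟩ := hc
  exact quartet_valid_aux hok

/-! ### The structure of an arbitrary quartet of the base dodecad -/

theorem exists_sub3_of_mem {Q : Finset (Finset GolayPt)} (hQ : Q ∈ quartets (toFinset dod0))
    {t : Finset GolayPt} (ht : t ∈ Q) : ∃ a ∈ sub3, t = toFinset a := by
  obtain ⟨hc, hsub⟩ := hQ.2.1 t ht
  obtain ⟨a, ha, _, rfl⟩ := exists_submask hsub
  refine ⟨a, mem_sub3_iff.mpr ⟨ha, ?_⟩, rfl⟩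
  rw [← card_toFinset, hc]

theorem mem_nbrs_iff {a b : ℕ} : b ∈ nbrs a ↔ b ∈ sub3 ∧ isHexF (a ||| b) = true := by
  unfold nbrs
  rw [List.mem_filter]

theorem mem_compatIn_iff {N : List ℕ} {b c : ℕ} :
    c ∈ compatIn N b ↔ c ∈ N ∧ c ≠ b ∧ isHexF (b ||| c) = true := by
  unfold compatIn
  rw [List.mem_filter]
  simp

/-- Kernel-checked local structure: for a triple `a` and a neighbour `b`, exactly two further
triples are compatible with both, and the four form a listed quartet. -/
theorem compat_spec {a b : ℕ} (ha : a ∈ sub3) (hb : b ∈ nbrs a) :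
    (compatIn (nbrs a) b).length = 2 ∧
      ∃ j < 220, sort4 (a :: b :: compatIn (nbrs a) b) = qEntry j := by
  obtain ⟨js, _, h1⟩ := all2_spec _ _ _ quartet_complete a ha
  unfold quartetCheckA at h1
  obtain ⟨j, _, h2⟩ := all2_spec _ _ _ h1 b hb
  unfold quartetCheckB at h2
  simp only [Bool.and_eq_true, beq_iff_eq, decide_eq_true_eq] at h2
  exact ⟨h2.1.1, j, h2.1.2, h2.2⟩

theorem compatIn_nodup (a b : ℕ) : (compatIn (nbrs a) b).Nodup :=
  (sub3_nodup.filter _).filter _

theorem list_two_of_mem {l : List ℕ} (hl : l.length = 2) (hnd : l.Nodup) {c e : ℕ} (hc : c ∈ l)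
    (he : e ∈ l) (hce : c ≠ e) : l.Perm [c, e] := by
  match l, hl with
  | [x, y], _ =>
    simp only [List.mem_cons, List.not_mem_nil, or_false] at hc he
    have hxy : x ≠ y := by
      intro h; rw [h] at hnd; simp at hnd
    rcases hc with rfl | rfl <;> rcases he with rfl | rfl
    · exact absurd rfl hce
    · exact List.Perm.refl _
    · exact List.Perm.swap _ _ _
    · exact absurd rfl hce

/-- A quartet of the base dodecad is determined by two of its triples. -/
theorem quartet_struct {Q : Finset (Finset GolayPt)} (hQ : Q ∈ quartets (toFinset dod0))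
    {a b : ℕ} (ha : a ∈ sub3) (hb : b ∈ sub3) (hta : toFinset a ∈ Q) (hub : toFinset b ∈ Q)
    (hne : toFinset a ≠ toFinset b) :
    b ∈ nbrs a ∧ Q = toQ (a :: b :: compatIn (nbrs a) b) := by
  have ha0 := (mem_sub3_iff.mp ha).1
  have hb0 := (mem_sub3_iff.mp hb).1
  have hbn : b ∈ nbrs a :=
    mem_nbrs_iff.mpr ⟨hb, (union_hexad_iff ha0 hb0).mp (hQ.2.2 _ hta _ hub hne)⟩
  refine ⟨hbn, ?_⟩
  obtain ⟨hlen, _⟩ := compat_spec ha hbn
  -- the other two members
  have hcardR : ((Q.erase (toFinset a)).erase (toFinset b)).card = 2 := by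
    rw [Finset.card_erase_of_mem (Finset.mem_erase.mpr ⟨hne.symm, hub⟩),
      Finset.card_erase_of_mem hta, hQ.1]
  obtain ⟨v, w, hvw, hR⟩ := Finset.card_eq_two.mp hcardR
  have hv : v ∈ (Q.erase (toFinset a)).erase (toFinset b) := by rw [hR]; simp
  have hw : w ∈ (Q.erase (toFinset a)).erase (toFinset b) := by rw [hR]; simp
  simp only [Finset.mem_erase] at hv hw
  obtain ⟨hvb, hva, hvQ⟩ := hv
  obtain ⟨hwb, hwa, hwQ⟩ := hw
  obtain ⟨c, hc, rfl⟩ := exists_sub3_of_mem hQ hvQ
  obtain ⟨e, he, rfl⟩ := exists_sub3_of_mem hQ hwQ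
  have hc0 := (mem_sub3_iff.mp hc).1
  have he0 := (mem_sub3_iff.mp he).1
  have hcC : c ∈ compatIn (nbrs a) b := by
    rw [mem_compatIn_iff, mem_nbrs_iff]
    refine ⟨⟨hc, (union_hexad_iff ha0 hc0).mp (hQ.2.2 _ hta _ hvQ hva.symm)⟩, ?_,
      (union_hexad_iff hb0 hc0).mp (hQ.2.2 _ hub _ hvQ hvb.symm)⟩
    rintro rfl; exact hvb rfl
  have heC : e ∈ compatIn (nbrs a) b := by
    rw [mem_compatIn_iff, mem_nbrs_iff]
    refine ⟨⟨he, (union_hexad_iff ha0 he0).mp (hQ.2.2 _ hta _ hwQ hwa.symm)⟩, ?_,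
      (union_hexad_iff hb0 he0).mp (hQ.2.2 _ hub _ hwQ hwb.symm)⟩
    rintro rfl; exact hwb rfl
  have hce : c ≠ e := by rintro rfl; exact hvw rfl
  have hperm := list_two_of_mem hlen (compatIn_nodup a b) hcC heC hce
  rw [toQ_perm (List.Perm.cons a (List.Perm.cons b hperm)), toQ_four]
  ext z
  simp only [Finset.mem_insert, Finset.mem_singleton]
  constructor
  · intro hz
    by_cases h1 : z = toFinset a
    · exact Or.inl h1
    by_cases h2 : z = toFinset b
    · exact Or.inr (Or.inl h2)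
    have : z ∈ (Q.erase (toFinset a)).erase (toFinset b) := by
      simp only [Finset.mem_erase]; exact ⟨h2, h1, hz⟩
    rw [hR] at this
    simp only [Finset.mem_insert, Finset.mem_singleton] at this
    exact Or.inr (Or.inr this)
  · rintro (rfl | rfl | rfl | rfl)
    · exact hta
    · exact hub
    · exact hvQ
    · exact hwQ

/-- The quartets of the base dodecad are exactly the 220 listed ones. -/
theorem mem_quartets_base {Q : Finset (Finset GolayPt)} :
    Q ∈ quartets (toFinset dod0) ↔ ∃ c ∈ quartetList, Q = toQ c := by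
  constructor
  · intro hQ
    have h1 : 1 < Q.card := by rw [hQ.1]; norm_num
    obtain ⟨t, ht, u, hu, htu⟩ := Finset.one_lt_card.mp h1
    obtain ⟨a, ha, rfl⟩ := exists_sub3_of_mem hQ ht
    obtain ⟨b, hb, rfl⟩ := exists_sub3_of_mem hQ hu
    obtain ⟨hbn, hQe⟩ := quartet_struct hQ ha hb ht hu htu
    obtain ⟨_, j, hj, hs⟩ := compat_spec ha hbn
    refine ⟨qEntry j, ?_, ?_⟩
    · unfold quartetList
      rw [List.mem_map]
      exact ⟨j, List.mem_range.mpr hj, rfl⟩
    · rw [hQe, ← hs, toQ_sort4]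
  · rintro ⟨c, hc, rfl⟩
    exact quartet_valid hc

end Cfsg.Agent.Helper27
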