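import Mathlib
import Cfsg.Prelude.Def_SporadicCombinatorics
import Cfsg.Agent.Lib.Helper27.QuartetsAbs

set_option autoImplicit false
set_option maxRecDepth 1000000

namespace Cfsg.Agent.Helper27

open Cfsg
open scoped Pointwise

/-! ### Counting the quartets of the base dodecad -/

theorem quartetList_sorted {c : List ℕ} (hc : c ∈ quartetList) :
    c.Pairwise (· < ·) ∧ ∀ m ∈ c, m < 2 ^ 24 := by
  have hok := List.all_eq_true.mp quartetList_ok c hc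
  unfold quartetList at hc
  rw [List.mem_map] at hc
  obtain ⟨k, _, rfl⟩ := hc
  unfold qEntry at hok ⊢
  unfold quartetOK at hok
  simp only [Bool.and_eq_true, decide_eq_true_eq, beq_iff_eq] at hok
  obtain ⟨⟨⟨⟨⟨⟨⟨⟨⟨⟨⟨⟨⟨⟨⟨⟨l12, l23⟩, l34⟩, _⟩, _⟩, _⟩, _⟩, s1⟩, s2⟩, s3⟩, s4⟩, _⟩, _⟩, _⟩,
    _⟩, _⟩, _⟩ := hok
  constructor
  · simp only [List.pairwise_cons, List.mem_cons, List.not_mem_nil, or_false, forall_eq_or_imp,
      forall_eq, IsEmpty.forall_iff, implies_true, List.Pairwise.nil, and_true]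
    omega
  · intro m hm
    simp only [List.mem_cons, List.not_mem_nil, or_false] at hm
    rcases hm with rfl | rfl | rfl | rfl
    · exact subs0_lt (mem_subs0_of_and s1)
    · exact subs0_lt (mem_subs0_of_and s2)
    · exact subs0_lt (mem_subs0_of_and s3)
    · exact subs0_lt (mem_subs0_of_and s4)

theorem toQ_injOn {c c' : List ℕ} (hc : c ∈ quartetList) (hc' : c' ∈ quartetList)
    (h : toQ c = toQ c') : c = c' := by
  have key : ∀ {c c' : List ℕ}, c ∈ quartetList → c' ∈ quartetList → toQ c = toQ c' → c ⊆ c' := by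
    intro c c' hc hc' h m hm
    have : toFinset m ∈ toQ c' := by rw [← h, mem_toQ]; exact ⟨m, hm, rfl⟩
    obtain ⟨m', hm', e⟩ := mem_toQ.mp this
    have := toFinset_inj ((quartetList_sorted hc').2 m' hm') ((quartetList_sorted hc).2 m hm) e
    rw [← this]; exact hm'
  exact List.Subset.antisymm_of_pairwise (quartetList_sorted hc).1 (quartetList_sorted hc').1
    (key hc hc' h) (key hc' hc h.symm)

theorem ncard_quartets_base : (quartets (toFinset dod0)).ncard = 220 := by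
  have h1 : quartets (toFinset dod0) = toQ '' (↑quartetList.toFinset : Set (List ℕ)) := by
    ext Q
    rw [mem_quartets_base]
    simp only [Set.mem_image, Finset.mem_coe, List.mem_toFinset]
    constructor
    · rintro ⟨c, hc, rfl⟩; exact ⟨c, hc, rfl⟩
    · rintro ⟨c, hc, rfl⟩; exact ⟨c, hc, rfl⟩
  rw [h1, Set.InjOn.ncard_image, Set.ncard_coe_finset,
    List.toFinset_card_of_nodup quartetList_nodup]
  · simp [quartetList]
  · intro a ha b hb hab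
    simp only [Finset.mem_coe, List.mem_toFinset] at ha hb
    exact toQ_injOn ha hb hab

/-! ### Equivariance -/

theorem smul_mem_hexadsOn {g : Equiv.Perm GolayPt} (hg : g ∈ M24) (d h : Finset GolayPt) :
    g • h ∈ hexadsOn (g • d) ↔ h ∈ hexadsOn d := by
  unfold hexadsOn
  simp only [Set.mem_ofPred_eq, Finset.card_smul_finset]
  constructor
  · rintro ⟨hc, o, ho, e⟩
    refine ⟨hc, g⁻¹ • o, (smul_mem_octads (M24.inv_mem hg)).mpr ho, ?_⟩
    apply smul_left_cancel g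
    rw [Finset.smul_finset_inter, smul_inv_smul, e]
  · rintro ⟨hc, o, ho, e⟩
    refine ⟨hc, g • o, (smul_mem_octads hg).mpr ho, ?_⟩
    rw [← Finset.smul_finset_inter, e]

theorem smul_mem_quartets_of_mem {g : Equiv.Perm GolayPt} (hg : g ∈ M24) {d : Finset GolayPt}
    {Q : Finset (Finset GolayPt)} (hQ : Q ∈ quartets d) : g • Q ∈ quartets (g • d) := by
  obtain ⟨hc, h1, h2⟩ := hQ
  refine ⟨by rw [Finset.card_smul_finset, hc], ?_, ?_⟩
  · intro t ht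
    obtain ⟨t', ht', rfl⟩ := Finset.mem_smul_finset.mp ht
    exact ⟨by rw [Finset.card_smul_finset]; exact (h1 t' ht').1,
      Finset.smul_finset_subset_smul_finset_iff.mpr (h1 t' ht').2⟩
  · intro t ht u hu htu
    obtain ⟨t', ht', rfl⟩ := Finset.mem_smul_finset.mp ht
    obtain ⟨u', hu', rfl⟩ := Finset.mem_smul_finset.mp hu
    rw [← Finset.smul_finset_union, smul_mem_hexadsOn hg]
    exact h2 t' ht' u' hu' (fun e => htu (by rw [e]))

theorem smul_mem_quartets {g : Equiv.Perm GolayPt} (hg : g ∈ M24) (d : Finset GolayPt)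
    (Q : Finset (Finset GolayPt)) : g • Q ∈ quartets (g • d) ↔ Q ∈ quartets d := by
  constructor
  · intro h
    have := smul_mem_quartets_of_mem (M24.inv_mem hg) h
    rwa [inv_smul_smul, inv_smul_smul] at this
  · exact fun h => smul_mem_quartets_of_mem hg h

theorem smul_toQ (g : Equiv.Perm GolayPt) (x0 x : List ℕ)
    (h : x.map toFinset = x0.map (fun m => g • toFinset m)) : toQ x = g • toQ x0 := by
  ext t
  rw [← Finset.inv_smul_mem_iff]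
  unfold toQ
  rw [h, List.mem_toFinset, List.mem_toFinset, List.mem_map, List.mem_map]
  constructor
  · rintro ⟨m, hm, rfl⟩
    exact ⟨m, hm, by rw [inv_smul_smul]⟩
  · rintro ⟨m, hm, e⟩
    exact ⟨m, hm, by rw [e, smul_inv_smul]⟩

/-! ### Transitivity of the dodecad stabiliser on quartets -/

/-- Certificate check up to a normalisation of the resulting state. -/
def certCheckN (gens : List (ℕ × ℕ)) (norm : List ℕ → List ℕ) (start tgt : ℕ → List ℕ) :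
    List ℕ → List (List ℕ) → Bool
  | [], [] => true
  | a :: L, w :: W =>
    (norm (applyWord gens w (start a)) == tgt a) && certCheckN gens norm start tgt L W
  | _, _ => false

theorem certCheckN_spec {base : List ℕ} {gens : List (ℕ × ℕ)}
    (hgens : ∀ g ∈ gens, genOK base g = true) (norm : List ℕ → List ℕ) (start tgt : ℕ → List ℕ) :
    ∀ (L : List ℕ) (W : List (List ℕ)), certCheckN gens norm start tgt L W = true →
      ∀ a ∈ L, ∃ x, norm x = tgt a ∧ Reach base (start a) x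
  | [], _, _ => by simp
  | a :: L, [], h => by simp [certCheckN] at h
  | a :: L, w :: W, h => by
    rw [certCheckN, Bool.and_eq_true, beq_iff_eq] at h
    intro b hb
    rcases List.mem_cons.mp hb with rfl | hb
    · exact ⟨_, h.1, reach_word hgens w (reach_refl _ _)⟩
    · exact certCheckN_spec hgens norm start tgt L W h.2 b hb

/-- Generators of the stabiliser of the base dodecad. -/
def gensM12 : List (ℕ × ℕ) :=
  [(566591793864623591745264863092493872, 190114735145089336269635888638168236),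
   (190114735145089336269635888638168236, 566591793864623591745264863092493872),
   (307143604868030628575237153466974422, 208526844104950529910764434487357570),
   (208526844104950529910764434487357570, 307143604868030628575237153466974422)]

theorem gensM12_ok : ∀ g ∈ gensM12, genOK [dod0] g = true := by decide +kernel

def quartetWords : List (List ℕ) :=
  [[], [1,3,1,2,1], [2,2,0,2,0,3,0], [2,1,2,0], [2,0,2,1,2,1], [3,1,2,2], [3,0,2,1,2,1],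
   [1,3,0,2,1,2,0], [1,3,0,2,0,2], [2,0,2,2], [2,0], [2,1,3,0,3,0], [1,3,1,2,1,3], [2,1,2,0,3],
   [3], [1,3,1,3,1,3,1], [1,3,0,3,0,3], [1,3,0,3,1,2,1], [1,3,1,3,0], [0,3], [2,0,2,0],
   [0,2,1,2,1,2,1], [3,0,2,0], [1,3,0,3,0,3,0], [3,0,2,0,3], [0,3,1,2,0,3,0], [1,3,1,3,0,2,0],
   [2,0,2,0,3], [1,3,1,3,0,3,1], [3,0,2,2,1], [2,0,2,1], [2,1,3,0,3,0,2], [1,3,0,3,1,2,1,3],
   [0,2,2], [0,2,2,1,2,0], [1,3,1,3,0,3], [0,2,1,3,0], [3,0,2,0,2,2], [3,1,2,2,1,3,1],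
   [3,0,2,1,2,1,2], [2,0,3,0,3,1], [3,1,3,0,2], [1,3,1,2,1,3,1], [2,1,2,1,2,0], [0,3,1,2,2],
   [1,3,0,3,1], [1,3,1,2], [0,2,2,0,2,0,3,1], [0,3,1,2], [1,3,0,2,1,2,1], [1,3,1], [1,3,0,3,1,3],
   [0,2,2,0,2], [1,2], [1,3], [2,1,2,1,3,0], [3,1,3,0], [1,3,0,3,0,2,0], [2,1,3,1,2,1,2],
   [2,1,2,1,2,0,3], [0,3,1], [1,3,1,3], [1,3,0,3,1,2,0], [1,3,0,3,0,3,1], [2,0,2,1,2,0],
   [2,0,3,1,2], [1,3,1,3,1,2], [1,3,1,2,1,2,0], [2,1,3,0,2,0], [0,2,1,2,2,0,2], [2,0,3,1],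
   [1,3,1,3,1], [3,1,3,1,2,0], [2,1,3,1,2,0], [3,1,3,1,2,0,2], [2,1,3,1,2,0,2], [0,2,1,2,2,0],
   [2,0,3,1,3], [1,3,1,3,1,3], [0,3,1,3,0,2,1], [2,1,3,0,3,1], [0,3,1,2,0,3], [2,1], [2,0,2,2,0],
   [2,1,3,1], [1,3,0,2,1,3], [3,0,3,1,2,1,2], [2,0,3,1,2,1], [2,1,3,1,3], [3,0,3,1,2,1],
   [1,3,1,2,2,1], [3,1,3,1,2], [3,1,3,1,3], [2,1,2,1,3,0,2], [2,1,3], [3,0,3,0,2,1],
   [0,3,1,2,0,2,2], [0,2,1,2,2,1], [1,3,0,2,1,2], [2,1,3,1,2,2], [3,1,2,2,1], [1,3,1,2,0,2],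
   [0,2,2,0,2,0], [1,3,0], [0,2,2,0,2,0,3], [1,3,0,3], [1,3,1,2,0], [0,3,1,3], [3,0,3,1],
   [3,0,3,1,2], [0,2,2,0], [1,3,1,2,0,3], [2,1,2,1,2,2,1], [0,2,1,3,1], [2,0,2,0,2,0,3],
   [1,3,1,2,0,3,1], [0,3,1,3,0], [0,3,1,3,0,3], [3,1,3,0,2,1], [2,1,3,0,2,1], [2,0,2,0,2],
   [0,2,2,1,2], [1,3,1,3,0,2,2,0], [0,2,2,1], [1,3,1,3,0,3,0], [2,1,3,0,2,1,3], [3,0,2,2,0],
   [2,2,0,2], [1,3,0,2,0], [2,2,0], [2,0,2,2,1], [0,3,1,3,0,2,0], [2,0,2,0,2,0], [2,1,2,1,3],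
   [0,2,0], [2,2,0,2,0], [0,2,1,2], [2,1,2,1], [2,2,0,2,1,2], [3,1,2,2,0], [2,1,3,1,2], [3,1,3,1],
   [0,3,1,3,0,2,0,2], [0,3,1,3,0,2,1,3], [1], [2,0,3,1,3,1,2], [0,3,1,2,0,2], [2,1,3,0,2,2],
   [2,0,3,0,3,0], [0,2,1,2,2], [0,2,1,2,1], [3,0,3], [1,3,0,3,1,2], [2,2,0,2,1], [0,2,1,2,0],
   [0,2,1,2,1,2], [0,3,1,2,1], [1,3,0,2,1], [3,0,2,2], [1,3,0,3,0], [0,3,1,2,0], [2,1,3,0,3],
   [1,3,1,3,0,2,2], [1,3,1,3,1,3,0], [1,3,1,3,0,2,1], [2,1,2,1,2,2], [3,0,2,1,2], [3,1,3],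
   [1,3,1,2,2], [2,1,2,1,2], [0,2], [2,1,3,0], [2,2], [2,0,2,0,3,0], [2,2,0,2,1,3], [3,1,2], [3,0],
   [1,3,1,3,0,2], [2,0,3], [3,0,3,0], [2,0,3,0], [2,2,0,2,0,3], [1,3,0,3,0,2,1], [0,2,1],
   [0,2,2,0,2,0,2], [0,2,1,2,0,2], [2,0,3,1,2,0], [3,0,3,1,2,0], [3,1,3,0,3], [3,0,3,0,2],
   [2,1,3,1,3,0], [2,1,2], [2,2,0,2,1,2,1], [2,0,3,1,3,1], [0,2,1,2,1,3], [2,1,3,0,2], [3,0,2,0,2],
   [0,2,1,2,1,3,1], [2,0,3,0,2], [0,2,1,2,1,2,0], [3,0,2], [2,0,2], [3,0,2,1], [2,0,2,1,2], [0],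
   [3,1], [2], [3,0,3,0,3], [2,0,3,0,3], [3,1,3,0,2,0], [0,2,1,3], [2,1,3,1,2,1], [0,3,1,3,0,2],
   [1,3,0,3,0,2], [1,3,1,2,1,2], [1,3,0,2], [1,3,1,2,1,2,1], [3,1,2,2,1,3], [2,0,2,0,2,1], [1,2,2]]

theorem quartet_cert :
    certCheckN gensM12 sort4 (fun _ => qEntry 0) qEntry (List.range 220) quartetWords = true := by
  decide +kernel

theorem quartets_base_transitive {Q : Finset (Finset GolayPt)}
    (hQ : Q ∈ quartets (toFinset dod0)) :
    ∃ g ∈ stabOf [dod0], g • toQ (qEntry 0) = Q := by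
  obtain ⟨c, hc, rfl⟩ := mem_quartets_base.mp hQ
  unfold quartetList at hc
  rw [List.mem_map] at hc
  obtain ⟨k, hk, rfl⟩ := hc
  obtain ⟨x, hx, g, hg, e⟩ := certCheckN_spec gensM12_ok sort4 _ _ _ _ quartet_cert k hk
  refine ⟨g, hg, ?_⟩
  rw [← smul_toQ g _ _ e, ← hx, toQ_sort4]

theorem qEntry_zero_mem : toQ (qEntry 0) ∈ quartets (toFinset dod0) :=
  quartet_valid (by unfold quartetList; exact List.mem_map.mpr ⟨0, by simp, rfl⟩)

end Cfsg.Agent.Helper27
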