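import Mathlib
import Cfsg.Prelude.Def_SporadicCombinatorics
import Cfsg.Agent.Lib.Helper27.QuartetsTrans

set_option autoImplicit false
set_option maxRecDepth 1000000

namespace Cfsg.Agent.Helper27

open Cfsg
open scoped Pointwise

/-- The orbit of `X` under the elements of `M24` fixing `d` and `Q`, as a plain set. -/
def orbSet (d : Finset GolayPt) (Q X : Finset (Finset GolayPt)) : Set (Finset (Finset GolayPt)) :=
  {Y | ∃ g ∈ M24, g • d = d ∧ g • Q = Q ∧ g • X = Y}

theorem orbit_eq_orbSet (d : Finset GolayPt) (Q X : Finset (Finset GolayPt)) :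
    MulAction.orbit ↥(MulAction.stabilizer Cfsg.M24 d ⊓ MulAction.stabilizer Cfsg.M24 Q) X =
      orbSet d Q X := by
  ext Y
  constructor
  · rintro ⟨⟨⟨g, hg⟩, h1, h2⟩, rfl⟩
    exact ⟨g, hg, h1, h2, rfl⟩
  · rintro ⟨g, hg, h1, h2, rfl⟩
    exact ⟨⟨⟨g, hg⟩, h1, h2⟩, rfl⟩

theorem orbSet_conj {h : Equiv.Perm GolayPt} (hh : h ∈ M24) (d : Finset GolayPt)
    (Q X : Finset (Finset GolayPt)) :
    orbSet (h • d) (h • Q) (h • X) = (fun Y => h • Y) '' orbSet d Q X := by
  ext Y
  constructor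
  · rintro ⟨g, hg, h1, h2, rfl⟩
    refine ⟨(h⁻¹ * g * h) • X, ⟨h⁻¹ * g * h, ?_, ?_, ?_, rfl⟩, ?_⟩
    · exact M24.mul_mem (M24.mul_mem (M24.inv_mem hh) hg) hh
    · rw [mul_smul, mul_smul, h1, inv_smul_smul]
    · rw [mul_smul, mul_smul, h2, inv_smul_smul]
    · simp only [mul_smul, smul_inv_smul]
  · rintro ⟨Y0, ⟨g, hg, h1, h2, rfl⟩, rfl⟩
    refine ⟨h * g * h⁻¹, ?_, ?_, ?_, ?_⟩
    · exact M24.mul_mem (M24.mul_mem hh hg) (M24.inv_mem hh)
    · rw [mul_smul, mul_smul, inv_smul_smul, h1]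
    · rw [mul_smul, mul_smul, inv_smul_smul, h2]
    · simp only [mul_smul, inv_smul_smul]

theorem quartets_smul {h : Equiv.Perm GolayPt} (hh : h ∈ M24) (d : Finset GolayPt) :
    quartets (h • d) = (fun Y => h • Y) '' quartets d := by
  ext Q
  constructor
  · intro hQ
    refine ⟨h⁻¹ • Q, ?_, smul_inv_smul h Q⟩
    have := (smul_mem_quartets (M24.inv_mem hh) (h • d) Q).mpr hQ
    rwa [inv_smul_smul] at this
  · rintro ⟨P, hP, rfl⟩
    exact (smul_mem_quartets hh d P).mpr hP

/-- The intersection pattern of a family `X` relative to a family `Q`. -/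
def pat (Q X : Finset (Finset GolayPt)) : ℕ := ∑ x ∈ X, ∑ q ∈ Q, 10 ^ (x ∩ q).card

theorem pat_smul (g : Equiv.Perm GolayPt) (Q X : Finset (Finset GolayPt)) :
    pat (g • Q) (g • X) = pat Q X := by
  unfold pat
  have hinj : Function.Injective (fun s : Finset GolayPt => g • s) := MulAction.injective g
  change ∑ x ∈ X.image (fun s => g • s), ∑ q ∈ Q.image (fun s => g • s), _ = _
  rw [Finset.sum_image (fun a _ b _ e => hinj e)]
  apply Finset.sum_congr rfl
  intro x _
  rw [Finset.sum_image (fun a _ b _ e => hinj e)]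
  apply Finset.sum_congr rfl
  intro q _
  rw [← Finset.smul_finset_inter, Finset.card_smul_finset]

/-- Mask-level intersection pattern. -/
def patL (q x : List ℕ) : ℕ := (x.map fun a => (q.map fun b => 10 ^ pop (a &&& b)).sum).sum

theorem pat_toQ {q x : List ℕ} (hq : (q.map toFinset).Nodup) (hx : (x.map toFinset).Nodup) :
    pat (toQ q) (toQ x) = patL q x := by
  unfold pat patL toQ
  rw [List.sum_toFinset _ hx, List.map_map]
  congr 1
  apply List.map_congr_left
  intro a _
  simp only [Function.comp]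
  rw [List.sum_toFinset _ hq, List.map_map]
  congr 1
  apply List.map_congr_left
  intro b _
  simp only [Function.comp]
  rw [← toFinset_and, card_toFinset]

end Cfsg.Agent.Helper27
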