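import Mathlib

set_option autoImplicit false
set_option maxRecDepth 1000000

/-! # A numerical coding of `SL (Fin 2) (ZMod 11)` and its standard generators -/

namespace Cfsg.Agent.Helper27.SL211

abbrev Y := Matrix.SpecialLinearGroup (Fin 2) (ZMod 11)

instance : Fact (Nat.Prime 11) := ⟨by norm_num⟩

/-- Code of a quadruple of entries. -/
def codeOf (a b c d : ZMod 11) : ℕ := a.val + 11 * b.val + 121 * c.val + 1331 * d.val

/-- Code of a matrix. -/
def code (x : Y) : ℕ := codeOf (x.val 0 0) (x.val 0 1) (x.val 1 0) (x.val 1 1)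

/-- Product of codes. -/
def mulc (c d : ℕ) : ℕ :=
  (((c % 11) * (d % 11)) % 11 + ((c / 11 % 11) * (d / 121 % 11)) % 11) % 11 +
  11 * ((((c % 11) * (d / 11 % 11)) % 11 + ((c / 11 % 11) * (d / 1331 % 11)) % 11) % 11) +
  121 * ((((c / 121 % 11) * (d % 11)) % 11 + ((c / 1331 % 11) * (d / 121 % 11)) % 11) % 11) +
  1331 * ((((c / 121 % 11) * (d / 11 % 11)) % 11 + ((c / 1331 % 11) * (d / 1331 % 11)) % 11) % 11)

/-- The code describes a matrix of determinant one. -/
def valid (c : ℕ) : Bool :=
  (((c % 11) * (c / 1331 % 11)) % 11 + 11 - ((c / 11 % 11) * (c / 121 % 11)) % 11) % 11 == 1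

theorem codeOf_lt (a b c d : ZMod 11) : codeOf a b c d < 14641 := by
  unfold codeOf
  have := ZMod.val_lt a; have := ZMod.val_lt b; have := ZMod.val_lt c; have := ZMod.val_lt d
  omega

theorem code_lt (x : Y) : code x < 14641 := codeOf_lt _ _ _ _

theorem dig0 (a b c d : ZMod 11) : codeOf a b c d % 11 = a.val := by
  unfold codeOf
  have := ZMod.val_lt a; have := ZMod.val_lt b; have := ZMod.val_lt c; have := ZMod.val_lt d
  omega

theorem dig1 (a b c d : ZMod 11) : codeOf a b c d / 11 % 11 = b.val := by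
  unfold codeOf
  have := ZMod.val_lt a; have := ZMod.val_lt b; have := ZMod.val_lt c; have := ZMod.val_lt d
  omega

theorem dig2 (a b c d : ZMod 11) : codeOf a b c d / 121 % 11 = c.val := by
  unfold codeOf
  have := ZMod.val_lt a; have := ZMod.val_lt b; have := ZMod.val_lt c; have := ZMod.val_lt d
  omega

theorem dig3 (a b c d : ZMod 11) : codeOf a b c d / 1331 % 11 = d.val := by
  unfold codeOf
  have := ZMod.val_lt a; have := ZMod.val_lt b; have := ZMod.val_lt c; have := ZMod.val_lt d
  omega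

theorem val_dot (a b c d : ZMod 11) :
    (a * b + c * d).val = ((a.val * b.val) % 11 + (c.val * d.val) % 11) % 11 := by
  rw [ZMod.val_add, ZMod.val_mul, ZMod.val_mul]

theorem codeOf_mul (a0 a1 a2 a3 b0 b1 b2 b3 : ZMod 11) :
    codeOf (a0 * b0 + a1 * b2) (a0 * b1 + a1 * b3) (a2 * b0 + a3 * b2) (a2 * b1 + a3 * b3) =
      mulc (codeOf a0 a1 a2 a3) (codeOf b0 b1 b2 b3) := by
  unfold mulc
  simp only [dig0, dig1, dig2, dig3]
  unfold codeOf
  simp only [val_dot]

theorem code_mul (x y : Y) : code (x * y) = mulc (code x) (code y) := by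
  unfold code
  rw [← codeOf_mul]
  simp only [Matrix.SpecialLinearGroup.coe_mul, Matrix.mul_apply, Fin.sum_univ_two]

theorem codeOf_injective {a b c d a' b' c' d' : ZMod 11}
    (h : codeOf a b c d = codeOf a' b' c' d') : a = a' ∧ b = b' ∧ c = c' ∧ d = d' := by
  have h0 := congrArg (· % 11) h
  have h1 := congrArg (· / 11 % 11) h
  have h2 := congrArg (· / 121 % 11) h
  have h3 := congrArg (· / 1331 % 11) h
  simp only [dig0, dig1, dig2, dig3] at h0 h1 h2 h3
  exact ⟨ZMod.val_injective _ h0, ZMod.val_injective _ h1, ZMod.val_injective _ h2,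
    ZMod.val_injective _ h3⟩

theorem code_injective : Function.Injective code := by
  intro x y h
  obtain ⟨h0, h1, h2, h3⟩ := codeOf_injective h
  apply Matrix.SpecialLinearGroup.ext
  intro i j
  fin_cases i <;> fin_cases j <;> assumption

theorem code_valid (x : Y) : valid (code x) = true := by
  have hdet := x.det_coe
  rw [Matrix.det_fin_two] at hdet
  unfold valid code
  simp only [dig0, dig1, dig2, dig3, beq_iff_eq]
  have h1 : ((x.val 0 0 * x.val 1 1 - x.val 0 1 * x.val 1 0 : ZMod 11)).val = 1 := by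
    rw [hdet]; rfl
  have key : ∀ u v : ZMod 11, (u - v).val = (u.val + 11 - v.val) % 11 := by decide
  rw [key, ZMod.val_mul, ZMod.val_mul] at h1
  exact h1

/-- Upper unitriangular matrix. -/
def U (t : ZMod 11) : Y := ⟨!![1, t; 0, 1], by simp [Matrix.det_fin_two]⟩

/-- Lower unitriangular matrix. -/
def L (t : ZMod 11) : Y := ⟨!![1, 0; t, 1], by simp [Matrix.det_fin_two]⟩

theorem coe_U (t : ZMod 11) : (U t).val = !![1, t; 0, 1] := rfl
theorem coe_L (t : ZMod 11) : (L t).val = !![1, 0; t, 1] := rfl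

theorem U_add (s t : ZMod 11) : U (s + t) = U s * U t := by
  apply Subtype.ext
  rw [Matrix.SpecialLinearGroup.coe_mul, coe_U, coe_U, coe_U, Matrix.mul_fin_two]
  simp [add_comm]

theorem L_add (s t : ZMod 11) : L (s + t) = L s * L t := by
  apply Subtype.ext
  rw [Matrix.SpecialLinearGroup.coe_mul, coe_L, coe_L, coe_L, Matrix.mul_fin_two]
  simp [add_comm]

theorem U_zero : U 0 = 1 := by
  apply Subtype.ext
  rw [coe_U, Matrix.SpecialLinearGroup.coe_one, Matrix.one_fin_two]

theorem L_zero : L 0 = 1 := by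
  apply Subtype.ext
  rw [coe_L, Matrix.SpecialLinearGroup.coe_one, Matrix.one_fin_two]

theorem U_pow (n : ℕ) : U 1 ^ n = U (n : ZMod 11) := by
  induction n with
  | zero => simp [U_zero]
  | succ n ih => rw [pow_succ, ih, ← U_add]; push_cast; rfl

theorem L_pow (n : ℕ) : L 1 ^ n = L (n : ZMod 11) := by
  induction n with
  | zero => simp [L_zero]
  | succ n ih => rw [pow_succ, ih, ← L_add]; push_cast; rfl

theorem U_mem (t : ZMod 11) : U t ∈ Subgroup.closure ({U 1, L 1} : Set Y) := by
  have : U t = U 1 ^ t.val := by rw [U_pow, ZMod.natCast_zmod_val]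
  rw [this]
  exact Subgroup.pow_mem _ (Subgroup.subset_closure (by simp)) _

theorem L_mem (t : ZMod 11) : L t ∈ Subgroup.closure ({U 1, L 1} : Set Y) := by
  have : L t = L 1 ^ t.val := by rw [L_pow, ZMod.natCast_zmod_val]
  rw [this]
  exact Subgroup.pow_mem _ (Subgroup.subset_closure (by simp)) _

theorem factor (x : Y) (hc : x.val 1 0 ≠ 0) :
    x = U ((x.val 0 0 - 1) / x.val 1 0) * L (x.val 1 0) * U ((x.val 1 1 - 1) / x.val 1 0) := by
  have hdet := x.det_coe
  rw [Matrix.det_fin_two] at hdet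
  apply Matrix.SpecialLinearGroup.ext
  intro i j
  rw [Matrix.SpecialLinearGroup.coe_mul, Matrix.SpecialLinearGroup.coe_mul, coe_U, coe_U, coe_L]
  fin_cases i <;> fin_cases j
  · simp [Matrix.mul_apply, Fin.sum_univ_two]
    field_simp
    ring
  · simp [Matrix.mul_apply, Fin.sum_univ_two]
    field_simp
    linear_combination (-1 : ZMod 11) * hdet
  · simp [Matrix.mul_apply, Fin.sum_univ_two]
  · simp [Matrix.mul_apply, Fin.sum_univ_two]
    field_simp
    ring

theorem closure_eq_top : Subgroup.closure ({U 1, L 1} : Set Y) = ⊤ := by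
  rw [eq_top_iff]
  intro x _
  have key : ∀ y : Y, y.val 1 0 ≠ 0 → y ∈ Subgroup.closure ({U 1, L 1} : Set Y) := by
    intro y hy
    rw [factor y hy]
    exact Subgroup.mul_mem _ (Subgroup.mul_mem _ (U_mem _) (L_mem _)) (U_mem _)
  by_cases hc : x.val 1 0 = 0
  · -- multiply by `L 1`
    have hdet := x.det_coe
    rw [Matrix.det_fin_two, hc, mul_zero, sub_zero] at hdet
    have ha : x.val 0 0 ≠ 0 := by
      intro h; rw [h, zero_mul] at hdet; exact zero_ne_one hdet
    have h1 : (L 1 * x).val 1 0 ≠ 0 := by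
      rw [Matrix.SpecialLinearGroup.coe_mul, coe_L, Matrix.mul_apply, Fin.sum_univ_two]
      simp [hc, ha]
    have h2 := key _ h1
    have : x = (L 1)⁻¹ * (L 1 * x) := by group
    rw [this]
    exact Subgroup.mul_mem _ (Subgroup.inv_mem _ (L_mem 1)) h2
  · exact key x hc


/-- A map that is multiplicative in its first argument on a generating set is a homomorphism. -/
theorem map_mul_of_gens {G H : Type*} [Group G] [Group H] (f : G → H) (S : Set G)
    (hS : Subgroup.closure S = ⊤) (h1 : f 1 = 1)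
    (hmul : ∀ s ∈ S, ∀ y, f (s * y) = f s * f y) : ∀ x y, f (x * y) = f x * f y := by
  intro x
  have hx : x ∈ Subgroup.closure S := by rw [hS]; trivial
  induction hx using Subgroup.closure_induction with
  | mem s hs => exact hmul s hs
  | one => intro y; rw [one_mul, h1, one_mul]
  | mul a b _ _ iha ihb =>
    intro y
    rw [mul_assoc, iha, ihb, iha b, mul_assoc]
  | inv a _ iha =>
    intro y
    have e1 : f y = f a * f (a⁻¹ * y) := by rw [← iha, mul_inv_cancel_left]
    have e2 : f 1 = f a * f (a⁻¹ * 1) := by rw [← iha, mul_inv_cancel_left]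
    rw [mul_one, h1] at e2
    have e3 : f a⁻¹ = (f a)⁻¹ := (eq_inv_of_mul_eq_one_right e2.symm)
    rw [e3, e1, inv_mul_cancel_left]

end Cfsg.Agent.Helper27.SL211
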