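import Mathlib

set_option autoImplicit false

/-! # Recognising a split extension `N ⋊ X` inside a finite group by counting -/

namespace Cfsg.Agent.Helper27

/-- Let `H` be a finite group of order `|N| * |X|`, where `N` is a subgroup and `ψ : X →* H` is a
homomorphism meeting `N` trivially and normalising `N`.  Then `N` is normal and `H ⧸ N ≃* X`. -/
theorem splitExt_of_card {H X : Type*} [Group H] [Group X] [Finite H] [Finite X]
    (ψ : X →* H) (N : Subgroup H)
    (ha : ∀ x, ψ x ∈ N → x = 1)
    (hb : ∀ x, ∀ m ∈ N, ψ x * m * (ψ x)⁻¹ ∈ N)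
    (hcard : Nat.card H = Nat.card N * Nat.card X) :
    ∃ (_ : N.Normal), Nonempty (H ⧸ N ≃* X) := by
  -- the product map is injective, hence bijective
  let f : ↥N × X → H := fun p => (p.1 : H) * ψ p.2
  have hf_inj : Function.Injective f := by
    rintro ⟨m, x⟩ ⟨m', x'⟩ h
    simp only [f] at h
    have h1 : ψ (x * x'⁻¹) = (m : H)⁻¹ * m' := by
      rw [map_mul, map_inv, eq_inv_mul_iff_mul_eq, ← mul_assoc, h, mul_assoc, mul_inv_cancel, mul_one]
    have h2 : ψ (x * x'⁻¹) ∈ N := by
      rw [h1]; exact N.mul_mem (N.inv_mem m.2) m'.2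
    have h3 := ha _ h2
    have hx : x = x' := by
      rw [mul_inv_eq_one] at h3; exact h3
    subst hx
    have hm : (m : H) = m' := mul_right_cancel h
    exact Prod.ext (Subtype.ext hm) rfl
  have hf_bij : Function.Bijective f := by
    rw [Nat.bijective_iff_injective_and_card]
    refine ⟨hf_inj, ?_⟩
    rw [Nat.card_prod, hcard]
  have hN : N.Normal := by
    constructor
    intro n hn g
    obtain ⟨⟨m, x⟩, rfl⟩ := hf_bij.2 g
    simp only [f]
    have : (m : H) * ψ x * n * ((m : H) * ψ x)⁻¹ = (m : H) * (ψ x * n * (ψ x)⁻¹) * (m : H)⁻¹ := by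
      group
    rw [this]
    exact N.mul_mem (N.mul_mem m.2 (hb x n hn)) (N.inv_mem m.2)
  refine ⟨hN, ?_⟩
  let φ : X →* H ⧸ N := (QuotientGroup.mk' N).comp ψ
  have hφ_inj : Function.Injective φ := by
    rw [injective_iff_map_eq_one]
    intro x hx
    apply ha
    have : (QuotientGroup.mk' N) (ψ x) = 1 := hx
    rwa [QuotientGroup.mk'_apply, QuotientGroup.eq_one_iff] at this
  have hcq : Nat.card (H ⧸ N) = Nat.card X := by
    have h1 := Subgroup.card_eq_card_quotient_mul_card_subgroup N
    rw [hcard] at h1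
    have hNpos : 0 < Nat.card N := Nat.card_pos
    have : Nat.card N * Nat.card X = Nat.card N * Nat.card (H ⧸ N) := by rw [h1, mul_comm]
    exact (Nat.eq_of_mul_eq_mul_left hNpos this).symm
  have hφ_bij : Function.Bijective φ := by
    rw [Nat.bijective_iff_injective_and_card]
    exact ⟨hφ_inj, hcq.symm⟩
  exact ⟨(MulEquiv.ofBijective φ hφ_bij).symm⟩

/-- Transport of "has a normal subgroup of order `n` with quotient `X`" along an isomorphism. -/
theorem exists_normal_quotient_of_mulEquiv {G G0 X : Type*} [Group G] [Group G0] [Group X]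
    (e : G ≃* G0) (n : ℕ)
    (h : ∃ (N0 : Subgroup G0) (_ : N0.Normal), Nat.card N0 = n ∧ Nonempty (G0 ⧸ N0 ≃* X)) :
    ∃ (N : Subgroup G) (_ : N.Normal), Nat.card N = n ∧ Nonempty (G ⧸ N ≃* X) := by
  obtain ⟨N0, hN0, hc, ⟨q⟩⟩ := h
  refine ⟨N0.comap e.toMonoidHom, Subgroup.Normal.comap hN0 _, ?_, ?_⟩
  · rw [← hc]
    apply Nat.card_congr
    exact
      { toFun := fun g => ⟨e g.1, g.2⟩
        invFun := fun g => ⟨e.symm g.1, by
          show e.toMonoidHom (e.symm g.1) ∈ N0
          simp⟩
        left_inv := fun g => Subtype.ext (e.symm_apply_apply g.1)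
        right_inv := fun g => Subtype.ext (e.apply_symm_apply g.1) }
  · have hmap : (N0.comap e.toMonoidHom).map e.toMonoidHom = N0 :=
      Subgroup.map_comap_eq_self_of_surjective e.surjective N0
    exact ⟨(QuotientGroup.congr (N0.comap e.toMonoidHom) N0 e hmap).trans q⟩

end Cfsg.Agent.Helper27
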