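import Mathlib
import Cfsg.Prelude.Def_SporadicCombinatorics
import Cfsg.Agent.Lib.Helper27.Duads

set_option autoImplicit false
set_option maxRecDepth 1000000

namespace Cfsg.Agent.Helper27

open Cfsg
open scoped Pointwise

/-- The positions (below 24) of the set bits of `M`. -/
def bitsOf (M : ℕ) : List ℕ := (List.range 24).filter fun i => M.testBit i

/-- All OR-combinations of `2 ^ b` for `b` in the list. -/
def subsOf : List ℕ → List ℕ
  | [] => [0]
  | b :: bs => subsOf bs ++ (subsOf bs).map (fun m => m ||| 2 ^ b)

theorem mem_subsOf (bits : List ℕ) (m : ℕ) (h : ∀ i, m.testBit i = true → i ∈ bits) :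
    m ∈ subsOf bits := by
  induction bits generalizing m with
  | nil =>
    have : m = 0 := by
      apply Nat.eq_of_testBit_eq
      intro i
      rw [Nat.zero_testBit]
      by_contra hne
      have := h i (by simpa using hne)
      simp at this
    rw [this]; simp [subsOf]
  | cons b bs ih =>
    rw [subsOf, List.mem_append]
    by_cases hb : m.testBit b = true
    · right
      rw [List.mem_map]
      refine ⟨m ^^^ 2 ^ b, ih _ ?_, ?_⟩
      · intro i hi
        rw [Nat.testBit_xor, Nat.testBit_two_pow] at hi
        by_cases hib : b = i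
        · subst hib
          rw [hb] at hi
          simp at hi
        · have h1 : m.testBit i = true := by simpa [hib] using hi
          rcases List.mem_cons.mp (h i h1) with h2 | h2
          · exact absurd h2.symm hib
          · exact h2
      · apply Nat.eq_of_testBit_eq
        intro i
        rw [Nat.testBit_or, Nat.testBit_xor, Nat.testBit_two_pow]
        by_cases hib : b = i
        · subst hib; simp [hb]
        · simp [hib]
    · left
      apply ih
      intro i hi
      rcases List.mem_cons.mp (h i hi) with h2 | h2
      · rw [h2] at hi; exact absurd hi hb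
      · exact h2

theorem mem_bitsOf {M i : ℕ} : i ∈ bitsOf M ↔ i < 24 ∧ M.testBit i = true := by
  unfold bitsOf
  rw [List.mem_filter, List.mem_range]

/-- A subset of `toFinset M` is `toFinset` of a member of the enumerated list of submasks. -/
theorem exists_submask {t : Finset GolayPt} {M : ℕ} (h : t ⊆ toFinset M) :
    ∃ a ∈ subsOf (bitsOf M), a < 2 ^ 24 ∧ t = toFinset a := by
  refine ⟨maskOf t, mem_subsOf _ _ ?_, maskOf_lt t, (toFinset_maskOf t).symm⟩
  intro i hi
  rw [testBit_maskOf] at hi
  simp only [Bool.and_eq_true, decide_eq_true_eq] at hi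
  rw [mem_bitsOf]
  refine ⟨hi.1, ?_⟩
  have := h hi.2
  rwa [pt_mem_toFinset hi.1] at this

theorem pop_or_add_pop_and (a b : ℕ) : pop (a ||| b) + pop (a &&& b) = pop a + pop b := by
  rw [← card_toFinset, ← card_toFinset, ← card_toFinset, ← card_toFinset, toFinset_or,
    toFinset_and, Finset.card_union_add_card_inter]

theorem toFinset_subset_iff {a b : ℕ} (ha : a < 2 ^ 24) :
    toFinset a ⊆ toFinset b ↔ b &&& a = a := by
  rw [← Finset.inter_eq_right, ← toFinset_and, toFinset_eq_iff]
  have h1 : b &&& a ≤ a := Nat.and_le_right
  rw [Nat.mod_eq_of_lt (lt_of_le_of_lt h1 ha), Nat.mod_eq_of_lt ha]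

end Cfsg.Agent.Helper27
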